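import Cfsg.Agent.OCase.Family

/-!
Type and discriminant (odd characteristic).
-/

set_option autoImplicit false
set_option linter.unusedSectionVars false

namespace Cfsg.Agent.OCase

open QuadraticMap Module Cfsg.Agent.Orth Cfsg.Geo

variable {F V V₁ V₂ : Type*} [Field F] [AddCommGroup V] [Module F V] [FiniteDimensional F V]
  [AddCommGroup V₁] [Module F V₁] [FiniteDimensional F V₁] [AddCommGroup V₂] [Module F V₂]
  [FiniteDimensional F V₂]

theorem gram_map {Q₁ : QuadraticForm F V₁} {Q₂ : QuadraticForm F V₂} (e : V₁ ≃ₗ[F] V₂)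
    (h : ∀ v, Q₂ (e v) = Q₁ v) {ι : Type*} (b : Basis ι F V₁) : gram Q₂ (b.map e) = gram Q₁ b := by
  ext i j
  simp only [gram, Matrix.of_apply, Basis.map_apply, polar, ← map_add, h]

/-- the type is given by the discriminant -/
theorem isPlus_iff_isSquare [Finite F] (h2 : (2 : F) ≠ 0) {Q : QuadraticForm F V}
    (hQ : (polarBilin Q).Nondegenerate) {m : ℕ} (hV : finrank F V = 2 * m) {ι : Type*} [Fintype ι]
    [DecidableEq ι] (b : Basis ι F V) : IsPlus Q ↔ IsSquare ((-1) ^ m * (gram Q b).det) := by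
  have hm1 : ((-1 : F) ^ m) * (-1) ^ m = 1 := by rw [← mul_pow]; simp
  have hm0 : (-1 : F) ^ m ≠ 0 := pow_ne_zero _ (by simp)
  by_cases hp : IsPlus Q
  · obtain ⟨g, hg⟩ := hp.exists_isom hQ hV
    simp only [hp, true_iff]
    obtain ⟨c, hc, h⟩ := gram_det_rel Q ((Pi.basisFun F (Fin m ⊕ Fin m)).map g) b
    rw [gram_map g hg, det_gram_qfPlus] at h
    rw [h]
    exact ⟨c, by linear_combination c ^ 2 * hm1⟩
  · simp only [hp, false_iff]
    rcases m with _ | m
    · exact absurd ⟨⊥, fun u hu => by rw [(Submodule.mem_bot F).1 hu, QuadraticMap.map_zero],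
        by rw [finrank_bot, hV]⟩ hp
    obtain ⟨ζ, g, hζ, hg⟩ := exists_isom_of_not_isPlus hQ hV hp
    obtain ⟨c, hc, h⟩ := gram_det_rel Q ((Pi.basisFun F ((Fin m ⊕ Fin m) ⊕ Fin 2)).map g) b
    rw [gram_map g hg, det_gram_qfMinus] at h
    have h3 := not_isSquare_disc h2 (aniso_of_root hζ)
    have h4 : (-1 : F) ^ (m + 1) * (gram Q b).det = c ^ 2 * (1 ^ 2 - 4 * ζ) := by
      rw [h, pow_succ]
      have hm2 : ((-1 : F) ^ m) * (-1) ^ m = 1 := by rw [← mul_pow]; simp
      linear_combination c ^ 2 * (1 - 4 * ζ) * hm2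
    rw [h4, isSquare_mul_iff_of_sq ⟨c, pow_two c⟩ (pow_ne_zero 2 hc)]
    exact h3

/-- the discriminant of an orthogonal sum -/
theorem gram_det_split {Q : QuadraticForm F V} (hQ : (polarBilin Q).Nondegenerate) {W : Submodule F V}
    (hW : W ⊓ perp Q W = ⊥) {ι₁ ι₂ : Type*} [Fintype ι₁] [DecidableEq ι₁] [Fintype ι₂] [DecidableEq ι₂]
    (b₁ : Basis ι₁ F W) (b₂ : Basis ι₂ F (perp Q W)) :
    (gram Q ((b₁.prod b₂).map (splitEquiv Q hQ W hW))).det =
      (gram (Q.restrict W) b₁).det * (gram (Q.restrict (perp Q W)) b₂).det := by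
  rw [gram_map _ (splitEquiv_q Q hQ W hW)]
  have : gram ((Q.restrict W).prod (Q.restrict (perp Q W))) (b₁.prod b₂) =
      Matrix.fromBlocks (gram (Q.restrict W) b₁) 0 0 (gram (Q.restrict (perp Q W)) b₂) := by
    ext i j
    rcases i with i | i <;> rcases j with j | j <;>
      simp [gram, polar_prod]
  rw [this, Matrix.det_fromBlocks_zero₂₁]

/-- two non-degenerate spaces of the same dimension are isometric iff the product of the discriminants is a square -/
theorem exists_isom_iff_isSquare [Finite F] (h2 : (2 : F) ≠ 0) {Q₁ : QuadraticForm F V₁} {Q₂ : QuadraticForm F V₂}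
    (hQ₁ : (polarBilin Q₁).Nondegenerate) (hQ₂ : (polarBilin Q₂).Nondegenerate)
    (hd : finrank F V₁ = finrank F V₂) {ι₁ ι₂ : Type*} [Fintype ι₁] [DecidableEq ι₁] [Fintype ι₂]
    [DecidableEq ι₂] (b₁ : Basis ι₁ F V₁) (b₂ : Basis ι₂ F V₂) :
    (∃ g : V₁ ≃ₗ[F] V₂, ∀ v, Q₂ (g v) = Q₁ v) ↔ IsSquare ((gram Q₁ b₁).det * (gram Q₂ b₂).det) := by
  constructor
  · rintro ⟨g, hg⟩
    obtain ⟨c, hc, h⟩ := gram_det_rel Q₂ (b₁.map g) b₂
    rw [gram_map g hg] at h
    rw [h]
    exact ⟨c * (gram Q₁ b₁).det, by ring⟩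
  · exact exists_isom_of_disc h2 hQ₁ hQ₂ hd b₁ b₂

/-- a non-degenerate subspace and its perp (of the same dimension) are isometric iff the discriminant is a square -/
theorem isom_perp_iff [Finite F] (h2 : (2 : F) ≠ 0) {Q : QuadraticForm F V} (hQ : (polarBilin Q).Nondegenerate)
    {W : Submodule F V} (hW : W ⊓ perp Q W = ⊥) (hd : 2 * finrank F W = finrank F V) {ι : Type*} [Fintype ι]
    [DecidableEq ι] (b : Basis ι F V) :
    (∃ g : W ≃ₗ[F] perp Q W, ∀ v, Q.restrict (perp Q W) (g v) = Q.restrict W v) ↔ IsSquare (gram Q b).det := by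
  have hp := finrank_perp hQ W
  rw [exists_isom_iff_isSquare h2 (nondegenerate_restrict hW) (nondegenerate_restrict (perp_inf_eq_bot hQ hW))
    (by omega) (finBasis F W) (finBasis F (perp Q W)), ← gram_det_split hQ hW]
  exact gram_isSquare_iff Q _ _

section decomp

variable {ι : Type} [Fintype ι] [DecidableEq ι] {F : Type*} [Field F]

/-- the discriminant of an isometric decomposition is a `t`-th power (up to squares) -/
theorem exists_gram_det_decomp [Finite F] (h2 : (2 : F) ≠ 0) {Q : QuadraticForm F (ι → F)} {t k : ℕ}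
    {D : Fin t → Submodule F (ι → F)} (hD : IsOrthogonalMDecomposition ⇑Q k D) {κ : Type*} [Fintype κ]
    [DecidableEq κ] (b : Basis κ F (ι → F)) :
    ∃ c d : F, c ≠ 0 ∧ d ≠ 0 ∧ (gram Q b).det = c ^ 2 * d ^ t := by
  have ht : 0 < t := by have := hD.decomp.decomp.two_le; omega
  obtain ⟨g, hg⟩ := exists_isom_pi hD ⟨0, ht⟩
  have hn := isNondegenerateOn_restrict (hD.decomp.nondegenerate ⟨0, ht⟩)
  have hk := hD.decomp.decomp.pos
  obtain ⟨l, rfl⟩ : ∃ l, k = l + 1 := ⟨k - 1, by omega⟩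
  obtain ⟨b₀, d₀, hd₀, hb₀, -⟩ := exists_diag_basis hn h2 (hD.decomp.decomp.finrank_eq ⟨0, ht⟩)
  set B := ((Pi.basis fun _ : Fin t => b₀).map g) with hB
  obtain ⟨c, hc, h⟩ := gram_det_rel Q B b
  have hdiag : (gram Q B).det = (∏ i, (2 * Q.restrict (D ⟨0, ht⟩) (b₀ i))) ^ t := by
    rw [hB, gram_map g hg, gram_diag]
    · rw [Fintype.prod_sigma]
      simp only [Pi.basis_apply]
      have : ∀ (x : Fin t) (y : Fin (l + 1)), (QuadraticMap.pi fun _ : Fin t => Q.restrict (D ⟨0, ht⟩))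
          (Pi.single x (b₀ y)) = Q.restrict (D ⟨0, ht⟩) (b₀ y) := by
        intro x y
        rw [QuadraticMap.pi_apply_single]
      simp only [this, Finset.prod_const, Finset.card_univ, Fintype.card_fin]
    · rintro ⟨i, a⟩ ⟨j, a'⟩ hne
      simp only [Pi.basis_apply]
      rw [polar_pi_apply]
      refine Finset.sum_eq_zero fun x _ => ?_
      by_cases hxi : x = i
      · subst hxi
        by_cases hxj : x = j
        · subst hxj
          rw [Pi.single_eq_same, Pi.single_eq_same]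
          exact hb₀.p _ _ fun h => hne (by rw [h])
        · rw [Pi.single_eq_of_ne hxj, polar_zero_right]
      · rw [Pi.single_eq_of_ne hxi, polar_zero_left]
  refine ⟨c, _, hc, ?_, by rw [h, hdiag]⟩
  exact Finset.prod_ne_zero_iff.2 fun i _ => mul_ne_zero h2 (hb₀.q i)

/-- in odd characteristic with an even number of summands the type is that of `(-1)^{n/2}` -/
theorem isPlus_iff_of_decomp_even [Finite F] (h2 : (2 : F) ≠ 0) {Q : QuadraticForm F (ι → F)}
    (hQ : (polarBilin Q).Nondegenerate) {t k : ℕ}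
    {D : Fin t → Submodule F (ι → F)} (hD : IsOrthogonalMDecomposition ⇑Q k D) (ht : Even t) {m : ℕ}
    (hm : Fintype.card ι = 2 * m) : IsPlus Q ↔ IsSquare ((-1 : F) ^ m) := by
  obtain ⟨c, d, hc, hd, h⟩ := exists_gram_det_decomp h2 hD (Pi.basisFun F ι)
  rw [isPlus_iff_isSquare h2 hQ (by rw [finrank_fintype_fun_eq_card, hm]) (Pi.basisFun F ι), h]
  obtain ⟨s, hs⟩ := ht
  have : (-1 : F) ^ m * (c ^ 2 * d ^ t) = (c * d ^ s) ^ 2 * (-1) ^ m := by rw [hs]; ring
  rw [this, isSquare_mul_iff_of_sq ⟨c * d ^ s, pow_two _⟩ (pow_ne_zero 2 (mul_ne_zero hc (pow_ne_zero _ hd)))]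

end decomp

end Cfsg.Agent.OCase
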