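import Cfsg.Agent.OCase.HermClass

/-!
Quadratic spaces over `F` with a self-adjoint action of an extension field `E`: the `E`-valued quadratic form.
-/

set_option autoImplicit false
set_option linter.unusedSectionVars false

namespace Cfsg.Agent.OCase

open QuadraticMap Module Cfsg.Agent.Orth

section zeta

theorem exists_zeta (F : Type*) [Field F] [Finite F] : ∃ ζ : F, ∀ t : F, t ^ 2 + t + ζ ≠ 0 := by
  by_contra hcon
  push Not at hcon
  have hsurj : Function.Surjective fun t : F => -(t ^ 2 + t) := by
    intro ζ
    obtain ⟨t, ht⟩ := hcon ζ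
    exact ⟨t, by linear_combination -ht⟩
  have hinj := Finite.injective_iff_surjective.2 hsurj
  have h1 : (0 : F) = -1 := hinj (by ring)
  have h2 : (1 : F) = 0 := by linear_combination h1
  exact one_ne_zero h2

theorem no_root_of_odd {F E : Type*} [Field F] [Field E] [Algebra F E] [FiniteDimensional F E]
    (hr : Odd (finrank F E)) {ζ : F} (h : ∀ t : F, t ^ 2 + t + ζ ≠ 0) (t : E) :
    t ^ 2 + t + algebraMap F E ζ ≠ 0 := by
  intro ht
  have hint : IsIntegral F t := IsIntegral.of_finite F t
  have hdvd := minpoly.degree_dvd (K := F) hint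
  have hp : Polynomial.aeval t (Polynomial.X ^ 2 + Polynomial.X + Polynomial.C ζ : Polynomial F) = 0 := by
    simpa using ht
  have hp0 : (Polynomial.X ^ 2 + Polynomial.X + Polynomial.C ζ : Polynomial F).natDegree = 2 := by
    compute_degree!
  have hp1 : (Polynomial.X ^ 2 + Polynomial.X + Polynomial.C ζ : Polynomial F) ≠ 0 := by
    intro h0
    rw [h0, Polynomial.natDegree_zero] at hp0
    omega
  have hle : (minpoly F t).natDegree ≤ 2 := by
    rw [← hp0]
    exact Polynomial.natDegree_le_of_dvd (minpoly.dvd F t hp) hp1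
  have hpos := minpoly.natDegree_pos hint
  have h1 : (minpoly F t).natDegree = 1 := by
    by_contra hne
    have h2 : (minpoly F t).natDegree = 2 := by omega
    rw [h2] at hdvd
    exact (Nat.not_even_iff_odd.2 hr) (even_iff_two_dvd.2 hdvd)
  obtain ⟨c, hc⟩ := minpoly.natDegree_eq_one_iff.mp h1
  apply h c
  apply (algebraMap F E).injective
  rw [_root_.map_add, _root_.map_add, map_pow, hc, map_zero]
  exact ht

end zeta

section trace

variable {F E : Type*} [Field F] [Finite F] [Field E] [Algebra F E] [FiniteDimensional F E]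

theorem exists_trace_rep (f : E →ₗ[F] F) : ∃ s : E, ∀ x, Algebra.trace F E (x * s) = f x := by
  have hn := traceForm_nondegenerate F E
  refine ⟨((Algebra.traceForm F E).toDual hn).symm f, fun x => ?_⟩
  have := LinearMap.BilinForm.apply_toDual_symm_apply (B := Algebra.traceForm F E) (hB := hn) f x
  rw [Algebra.traceForm_apply] at this
  rw [mul_comm]
  exact this

theorem trace_ext {s : E} (h : ∀ x, Algebra.trace F E (x * s) = 0) : s = 0 := by
  have hn := traceForm_nondegenerate F E
  refine hn.1 s fun x => ?_
  rw [Algebra.traceForm_apply, mul_comm]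
  exact h x

theorem finite_ext (F E : Type*) [Field F] [Finite F] [Field E] [Algebra F E] [FiniteDimensional F E] :
    Finite E := Module.finite_of_finite F

theorem exists_sqrt_of_two {E : Type*} [Field E] [Finite E] (h2 : (2 : E) = 0) (x : E) : ∃ y : E, y * y = x := by
  haveI : CharP E 2 := CharTwo.of_one_ne_zero_of_two_eq_zero one_ne_zero h2
  haveI := Fintype.ofFinite E
  obtain ⟨t, ht⟩ := FiniteField.isSquare_of_char_two (by rw [ringChar.eq_iff]; infer_instance) x
  exact ⟨t, ht.symm⟩

theorem two_alg {F E : Type*} [Field F] [Field E] [Algebra F E] (h2 : (2 : F) = 0) : (2 : E) = 0 := by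
  have := congrArg (algebraMap F E) h2
  rwa [map_ofNat, _root_.map_zero] at this

theorem trace_sq_ext {s : E} (h : ∀ e : E, Algebra.trace F E (e * e * s) = 0) : s = 0 := by
  haveI : Finite E := finite_ext F E
  apply trace_ext (F := F)
  intro x
  by_cases h2 : (2 : F) = 0
  · obtain ⟨y, hy⟩ := exists_sqrt_of_two (two_alg h2 : (2 : E) = 0) x
    rw [← hy]; exact h y
  · have h3 : algebraMap F E 4 * (x * s) = (x + 1) * (x + 1) * s - (x - 1) * (x - 1) * s := by
      have : algebraMap F E 4 = 4 := map_ofNat _ 4
      rw [this]; ring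
    have h4 : (4 : F) • (x * s) = (x + 1) * (x + 1) * s - (x - 1) * (x - 1) * s := by
      rw [Algebra.smul_def]; exact h3
    have h5 : (4 : F) * Algebra.trace F E (x * s) = 0 := by
      rw [← smul_eq_mul, ← _root_.map_smul, h4, _root_.map_sub, h, h, sub_zero]
    have h6 : (4 : F) ≠ 0 := by
      have : (4 : F) = 2 * 2 := by norm_num
      rw [this]; exact mul_ne_zero h2 h2
    exact (mul_eq_zero.1 h5).resolve_left h6

end trace

section ext

variable {F E V : Type*} [Field F] [Finite F] [Field E] [Algebra F E] [FiniteDimensional F E]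
  [AddCommGroup V] [Module F V] [Module E V] [IsScalarTower F E V] {Q : QuadraticForm F V}

/-- `E` acts by self-adjoint maps -/
def SA (E : Type*) {F V : Type*} [Field F] [Field E] [Algebra F E] [AddCommGroup V] [Module F V] [Module E V]
    (Q : QuadraticForm F V) : Prop := ∀ (e : E) (v w : V), polar Q (e • v) w = polar Q v (e • w)

theorem SA.two (hs : SA E Q) (h2 : (2 : F) = 0) (e : E) (v : V) : polar Q (e • v) v = 0 := by
  haveI : Finite E := finite_ext F E
  obtain ⟨y, hy⟩ := exists_sqrt_of_two (two_alg h2 : (2 : E) = 0) e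
  rw [← hy, mul_smul, hs, pself, h2, zero_mul]

theorem exists_BE (Q : QuadraticForm F V) (v w : V) :
    ∃ s : E, ∀ x : E, Algebra.trace F E (x * s) = polar Q (x • v) w := by
  refine exists_trace_rep ⟨⟨fun x => polar Q (x • v) w, ?_⟩, ?_⟩
  · intro x y
    rw [add_smul, pal]
  · intro c x
    change polar Q ((c • x) • v) w = c * polar Q (x • v) w
    rw [smul_assoc, psl]

/-- the `E`-valued polar form -/
noncomputable def BE (E : Type*) {F V : Type*} [Field F] [Finite F] [Field E] [Algebra F E]
    [FiniteDimensional F E] [AddCommGroup V] [Module F V] [Module E V] [IsScalarTower F E V]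
    (Q : QuadraticForm F V) (v w : V) : E := (exists_BE (E := E) Q v w).choose

theorem BE_spec (v w : V) (x : E) : Algebra.trace F E (x * BE E Q v w) = polar Q (x • v) w :=
  (exists_BE (E := E) Q v w).choose_spec x

theorem BE_unique {v w : V} {s : E} (h : ∀ x : E, Algebra.trace F E (x * s) = polar Q (x • v) w) :
    BE E Q v w = s := by
  rw [← sub_eq_zero]
  apply trace_ext (F := F)
  intro x
  rw [mul_sub, _root_.map_sub, BE_spec, h, sub_self]

theorem exists_QE (hs : SA E Q) (v : V) :
    ∃ s : E, ∀ e : E, Algebra.trace F E (e * e * s) = Q (e • v) := by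
  haveI : Finite E := finite_ext F E
  by_cases h2 : (2 : F) = 0
  · have h2E : (2 : E) = 0 := two_alg h2
    choose r hr using exists_sqrt_of_two h2E
    have hneg : ∀ a : E, -a = a := fun a => by linear_combination -a * h2E
    have hinj : ∀ a b : E, a * a = b * b → a = b := by
      intro a b hab
      have : (a - b) * (a - b) = 0 := by linear_combination hab + (b * b - a * b) * h2E
      exact sub_eq_zero.1 (mul_self_eq_zero.1 this)
    have hadd : ∀ a b, r (a + b) = r a + r b := by
      intro a b
      apply hinj
      rw [hr]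
      linear_combination -hr a - hr b - (r a * r b) * h2E
    have hmul : ∀ a b, r (a * b) = r a * r b := by
      intro a b
      apply hinj
      rw [hr]
      linear_combination -(r b * r b) * hr a - a * hr b
    have hsq : ∀ a : E, r (a * a) = a := fun a => hinj _ _ (hr _)
    haveI : Finite F := inferInstance
    obtain ⟨s, hs'⟩ := exists_trace_rep (E := E) (F := F) ⟨⟨fun x => Q (r x • v), by
        intro x y
        rw [hadd, add_smul, qadd, hs, ← mul_smul, pc, hs.two h2, add_zero]⟩, by
        intro c x
        obtain ⟨d, hd⟩ := exists_sqrt_of_two h2 c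
        have h3 : r (c • x) = d • r x := by
          rw [Algebra.smul_def, hmul]
          have : r (algebraMap F E c) = algebraMap F E d := by
            rw [← hd, _root_.map_mul, hsq]
          rw [this, Algebra.smul_def]
        simp only [h3, RingHom.id_apply, smul_eq_mul]
        rw [smul_assoc, qsmul, hd]⟩
    refine ⟨s, fun e => ?_⟩
    rw [hs']
    simp only [LinearMap.coe_mk, AddHom.coe_mk, hsq]
  · obtain ⟨s, hs'⟩ := exists_BE (E := E) Q v v
    refine ⟨algebraMap F E (2⁻¹) * s, fun e => ?_⟩
    have h3 : e * e * (algebraMap F E (2⁻¹) * s) = (2⁻¹ : F) • (e * e * s) := by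
      rw [Algebra.smul_def]; ring
    rw [h3, _root_.map_smul, hs', mul_smul, hs, pself, smul_eq_mul, ← mul_assoc, inv_mul_cancel₀ h2, one_mul]

/-- the `E`-valued quadratic form -/
noncomputable def QEf (hs : SA E Q) (v : V) : E := (exists_QE hs v).choose

theorem QEf_spec (hs : SA E Q) (v : V) (e : E) : Algebra.trace F E (e * e * QEf hs v) = Q (e • v) :=
  (exists_QE hs v).choose_spec e

theorem QEf_unique (hs : SA E Q) {v : V} {s : E} (h : ∀ e : E, Algebra.trace F E (e * e * s) = Q (e • v)) :
    QEf hs v = s := by
  rw [← sub_eq_zero]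
  apply trace_sq_ext (F := F)
  intro x
  rw [mul_sub, _root_.map_sub, QEf_spec, h, sub_self]

theorem QEf_smul (hs : SA E Q) (a : E) (v : V) : QEf hs (a • v) = a * a * QEf hs v := by
  apply QEf_unique
  intro e
  rw [← mul_smul, ← QEf_spec hs v]
  congr 1; ring

theorem QEf_add (hs : SA E Q) (v w : V) : QEf hs (v + w) = QEf hs v + QEf hs w + BE E Q v w := by
  apply QEf_unique
  intro e
  rw [mul_add, mul_add, _root_.map_add, _root_.map_add, QEf_spec, QEf_spec, BE_spec, smul_add, qadd, mul_smul, hs]

theorem BE_add_left (v v' w : V) : BE E Q (v + v') w = BE E Q v w + BE E Q v' w := by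
  apply BE_unique
  intro x
  rw [mul_add, _root_.map_add, BE_spec, BE_spec, smul_add, pal]

theorem BE_smul_left (a : E) (v w : V) : BE E Q (a • v) w = a * BE E Q v w := by
  apply BE_unique
  intro x
  rw [← mul_assoc, BE_spec, mul_smul]

theorem BE_comm (hs : SA E Q) (v w : V) : BE E Q v w = BE E Q w v := by
  apply BE_unique
  intro x
  rw [BE_spec, pc, hs]

theorem QEf_polar (hs : SA E Q) (v w : V) : polar (QEf hs) v w = BE E Q v w := by
  rw [polar, QEf_add]; ring

/-- the `E`-valued quadratic form -/
noncomputable def QE (hs : SA E Q) : QuadraticForm E V :=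
  QuadraticMap.ofPolar (QEf hs) (fun a v => by rw [QEf_smul, smul_eq_mul])
    (fun v v' w => by rw [QEf_polar, QEf_polar, QEf_polar, BE_add_left])
    (fun a v w => by rw [QEf_polar, QEf_polar, BE_smul_left, smul_eq_mul])

theorem QE_spec (hs : SA E Q) (v : V) (e : E) : Algebra.trace F E (e * e * QE hs v) = Q (e • v) := QEf_spec hs v e

theorem QE_trace (hs : SA E Q) (v : V) : Algebra.trace F E (QE hs v) = Q v := by
  have := QE_spec hs v 1
  rwa [one_mul, one_mul, one_smul] at this

theorem QE_unique (hs : SA E Q) {v : V} {s : E} (h : ∀ e : E, Algebra.trace F E (e * e * s) = Q (e • v)) :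
    QE hs v = s := QEf_unique hs h

theorem QE_polar (hs : SA E Q) (v w : V) : polar (QE hs) v w = BE E Q v w := QEf_polar hs v w

theorem QE_polar_spec (hs : SA E Q) (v w : V) (x : E) :
    Algebra.trace F E (x * polar (QE hs) v w) = polar Q (x • v) w := by rw [QE_polar, BE_spec]

theorem QE_polar_trace (hs : SA E Q) (v w : V) : Algebra.trace F E (polar (QE hs) v w) = polar Q v w := by
  have := QE_polar_spec hs v w 1
  rwa [one_mul, one_smul] at this

theorem QE_nondeg (hs : SA E Q) (hQ : (polarBilin Q).Nondegenerate) : (polarBilin (QE hs)).Nondegenerate := by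
  have key : ∀ v, (∀ w, polar (QE hs) v w = 0) → v = 0 := by
    intro v hv
    refine hQ.1 v fun w => ?_
    rw [pbil, ← QE_polar_trace hs, hv, _root_.map_zero]
  exact ⟨fun v hv => key v hv, fun v hv => key v fun w => by rw [pc]; exact hv w⟩

end ext

end Cfsg.Agent.OCase
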