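import Cfsg.Agent.Orth.PlusStd
import Cfsg.Agent.Orth.Adjust
import Cfsg.Agent.Orth.MinusTS
import Cfsg.Agent.Orth.Diag
import Cfsg.Agent.Orth.Arith
import Cfsg.Agent.Asch.Transfer
import Cfsg.Agent.Asch.Members

/-!
Orthogonal groups: translation between the frozen predicates (forms as functions) and quadratic forms.
-/

set_option autoImplicit false
set_option linter.unusedSectionVars false

namespace Cfsg.Agent.OCase

open QuadraticMap Module Cfsg.Geo Cfsg.Agent.Orth

section conv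

variable {ι : Type} [Fintype ι] [DecidableEq ι] {F : Type*} [Field F]

/-- a non-degenerate quadratic form given as a function comes from a `QuadraticForm` -/
theorem exists_qf {Q : (ι → F) → F} (hQ : IsNondegenerateQuadraticForm Q) :
    ∃ q : QuadraticForm F (ι → F), ⇑q = Q ∧ (polarBilin q).Nondegenerate := by
  set q : QuadraticForm F (ι → F) := QuadraticMap.ofPolar Q
    (fun a x => by rw [hQ.smul, smul_eq_mul]; ring)
    (fun x x' y => hQ.polar_bilinear.add_left x x' y)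
    (fun a x y => hQ.polar_bilinear.smul_left a x y) with hq
  have hc : ⇑q = Q := rfl
  refine ⟨q, hc, ?_⟩
  refine ⟨fun x hx => ?_, fun x hx => ?_⟩
  · by_contra h0
    obtain ⟨-, y, hy⟩ := hQ.nondegenerate x h0
    exact hy (hx y)
  · by_contra h0
    obtain ⟨⟨y, hy⟩, -⟩ := hQ.nondegenerate x h0
    exact hy (hx y)

/-- conversely -/
theorem isNondegenerateQuadraticForm_coe {q : QuadraticForm F (ι → F)} (hq : (polarBilin q).Nondegenerate) :
    IsNondegenerateQuadraticForm ⇑q where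
  smul c v := by rw [qsmul]; ring
  polar_bilinear :=
    { add_left := fun x y v => pal q x y v
      smul_left := fun c x v => psl q c x v
      add_right := fun v x y => par q v x y
      smul_right := fun c v x => psr q c v x }
  nondegenerate := by
    intro v hv
    have h1 : ∃ x, polar q v x ≠ 0 := by
      by_contra hcon
      push Not at hcon
      exact hv (hq.1 v fun y => hcon y)
    obtain ⟨x, hx⟩ := h1
    exact ⟨⟨x, by rw [pc]; exact hx⟩, ⟨x, hx⟩⟩

theorem mem_omegaGL_iff (Q : QuadraticForm F (ι → F)) (g : Matrix.GeneralLinearGroup ι F) :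
    g ∈ omegaGL ⇑Q ↔ ∃ h ∈ commutator (OGrp Q), ∀ x, Matrix.mulVec (g : Matrix ι ι F) x
      = (h : (ι → F) ≃ₗ[F] (ι → F)) x := by
  constructor
  · rintro ⟨g', hg', rfl⟩
    exact ⟨bridge Q g', (mem_Omega_iff Q g').1 hg', fun x => rfl⟩
  · rintro ⟨h, hh, hx⟩
    refine ⟨(bridge Q).symm h, (mem_Omega_iff Q _).2 (by rw [MulEquiv.apply_symm_apply]; exact hh), ?_⟩
    apply Units.ext
    apply matrix_eq_of_mulVec
    intro x
    rw [hx]
    exact bridge_symm_mulVec Q h x

theorem toLin'_eq {Q : QuadraticForm F (ι → F)} {g : Matrix.GeneralLinearGroup ι F} {h : OGrp Q}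
    (hx : ∀ x, Matrix.mulVec (g : Matrix ι ι F) x = (h : (ι → F) ≃ₗ[F] (ι → F)) x) :
    Matrix.toLin' (g : Matrix ι ι F) = ((h : (ι → F) ≃ₗ[F] (ι → F)) : (ι → F) →ₗ[F] (ι → F)) :=
  LinearMap.ext hx

/-- the matrix of an isometry -/
noncomputable def toGL {Q : QuadraticForm F (ι → F)} (h : OGrp Q) : Matrix.GeneralLinearGroup ι F :=
  (((bridge Q).symm h : ↥(Cfsg.isometryGroup F ⇑Q)) : Matrix.GeneralLinearGroup ι F)

theorem toGL_mulVec {Q : QuadraticForm F (ι → F)} (h : OGrp Q) (x : ι → F) :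
    Matrix.mulVec (toGL h : Matrix ι ι F) x = (h : (ι → F) ≃ₗ[F] (ι → F)) x :=
  bridge_symm_mulVec Q h x

theorem toGL_mem_omegaGL {Q : QuadraticForm F (ι → F)} {h : OGrp Q} (hh : h ∈ commutator (OGrp Q)) :
    toGL h ∈ omegaGL ⇑Q := (mem_omegaGL_iff Q _).2 ⟨h, hh, toGL_mulVec h⟩

theorem toLin'_toGL {Q : QuadraticForm F (ι → F)} (h : OGrp Q) :
    Matrix.toLin' (toGL h : Matrix ι ι F) = ((h : (ι → F) ≃ₗ[F] (ι → F)) : (ι → F) →ₗ[F] (ι → F)) :=
  LinearMap.ext (toGL_mulVec h)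

/-- how to prove that a member intersected with `Ω` is contained in a subgroup: one only has to look at the
isometries in the commutator subgroup -/
theorem inf_omegaGL_le_iff (Q : QuadraticForm F (ι → F)) (M M' : Subgroup (Matrix.GeneralLinearGroup ι F)) :
    M ⊓ omegaGL ⇑Q ≤ M' ↔ ∀ h ∈ commutator (OGrp Q), toGL h ∈ M → toGL h ∈ M' := by
  constructor
  · intro hle h hh hM
    exact hle ⟨hM, toGL_mem_omegaGL hh⟩
  · rintro H g ⟨hg, hg'⟩
    obtain ⟨h, hh, hx⟩ := (mem_omegaGL_iff Q g).1 hg'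
    have : g = toGL h := Units.ext (matrix_eq_of_mulVec fun x => by rw [hx, toGL_mulVec])
    rw [this] at hg ⊢
    exact H h hh hg

theorem toGL_mem_subspaceStabilizer {Q : QuadraticForm F (ι → F)} {h : OGrp Q} {W : Submodule F (ι → F)} :
    toGL h ∈ subspaceStabilizer W ↔ W.map ((h : (ι → F) ≃ₗ[F] (ι → F)) : (ι → F) →ₗ[F] (ι → F)) = W := by
  rw [Asch.mem_subspaceStabilizer_iff, toLin'_toGL]

theorem toGL_mem_decompositionStabilizer {Q : QuadraticForm F (ι → F)} {h : OGrp Q} {t : ℕ}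
    {D : Fin t → Submodule F (ι → F)} :
    toGL h ∈ decompositionStabilizer D ↔ ∃ σ : Equiv.Perm (Fin t), ∀ i,
      (D i).map ((h : (ι → F) ≃ₗ[F] (ι → F)) : (ι → F) →ₗ[F] (ι → F)) = D (σ i) := by
  rw [← toLin'_toGL]
  exact Iff.rfl

theorem isNondegenerateOn_iff (Q : QuadraticForm F (ι → F)) (W : Submodule F (ι → F)) :
    IsNondegenerateOn (polar ⇑Q) W ↔ W ⊓ perp Q W = ⊥ := by
  constructor
  · intro h
    rw [eq_bot_iff]
    rintro x ⟨hx, hx'⟩
    by_contra h0
    obtain ⟨⟨y, hy, hyx⟩, -⟩ := h x hx (fun h => h0 (by rw [h]; exact Submodule.zero_mem _))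
    exact hyx (hx' y hy)
  · intro h w hw h0
    have : ∃ x ∈ W, polar Q x w ≠ 0 := by
      by_contra hcon
      push Not at hcon
      apply h0
      have : w ∈ W ⊓ perp Q W := ⟨hw, hcon⟩
      rw [h] at this
      exact (Submodule.mem_bot F).1 this
    obtain ⟨x, hx, hxw⟩ := this
    exact ⟨⟨x, hx, hxw⟩, ⟨x, hx, by rw [pc]; exact hxw⟩⟩

end conv

section perps

variable {F V : Type*} [Field F] [AddCommGroup V] [Module F V] {Q : QuadraticForm F V}

/-- images of perpendicular spaces under isometries -/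
theorem map_perp (g : OGrp Q) (W : Submodule F V) :
    (perp Q W).map ((g : V ≃ₗ[F] V) : V →ₗ[F] V) = perp Q (W.map ((g : V ≃ₗ[F] V) : V →ₗ[F] V)) := by
  ext x
  constructor
  · rintro ⟨y, hy, rfl⟩ _ ⟨w, hw, rfl⟩
    change polar Q ((g : V ≃ₗ[F] V) w) ((g : V ≃ₗ[F] V) y) = 0
    rw [OGrp_polar]
    exact hy w hw
  · intro hx
    refine ⟨((g⁻¹ : OGrp Q) : V ≃ₗ[F] V) x, fun w hw => ?_, coe_apply_inv_self g x⟩
    have h1 := hx ((g : V ≃ₗ[F] V) w) ⟨w, hw, rfl⟩
    change polar Q ((g : V ≃ₗ[F] V) w) x = 0 at h1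
    change polar Q w (((g⁻¹ : OGrp Q) : V ≃ₗ[F] V) x) = 0
    rw [← OGrp_polar g, coe_apply_inv_self]
    exact h1

theorem map_perp_eq {g : OGrp Q} {W : Submodule F V} (h : W.map ((g : V ≃ₗ[F] V) : V →ₗ[F] V) = W) :
    (perp Q W).map ((g : V ≃ₗ[F] V) : V →ₗ[F] V) = perp Q W := by rw [map_perp, h]

theorem map_perp_eq_iff [FiniteDimensional F V] (hQ : (polarBilin Q).Nondegenerate) {g : OGrp Q}
    {W : Submodule F V} :
    (perp Q W).map ((g : V ≃ₗ[F] V) : V →ₗ[F] V) = perp Q W ↔ W.map ((g : V ≃ₗ[F] V) : V →ₗ[F] V) = W := by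
  refine ⟨fun h => ?_, map_perp_eq⟩
  have := map_perp_eq h
  rwa [perp_perp hQ] at this

theorem sup_perp_eq_top [FiniteDimensional F V] (hQ : (polarBilin Q).Nondegenerate) {W : Submodule F V}
    (h : W ⊓ perp Q W = ⊥) : W ⊔ perp Q W = ⊤ := by
  apply Submodule.eq_top_of_finrank_eq
  have h1 := Submodule.finrank_sup_add_finrank_inf_eq W (perp Q W)
  have h2 := finrank_perp hQ W
  rw [h, finrank_bot] at h1
  omega

end perps

end Cfsg.Agent.OCase
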