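import Cfsg.Agent.OCase.Row5693

/-!
Maximal subgroups of small orthogonal groups: generic treatment of classes 1 and 2.
-/

set_option autoImplicit false
set_option linter.unusedSectionVars false

namespace Cfsg.Agent.OCase

open QuadraticMap Module Cfsg.Agent.Orth Cfsg.Geo

variable {n : ℕ} {F : Type*} [Field F] [Fintype F] {Q : QuadraticForm F (Fin n → F)}
  {H : Subgroup (Matrix.GeneralLinearGroup (Fin n) F)}

theorem areIsometricFor_symm {W W' : Submodule F (Fin n → F)} (h : AreIsometricFor ⇑Q W W') :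
    AreIsometricFor ⇑Q W' W := by
  obtain ⟨g, hg⟩ := h
  exact ⟨g.symm, fun x => by rw [← hg, LinearEquiv.apply_symm_apply]⟩

/-- a maximal subgroup of `Ω` -/
structure Ctx (Q : QuadraticForm F (Fin n → F)) (H : Subgroup (Matrix.GeneralLinearGroup (Fin n) F)) : Prop where
  hQ : (polarBilin Q).Nondegenerate
  hn : 7 ≤ n
  max : IsMaximalIn (omegaGL ⇑Q) H

namespace Ctx

theorem card (c : Ctx Q H) : 7 ≤ Fintype.card (Fin n) := by rw [Fintype.card_fin]; exact c.hn

theorem of_le {M M' : Subgroup (Matrix.GeneralLinearGroup (Fin n) F)} (c : Ctx Q H) (hH : H = M ⊓ omegaGL ⇑Q)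
    (h1 : M ⊓ omegaGL ⇑Q ≤ M') (h3 : ¬ omegaGL ⇑Q ≤ M') : H = M' ⊓ omegaGL ⇑Q :=
  eq_of_le c.max hH h1 h3

theorem of_le_stab {M : Subgroup (Matrix.GeneralLinearGroup (Fin n) F)} (c : Ctx Q H) (hH : H = M ⊓ omegaGL ⇑Q)
    {W : Submodule F (Fin n → F)} (h1 : M ⊓ omegaGL ⇑Q ≤ subspaceStabilizer W) (h0 : W ≠ ⊥) (ht : W ≠ ⊤) :
    H = subspaceStabilizer W ⊓ omegaGL ⇑Q :=
  c.of_le hH h1 (not_omegaGL_le_subspaceStabilizer c.hQ c.card h0 ht)

theorem of_le_decomp {M : Subgroup (Matrix.GeneralLinearGroup (Fin n) F)} (c : Ctx Q H) (hH : H = M ⊓ omegaGL ⇑Q)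
    {t k : ℕ} {D : Fin t → Submodule F (Fin n → F)} (h1 : M ⊓ omegaGL ⇑Q ≤ decompositionStabilizer D)
    (hD : IsMDecomposition k D) : H = decompositionStabilizer D ⊓ omegaGL ⇑Q :=
  c.of_le hH h1 (not_omegaGL_le_decompositionStabilizer c.hQ c.card hD)

theorem of_le_subfield {M : Subgroup (Matrix.GeneralLinearGroup (Fin n) F)} (c : Ctx Q H) (hH : H = M ⊓ omegaGL ⇑Q)
    {F₀ : Subfield F} {P : Matrix.GeneralLinearGroup (Fin n) F} (h1 : M ⊓ omegaGL ⇑Q ≤ subfieldSubgroup F₀ P)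
    (hF₀ : F₀ ≠ ⊤) : H = subfieldSubgroup F₀ P ⊓ omegaGL ⇑Q :=
  c.of_le hH h1 (not_omegaGL_le_subfieldSubgroup c.hQ c.card hF₀ P)

theorem finrank_top' : finrank F (⊤ : Submodule F (Fin n → F)) = n := by rw [finrank_top, finrank_fin_fun]

theorem ne_bot_of_finrank {W : Submodule F (Fin n → F)} (h : 0 < finrank F W) : W ≠ ⊥ := by
  rintro rfl; rw [finrank_bot] at h; omega

theorem ne_top_of_finrank {W : Submodule F (Fin n → F)} (h : finrank F W < n) : W ≠ ⊤ := by
  rintro rfl; rw [finrank_top'] at h; omega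

theorem finrank_pos' {W : Submodule F (Fin n → F)} (h : W ≠ ⊥) : 0 < finrank F W := by
  by_contra hcon
  exact h (Submodule.finrank_eq_zero.1 (by omega))

theorem finrank_lt' {W : Submodule F (Fin n → F)} (h : W ≠ ⊤) : finrank F W < n := by
  have := Submodule.finrank_lt h
  rwa [finrank_fin_fun] at this

/-- totally singular subspaces one dimension below the maximum -/
theorem ts_up (c : Ctx Q H) (hp : IsPlus Q) {W : Submodule F (Fin n → F)} (hW : TS Q W)
    (hd : 2 * (finrank F W + 1) = n) (hH : H = subspaceStabilizer W ⊓ omegaGL ⇑Q) :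
    ∃ U, U ≠ ⊥ ∧ TS Q U ∧ 2 * finrank F U = n ∧ H = subspaceStabilizer U ⊓ omegaGL ⇑Q := by
  obtain ⟨U, -, hU, hUd, hle⟩ := ts_le c.hQ (by have := c.card; omega) hp hW (by rw [Fintype.card_fin, hd])
  have h7 := c.hn
  exact ⟨U, ne_bot_of_finrank (by omega), hU, by omega,
    c.of_le_stab hH hle (ne_bot_of_finrank (by omega)) (ne_top_of_finrank (by omega))⟩

/-- a non-degenerate subspace can be replaced by one of dimension at most `n/2` -/
theorem nd_small (c : Ctx Q H) {W : Submodule F (Fin n → F)} (hW0 : W ≠ ⊥) (hW1 : W ≠ ⊤)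
    (hW : IsNondegenerateOn (polar ⇑Q) W) (hH : H = subspaceStabilizer W ⊓ omegaGL ⇑Q) :
    ∃ W', W' ≠ ⊥ ∧ W' ≠ ⊤ ∧ IsNondegenerateOn (polar ⇑Q) W' ∧ 2 * finrank F W' ≤ n ∧
      (finrank F W' = finrank F W ∨ finrank F W' + finrank F W = n) ∧ H = subspaceStabilizer W' ⊓ omegaGL ⇑Q := by
  by_cases h : 2 * finrank F W ≤ n
  · exact ⟨W, hW0, hW1, hW, h, Or.inl rfl, hH⟩
  · have hd := finrank_perp c.hQ W
    rw [finrank_fin_fun] at hd
    have h1 := finrank_lt' hW1
    have h0 := finrank_pos' hW0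
    have hn0 : perp Q W ≠ ⊥ := ne_bot_of_finrank (by omega)
    have hn1 : perp Q W ≠ ⊤ := ne_top_of_finrank (by omega)
    refine ⟨perp Q W, hn0, hn1, (isNondegenerateOn_iff Q _).2
      (perp_inf_eq_bot c.hQ ((isNondegenerateOn_iff Q W).1 hW)), by omega, Or.inr (by omega), ?_⟩
    refine c.of_le_stab hH ((inf_omegaGL_le_iff Q _ _).2 fun g _ hM => ?_) hn0 hn1
    rw [toGL_mem_subspaceStabilizer] at hM ⊢
    exact map_perp_eq hM

/-- planes of plus type over the fields with two or three elements -/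
theorem plane_small (c : Ctx Q H) (hq : Fintype.card F ≤ 3) {W : Submodule F (Fin n → F)}
    (hdim : finrank F W = 2) (hW : IsNondegenerateOn (polar ⇑Q) W) (hWp : IsPlusTypeOn ⇑Q W)
    (hH : H = subspaceStabilizer W ⊓ omegaGL ⇑Q) :
    (¬ Odd (Fintype.card F) ∧ ∃ v : Fin n → F, Q v ≠ 0 ∧
      H = subspaceStabilizer (Submodule.span F {v}) ⊓ omegaGL ⇑Q) ∨
    (Odd (Fintype.card F) ∧ ∃ W' : Submodule F (Fin n → F), finrank F W' = 1 ∧
      IsNondegenerateOn (polar ⇑Q) W' ∧ H = subspaceStabilizer W' ⊓ omegaGL ⇑Q) := by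
  obtain ⟨v, hv, hv1, hle⟩ := plane_le hq hdim hW hWp
  have hv0 : v ≠ 0 := by
    rintro rfl
    rw [QuadraticMap.map_zero] at hv1
    exact zero_ne_one hv1
  have h1 : finrank F (Submodule.span F {v}) = 1 := finrank_span_singleton hv0
  have h7 := c.hn
  have hH' := c.of_le_stab hH hle (ne_bot_of_finrank (by omega)) (ne_top_of_finrank (by omega))
  by_cases ho : Odd (Fintype.card F)
  · refine Or.inr ⟨ho, _, h1, ?_, hH'⟩
    rw [isNondegenerateOn_iff, eq_bot_iff]
    rintro x ⟨hx, hx'⟩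
    obtain ⟨a, rfl⟩ := Submodule.mem_span_singleton.1 hx
    have h4 : polar Q v (a • v) = 0 := hx' _ (Submodule.mem_span_singleton_self _)
    rw [psr, pself, hv1] at h4
    have ha : a = 0 := (mul_eq_zero.1 h4).resolve_right (mul_ne_zero (two_ne_zero_of_odd ho) one_ne_zero)
    rw [ha, zero_smul]
    exact Submodule.zero_mem _
  · exact Or.inl ⟨ho, v, by rw [hv1]; exact one_ne_zero, hH'⟩

/-- the members of dimension `n/2` : the decomposition into `W` and `W^⊥` -/
theorem half (c : Ctx Q H) {W : Submodule F (Fin n → F)} (hW : IsNondegenerateOn (polar ⇑Q) W)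
    (hd : 2 * finrank F W = n) (hH : H = subspaceStabilizer W ⊓ omegaGL ⇑Q) :
    IsNondegenerateMDecomposition (polar ⇑Q) (finrank F W) ![W, perp Q W] ∧
      H = decompositionStabilizer ![W, perp Q W] ⊓ omegaGL ⇑Q ∧
      (AreIsometricFor ⇑Q W (perp Q W) → IsOrthogonalMDecomposition ⇑Q (finrank F W) ![W, perp Q W]) := by
  have hW' := (isNondegenerateOn_iff Q W).1 hW
  have hp := finrank_perp c.hQ W
  rw [finrank_fin_fun] at hp
  have h7 := c.hn
  have hD : IsNondegenerateMDecomposition (polar ⇑Q) (finrank F W) ![W, perp Q W] := by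
    refine isNondegenerateMDecomposition_of_orthogonal le_rfl (by omega) ?_ ?_ ?_ (by rw [Fintype.card_fin, hd])
    · intro i
      fin_cases i
      · rfl
      · change finrank F (perp Q W) = _
        omega
    · intro i
      fin_cases i
      · exact hW'
      · exact perp_inf_eq_bot c.hQ hW'
    · intro i j hij x hx y hy
      fin_cases i <;> fin_cases j
      · exact absurd rfl hij
      · exact hy x hx
      · rw [pc]; exact hx y hy
      · exact absurd rfl hij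
  refine ⟨hD, ?_, ?_⟩
  · refine c.of_le_decomp hH ?_ hD.decomp
    refine (inf_omegaGL_le_iff Q _ _).2 fun g _ hM => ?_
    rw [toGL_mem_subspaceStabilizer] at hM
    refine mem_decomp_of_forall hD.decomp fun i => ⟨i, ?_⟩
    fin_cases i
    · exact hM.le
    · exact (map_perp_eq hM).le
  · intro hg
    refine ⟨hD, fun i j => ?_⟩
    fin_cases i <;> fin_cases j
    · exact ⟨LinearEquiv.refl F _, fun x => rfl⟩
    · exact hg
    · exact areIsometricFor_symm hg
    · exact ⟨LinearEquiv.refl F _, fun x => rfl⟩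

theorem isom_half_of_plus (hQ : (polarBilin Q).Nondegenerate) (hp : IsPlus Q) {W : Submodule F (Fin n → F)}
    (hW : IsNondegenerateOn (polar ⇑Q) W)
    (he : Even (finrank F W)) (hd : 2 * finrank F W = n) : AreIsometricFor ⇑Q W (perp Q W) := by
  have hW' := (isNondegenerateOn_iff Q W).1 hW
  have hpd := finrank_perp hQ W
  rw [finrank_fin_fun] at hpd
  have h1 := (isPlus_iff_of_split hQ hW' he (by rw [finrank_fin_fun, ← hd]; exact even_two_mul _)).1 hp
  exact exists_isom_of_type (Q₁ := Q.restrict W) (Q₂ := Q.restrict (perp Q W)) (nondegenerate_restrict hW')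
    (nondegenerate_restrict (perp_inf_eq_bot hQ hW')) he (by omega) h1

theorem isom_half_iff (hQ : (polarBilin Q).Nondegenerate) (hq : Odd (Fintype.card F)) {W : Submodule F (Fin n → F)}
    (hW : IsNondegenerateOn (polar ⇑Q) W) {m : ℕ} (hm : finrank F W = m) (ho : Odd m) (hd : 2 * m = n) :
    AreIsometricFor ⇑Q W (perp Q W) ↔ (IsPlus Q ↔ Fintype.card F % 4 ≠ 3) := by
  have h2 : (2 : F) ≠ 0 := two_ne_zero_of_odd hq
  have hW' := (isNondegenerateOn_iff Q W).1 hW
  have h1 : AreIsometricFor ⇑Q W (perp Q W) ↔ IsSquare (gram Q (Pi.basisFun F (Fin n))).det :=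
    isom_perp_iff h2 hQ hW' (by rw [hm, finrank_fin_fun, hd]) _
  rw [h1, isPlus_iff_isSquare h2 hQ (by rw [finrank_fin_fun, hd]) (Pi.basisFun F (Fin n)), ho.neg_one_pow,
    ← FiniteField.isSquare_neg_one_iff]
  have hdet : (gram Q (Pi.basisFun F (Fin n))).det ≠ 0 := gram_det_ne_zero hQ _
  have h3 : IsSquare (-1 * (gram Q (Pi.basisFun F (Fin n))).det) ↔
      (IsSquare (-1 : F) ↔ IsSquare (gram Q (Pi.basisFun F (Fin n))).det) := by
    by_cases h : IsSquare (-1 : F)
    · rw [isSquare_mul_iff_of_sq h (by simp)]; tauto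
    · rw [isSquare_mul_iff_of_not h hdet]; tauto
  rw [h3]
  tauto

theorem two_ne_zero_or (F : Type*) [Field F] [Fintype F] : Odd (Fintype.card F) ∨ (2 : F) = 0 := by
  by_cases h : Odd (Fintype.card F)
  · exact Or.inl h
  · refine Or.inr ?_
    by_contra h2
    apply h
    have h3 : ringChar F ≠ 2 := by
      intro h4
      apply h2
      have := CharP.cast_eq_zero F (ringChar F)
      rw [h4] at this
      exact_mod_cast this
    exact Nat.odd_iff.2 (FiniteField.odd_card_of_char_ne_two h3)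

theorem not_odd_of_two_eq_zero {F : Type*} [Field F] [Fintype F] (h2 : (2 : F) = 0) : ¬ Odd (Fintype.card F) :=
  fun h => two_ne_zero_of_odd h h2

/-- **class 1, non-degenerate subspaces** -/
theorem class1b (c : Ctx Q H) {W : Submodule F (Fin n → F)} (hW0 : W ≠ ⊥) (hW1 : W ≠ ⊤)
    (hW : IsNondegenerateOn (polar ⇑Q) W) (hH : H = subspaceStabilizer W ⊓ omegaGL ⇑Q) :
    (Odd (Fintype.card F) ∧ ∃ W : Submodule F (Fin n → F), W ≠ ⊥ ∧ W ≠ ⊤ ∧ Odd (finrank F W) ∧
      2 * finrank F W ≤ n ∧ IsNondegenerateOn (polar ⇑Q) W ∧ H = subspaceStabilizer W ⊓ omegaGL ⇑Q) ∨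
    (∃ W : Submodule F (Fin n → F), finrank F W = 2 ∧ IsNondegenerateOn (polar ⇑Q) W ∧
      ¬ IsPlusTypeOn ⇑Q W ∧ H = subspaceStabilizer W ⊓ omegaGL ⇑Q) ∨
    (4 ≤ Fintype.card F ∧ ∃ W : Submodule F (Fin n → F), finrank F W = 2 ∧ IsNondegenerateOn (polar ⇑Q) W ∧
      IsPlusTypeOn ⇑Q W ∧ H = subspaceStabilizer W ⊓ omegaGL ⇑Q) ∨
    (¬ Odd (Fintype.card F) ∧ ∃ v : Fin n → F, Q v ≠ 0 ∧
      H = subspaceStabilizer (Submodule.span F {v}) ⊓ omegaGL ⇑Q) ∨
    (∃ W : Submodule F (Fin n → F), Even (finrank F W) ∧ 4 ≤ finrank F W ∧ 2 * finrank F W ≤ n ∧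
      IsNondegenerateOn (polar ⇑Q) W ∧ H = subspaceStabilizer W ⊓ omegaGL ⇑Q) := by
  obtain ⟨W, hW0, hW1, hW, hd, -, hH⟩ := c.nd_small hW0 hW1 hW hH
  have h7 := c.hn
  rcases Nat.even_or_odd (finrank F W) with he | ho
  · by_cases h2 : finrank F W = 2
    · by_cases hp : IsPlusTypeOn ⇑Q W
      · by_cases hq : 4 ≤ Fintype.card F
        · exact Or.inr (Or.inr (Or.inl ⟨hq, W, h2, hW, hp, hH⟩))
        · rcases c.plane_small (by omega) h2 hW hp hH with ⟨h, v, hv, hv'⟩ | ⟨h, W', hW', hn', hH'⟩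
          · exact Or.inr (Or.inr (Or.inr (Or.inl ⟨h, v, hv, hv'⟩)))
          · exact Or.inl ⟨h, W', ne_bot_of_finrank (by omega), ne_top_of_finrank (by omega),
              by rw [hW']; decide, by omega, hn', hH'⟩
      · exact Or.inr (Or.inl ⟨W, h2, hW, hp, hH⟩)
    · have h0 := finrank_pos' hW0
      obtain ⟨l, hl⟩ := he
      exact Or.inr (Or.inr (Or.inr (Or.inr ⟨W, ⟨l, hl⟩, by omega, hd, hW, hH⟩)))
  · rcases two_ne_zero_or F with hq | hq
    · exact Or.inl ⟨hq, W, hW0, hW1, ho, hd, hW, hH⟩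
    · exact absurd (even_of_nondeg_two_eq_zero hq hW) (Nat.not_even_iff_odd.2 ho)

theorem mod_four_of_odd (hq : Odd (Fintype.card F)) : Fintype.card F % 4 = 1 ∨ Fintype.card F % 4 = 3 := by
  have := Nat.odd_iff.1 hq
  omega

/-- **the members of dimension `n/2`, odd dimension** -/
theorem half_odd (c : Ctx Q H) {m : ℕ} (hn : 2 * m = n) (hm : Odd m) (hq : Odd (Fintype.card F))
    {W : Submodule F (Fin n → F)} (hW : IsNondegenerateOn (polar ⇑Q) W) (hd : finrank F W = m)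
    (hH : H = subspaceStabilizer W ⊓ omegaGL ⇑Q) :
    ((IsPlus Q ↔ Fintype.card F % 4 = 1) ∧ ∃ D : Fin 2 → Submodule F (Fin n → F),
      IsOrthogonalMDecomposition ⇑Q m D ∧ H = decompositionStabilizer D ⊓ omegaGL ⇑Q) ∨
    ((IsPlus Q ↔ Fintype.card F % 4 = 3) ∧ ∃ D : Fin 2 → Submodule F (Fin n → F),
      IsNondegenerateMDecomposition (polar ⇑Q) m D ∧ ¬ AreIsometricFor ⇑Q (D 0) (D 1) ∧
      H = decompositionStabilizer D ⊓ omegaGL ⇑Q) := by
  obtain ⟨h1, h2, h3⟩ := c.half hW (by rw [hd, hn]) hH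
  have h4 := isom_half_iff c.hQ hq hW hd hm hn
  have h5 := mod_four_of_odd hq
  by_cases hiso : AreIsometricFor ⇑Q W (perp Q W)
  · refine Or.inl ⟨(h4.1 hiso).trans (by omega), _, hd ▸ h3 hiso, h2⟩
  · refine Or.inr ⟨?_, _, hd ▸ h1, hiso, h2⟩
    by_cases hp : IsPlus Q
    · simp only [hp, true_iff]
      by_contra hcon
      exact hiso (h4.2 (by simp only [hp, true_iff]; exact hcon))
    · simp only [hp, false_iff]
      intro hcon
      exact hiso (h4.2 (by simp only [hp, false_iff, not_not]; exact hcon))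

end Ctx

end Cfsg.Agent.OCase
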