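import Cfsg.Agent.OCase.Cases1

/-!
Maximal subgroups of small orthogonal groups: class 2 for small fields.
-/

set_option autoImplicit false
set_option linter.unusedSectionVars false

namespace Cfsg.Agent.OCase

open QuadraticMap Module Cfsg.Agent.Orth Cfsg.Geo

variable {n : ℕ} {F : Type*} [Field F] [Fintype F] {Q : QuadraticForm F (Fin n → F)}
  {H : Subgroup (Matrix.GeneralLinearGroup (Fin n) F)}

theorem field_card_ne_six (F : Type*) [Field F] [Fintype F] : Fintype.card F ≠ 6 := by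
  intro h
  obtain ⟨p, hp⟩ := CharP.exists F
  haveI : Fact p.Prime := ⟨(CharP.char_is_prime_or_zero F p).resolve_right (CharP.char_ne_zero_of_finite F p)⟩
  obtain ⟨k, hk, hk'⟩ := FiniteField.card F p
  rw [h] at hk'
  have h2 : (2 : ℕ) ∣ p := (Nat.prime_two.dvd_of_dvd_pow (by rw [← hk']; norm_num))
  have h3 : (3 : ℕ) ∣ p := (Nat.prime_three.dvd_of_dvd_pow (by rw [← hk']; norm_num))
  have e2 := (Nat.prime_dvd_prime_iff_eq Nat.prime_two hk).1 h2
  have e3 := (Nat.prime_dvd_prime_iff_eq Nat.prime_three hk).1 h3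
  omega

theorem field_card_cases (F : Type*) [Field F] [Fintype F] : Fintype.card F = 2 ∨ Fintype.card F = 3 ∨
    Fintype.card F = 4 ∨ Fintype.card F = 5 ∨ 7 ≤ Fintype.card F := by
  have h1 := Fintype.one_lt_card (α := F)
  have h2 := field_card_ne_six F
  omega

namespace Ctx

variable {t k : ℕ} {D : Fin t → Submodule F (Fin n → F)}

theorem n_eq (hD : IsOrthogonalMDecomposition ⇑Q k D) : n = t * k := by
  simpa using card_eq_of_decomp hD.decomp.decomp

theorem frame (c : Ctx Q H) (hD : IsOrthogonalMDecomposition ⇑Q k D) (h2 : (2 : F) ≠ 0) {γ : F}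
    {u : Fin t → Fin k → (Fin n → F)} (hu : IsFrame Q D γ u)
    (hH : H = decompositionStabilizer D ⊓ omegaGL ⇑Q) :
    ∃ D' : Fin (t * k) → Submodule F (Fin n → F), IsOrthogonalMDecomposition ⇑Q 1 D' ∧
      H = decompositionStabilizer D' ⊓ omegaGL ⇑Q := by
  have h1 := hu.isOrthogonalMDecomposition h2 hD (finProdFinEquiv (m := t) (n := k)).symm
  exact ⟨_, h1, c.of_le_decomp hH (hu.stab_le h2 hD _) h1.decomp.decomp⟩

/-- planes of plus type -/
theorem plus_plane (c : Ctx Q H) (hD : IsOrthogonalMDecomposition ⇑Q 2 D) (hp : ∀ i, IsPlusTypeOn ⇑Q (D i))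
    (hH : H = decompositionStabilizer D ⊓ omegaGL ⇑Q) :
    7 ≤ Fintype.card F ∨
    (Fintype.card F = 5 ∧ ∃ D' : Fin (t * 2) → Submodule F (Fin n → F), IsOrthogonalMDecomposition ⇑Q 1 D' ∧
      H = decompositionStabilizer D' ⊓ omegaGL ⇑Q) ∨
    (Fintype.card F = 4 ∧ ∃ (F₀ : Subfield F) (P : Matrix.GeneralLinearGroup (Fin n) F),
      Fintype.card F = Nat.card F₀ ^ 2 ∧ IsQuadFormRationalStructure (fun v : Fin n → F => (1 : F) * Q v) F₀ P ∧
      H = subfieldSubgroup F₀ P ⊓ omegaGL ⇑Q) ∨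
    (Fintype.card F = 3 ∧ ∃ W : Submodule F (Fin n → F), finrank F W = t ∧ IsNondegenerateOn (polar ⇑Q) W ∧
      H = subspaceStabilizer W ⊓ omegaGL ⇑Q) ∨
    (Fintype.card F = 2 ∧ ∃ s : Fin n → F, s ≠ 0 ∧ Q s = (t : F) ∧
      H = subspaceStabilizer (Submodule.span F {s}) ⊓ omegaGL ⇑Q) := by
  have hn := n_eq hD
  have h7 := c.hn
  obtain ⟨e, f, h⟩ := exists_isHyp hD hp
  rcases field_card_cases F with hq | hq | hq | hq | hq
  · refine Or.inr (Or.inr (Or.inr (Or.inr ⟨hq, IsHyp.sv e f, h.sv_ne_zero (by omega), h.q_sv, ?_⟩)))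
    have h1 : finrank F (Submodule.span F {IsHyp.sv e f}) = 1 := finrank_span_singleton (h.sv_ne_zero (by omega))
    exact c.of_le_stab hH (h.stab_le_two hq) (ne_bot_of_finrank (by omega)) (ne_top_of_finrank (by omega))
  · refine Or.inr (Or.inr (Or.inr (Or.inl ⟨hq, IsHyp.Vp e f, h.finrank_Vp hq, h.nondeg_Vp hq, ?_⟩)))
    have h1 := h.finrank_Vp hq
    exact c.of_le_stab hH (h.stab_le_three hq) (ne_bot_of_finrank (by omega)) (ne_top_of_finrank (by omega))
  · refine Or.inr (Or.inr (Or.inl ⟨hq, ?_⟩))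
    obtain ⟨F₀, P, h1, h2, h3, h4, -⟩ := h.four hq (card_eq_of_decomp hD.decomp.decomp)
    exact ⟨F₀, P, h1, h3, c.of_le_subfield hH h4 h2⟩
  · refine Or.inr (Or.inl ⟨hq, ?_⟩)
    obtain ⟨u, hu⟩ := exists_frame_five hq hD hp
    exact c.frame hD (two_ne_zero_of_odd (by rw [hq]; decide)) hu hH
  · exact Or.inl hq

/-- planes of minus type, three elements -/
theorem minus_plane_three (c : Ctx Q H) (hq : Fintype.card F = 3) (hD : IsOrthogonalMDecomposition ⇑Q 2 D)
    (hp : ∀ i, ¬ IsPlusTypeOn ⇑Q (D i)) (hH : H = decompositionStabilizer D ⊓ omegaGL ⇑Q) :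
    ∃ D' : Fin (t * 2) → Submodule F (Fin n → F), IsOrthogonalMDecomposition ⇑Q 1 D' ∧
      H = decompositionStabilizer D' ⊓ omegaGL ⇑Q := by
  obtain ⟨u, hu⟩ := exists_frame_three_two hq hD hp
  exact c.frame hD (two_ne_zero_three hq) hu hH

theorem three_three (c : Ctx Q H) (hq : Fintype.card F = 3) (hD : IsOrthogonalMDecomposition ⇑Q 3 D)
    (hH : H = decompositionStabilizer D ⊓ omegaGL ⇑Q) :
    ∃ D' : Fin (t * 3) → Submodule F (Fin n → F), IsOrthogonalMDecomposition ⇑Q 1 D' ∧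
      H = decompositionStabilizer D' ⊓ omegaGL ⇑Q := by
  obtain ⟨γ, u, hu⟩ := exists_frame_three_three hq hD
  exact c.frame hD (two_ne_zero_three hq) hu hH

theorem four_two (c : Ctx Q H) (hq : Fintype.card F = 2) (hD : IsOrthogonalMDecomposition ⇑Q 4 D)
    (hp : ∀ i, IsPlusTypeOn ⇑Q (D i)) (hH : H = decompositionStabilizer D ⊓ omegaGL ⇑Q) :
    ∃ D' : Fin (t * 2) → Submodule F (Fin n → F), IsOrthogonalMDecomposition ⇑Q 2 D' ∧
      (∀ i, ¬ IsPlusTypeOn ⇑Q (D' i)) ∧ H = decompositionStabilizer D' ⊓ omegaGL ⇑Q := by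
  have ht := hD.decomp.decomp.two_le
  obtain ⟨u, hu⟩ := exists_isQuad hq hD hp
  have hc : Fintype.card (Fin n) = t * 4 := card_eq_of_decomp hD.decomp.decomp
  have h1 := hu.isOrthogonalMDecomposition hq (by omega) hc (finProdFinEquiv (m := t) (n := 2)).symm
  exact ⟨_, h1, hu.minus hq _, c.of_le_decomp hH (hu.stab_le hq (by omega) hc _) h1.decomp.decomp⟩

/-- members all plus or all minus -/
theorem type_cases (hD : IsOrthogonalMDecomposition ⇑Q k D) :
    (∀ i, IsPlusTypeOn ⇑Q (D i)) ∨ (∀ i, ¬ IsPlusTypeOn ⇑Q (D i)) := by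
  by_cases h : ∀ i, IsPlusTypeOn ⇑Q (D i)
  · exact Or.inl h
  · push Not at h
    obtain ⟨i, hi⟩ := h
    exact Or.inr fun j hj => hi ((isPlusTypeOn_congr_of_decomp hD j i).1 hj)

theorem isPlus_iff_even (hD : IsOrthogonalMDecomposition ⇑Q k D) (hk : Even k) (i : Fin t) :
    IsPlus Q ↔ (IsPlusTypeOn ⇑Q (D i) ∨ Even t) := by
  rw [isPlusTypeOn_iff]
  exact isPlus_iff_of_decomp hD hk i

/-- one-dimensional members need odd characteristic -/
theorem odd_of_one (hD : IsOrthogonalMDecomposition ⇑Q k D) (hk : Odd k) : Odd (Fintype.card F) := by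
  rcases two_ne_zero_or F with h | h
  · exact h
  · have ht := hD.decomp.decomp.two_le
    have := even_of_nondeg_two_eq_zero h (hD.decomp.nondegenerate ⟨0, by omega⟩)
    rw [hD.decomp.decomp.finrank_eq] at this
    exact absurd this (Nat.not_even_iff_odd.2 hk)

end Ctx

end Cfsg.Agent.OCase
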