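import Cfsg.Agent.OCase.Disc

/-!
Containments between stabilisers in `Ω`: totally singular subspaces, planes of plus type over small fields.
-/

set_option autoImplicit false
set_option linter.unusedSectionVars false

namespace Cfsg.Agent.OCase

open QuadraticMap Module Cfsg.Agent.Orth Cfsg.Geo

section abstract

variable {F V : Type*} [Field F] [AddCommGroup V] [Module F V] [FiniteDimensional F V] {Q : QuadraticForm F V}

/-- a subspace stabiliser inside `Ω` is contained in the stabiliser of a maximal totally singular subspace when the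
subspace is totally singular of codimension one in it -/
theorem exists_max_of_stab (hQ : (polarBilin Q).Nondegenerate) (hR : RGrp Q = ⊤) {m : ℕ}
    (hV : finrank F V = 2 * m) (hp : IsPlus Q) {W : Submodule F V} (hW : TS Q W) (hWm : finrank F W + 1 = m) :
    ∃ U, W ≤ U ∧ TS Q U ∧ finrank F U = m ∧ ∀ h ∈ commutator (OGrp Q),
      W.map ((h : V ≃ₗ[F] V) : V →ₗ[F] V) = W → U.map ((h : V ≃ₗ[F] V) : V →ₗ[F] V) = U := by
  obtain ⟨U, hWU, hU, hd⟩ := TS_extend hQ hp hW
  have hUm : finrank F U = m := by omega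
  refine ⟨U, hWU, hU, hUm, fun h hh hWh => ?_⟩
  obtain ⟨l, hl, hev, -⟩ := exists_of_mem_commutator hR hh
  have h1 := (parity_TS hQ hV hU hUm l).2 hev
  rw [hl] at h1
  have h2 : W ≤ U ⊓ U.map ((h : V ≃ₗ[F] V) : V →ₗ[F] V) := by
    refine le_inf hWU ?_
    rw [← hWh]
    exact Submodule.map_mono hWU
  have h3 := Submodule.finrank_mono h2
  have h4 : finrank F ↥(U ⊓ U.map ((h : V ≃ₗ[F] V) : V →ₗ[F] V)) ≤ finrank F U :=
    Submodule.finrank_mono inf_le_left
  have h5 : finrank F ↥(U ⊓ U.map ((h : V ≃ₗ[F] V) : V →ₗ[F] V)) = finrank F U := by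
    obtain ⟨k, hk⟩ := h1
    omega
  have h6 : U ⊓ U.map ((h : V ≃ₗ[F] V) : V →ₗ[F] V) = U :=
    Submodule.eq_of_le_of_finrank_le inf_le_left (by omega)
  have h7 : U ≤ U.map ((h : V ≃ₗ[F] V) : V →ₗ[F] V) := inf_eq_left.1 h6
  exact (Submodule.eq_of_le_of_finrank_eq h7 (finrank_map_OGrp h U).symm).symm

/-- elements of `Ω` do not move a maximal totally singular subspace to a complement when the Witt index is odd -/
theorem map_ne_of_odd (hQ : (polarBilin Q).Nondegenerate) (hR : RGrp Q = ⊤) {m : ℕ}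
    (hV : finrank F V = 2 * m) (hm : Odd m) {U U' : Submodule F V} (hU : TS Q U) (hUm : finrank F U = m)
    (hdisj : U ⊓ U' = ⊥) {h : OGrp Q} (hh : h ∈ commutator (OGrp Q)) :
    U.map ((h : V ≃ₗ[F] V) : V →ₗ[F] V) ≠ U' := by
  intro heq
  obtain ⟨l, hl, hev, -⟩ := exists_of_mem_commutator hR hh
  have h1 := (parity_TS hQ hV hU hUm l).2 hev
  rw [hl, heq, hdisj, finrank_bot, Nat.sub_zero] at h1
  exact (Nat.not_even_iff_odd.2 hm) h1

/-- coordinates on a plane of plus type -/
theorem exists_plus_param [Finite F] {W : Submodule F V} (hW : W ⊓ perp Q W = ⊥) (hd : finrank F W = 2)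
    (hp : IsPlus (Q.restrict W)) : ∃ g : (F × F) ≃ₗ[F] W, ∀ x, Q (g x : V) = x.1 * x.2 := by
  obtain ⟨g, hg⟩ := hp.exists_isom (nondegenerate_restrict hW) (m := 1) (by rw [hd])
  set e : (F × F) ≃ₗ[F] (Fin 1 ⊕ Fin 1 → F) :=
    { toFun := fun x => Sum.elim (fun _ => x.1) (fun _ => x.2)
      map_add' := fun x y => by
        funext i; rcases i with i | i <;> rfl
      map_smul' := fun c x => by
        funext i; rcases i with i | i <;> rfl
      invFun := fun y => (y (Sum.inl 0), y (Sum.inr 0))
      left_inv := fun x => rfl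
      right_inv := fun y => by
        funext i
        rcases i with i | i
        · rw [Subsingleton.elim i 0]; rfl
        · rw [Subsingleton.elim i 0]; rfl } with he
  refine ⟨e.trans g, fun x => ?_⟩
  have := hg (e x)
  rw [qfPlus_apply] at this
  simp only [Fin.sum_univ_one] at this
  exact this

theorem card_two_cases [Fintype F] (hq : Fintype.card F = 2) (x : F) : x = 0 ∨ x = 1 := by
  by_contra hcon
  push Not at hcon
  classical
  have h1 : ({0, 1, x} : Finset F).card ≤ Fintype.card F := Finset.card_le_univ _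
  rw [Finset.card_insert_of_notMem, Finset.card_insert_of_notMem, Finset.card_singleton, hq] at h1
  · omega
  · rw [Finset.mem_singleton]; exact fun h => hcon.2 h.symm
  · rw [Finset.mem_insert, Finset.mem_singleton]
    rintro (h | h)
    · exact zero_ne_one h
    · exact hcon.1 h.symm

/-- over a field with two elements a plane of plus type has exactly one non-singular vector -/
theorem exists_unique_nonsing [Fintype F] (hq : Fintype.card F = 2) {W : Submodule F V} (hW : W ⊓ perp Q W = ⊥)
    (hd : finrank F W = 2) (hp : IsPlus (Q.restrict W)) :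
    ∃ v ∈ W, Q v = 1 ∧ ∀ w ∈ W, Q w ≠ 0 → w = v := by
  obtain ⟨g, hg⟩ := exists_plus_param hW hd hp
  refine ⟨g (1, 1), (g (1, 1)).2, by rw [hg]; simp, fun w hw hw0 => ?_⟩
  obtain ⟨x, hx⟩ := g.surjective ⟨w, hw⟩
  have hw' : w = (g x : V) := by rw [hx]
  rw [hw'] at hw0 ⊢
  rw [hg] at hw0
  have h1 : x.1 = 1 := (card_two_cases hq x.1).resolve_left (left_ne_zero_of_mul hw0)
  have h2 : x.2 = 1 := (card_two_cases hq x.2).resolve_left (right_ne_zero_of_mul hw0)
  rw [show x = (1, 1) from Prod.ext h1 h2]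

/-- over a field with three elements a plane of plus type has exactly two vectors of norm one, opposite -/
theorem exists_unique_one_three [Fintype F] (hq : Fintype.card F = 3) {W : Submodule F V}
    (hW : W ⊓ perp Q W = ⊥) (hd : finrank F W = 2) (hp : IsPlus (Q.restrict W)) :
    ∃ v ∈ W, Q v = 1 ∧ ∀ w ∈ W, Q w = 1 → w = v ∨ w = -v := by
  obtain ⟨g, hg⟩ := exists_plus_param hW hd hp
  refine ⟨g (1, 1), (g (1, 1)).2, by rw [hg]; simp, fun w hw hw0 => ?_⟩
  obtain ⟨x, hx⟩ := g.surjective ⟨w, hw⟩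
  have hw' : w = (g x : V) := by rw [hx]
  rw [hw'] at hw0 ⊢
  rw [hg] at hw0
  have h3 : ∀ y : F, y ≠ 0 → y = 1 ∨ y = -1 := by
    intro y hy
    have h4 := FiniteField.pow_card_sub_one_eq_one y hy
    rw [hq] at h4
    have h5 : (y - 1) * (y + 1) = 0 := by linear_combination h4
    rcases mul_eq_zero.1 h5 with h | h
    · exact Or.inl (sub_eq_zero.1 h)
    · exact Or.inr (eq_neg_of_add_eq_zero_left h)
  have hx1 : x.1 ≠ 0 := left_ne_zero_of_mul (by rw [hw0]; exact one_ne_zero)
  rcases h3 x.1 hx1 with h | h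
  · left
    rw [h, one_mul] at hw0
    rw [show x = (1, 1) from Prod.ext h hw0]
  · right
    rw [h] at hw0
    have h2 : x.2 = -1 := by linear_combination -hw0
    rw [show x = -(1, 1) from Prod.ext h h2, map_neg]
    rfl

end abstract

end Cfsg.Agent.OCase
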