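import Cfsg.Agent.OCase.Sum

/-!
Orthogonal decompositions into isometric subspaces and the type.
-/

set_option autoImplicit false
set_option linter.unusedSectionVars false

namespace Cfsg.Agent.OCase

open QuadraticMap Module Cfsg.Agent.Orth Cfsg.Geo

variable {F V : Type*} [Field F] [AddCommGroup V] [Module F V] [FiniteDimensional F V]

theorem polar_pi_apply (Q : QuadraticForm F V) (t : ℕ) (x y : Fin t → V) :
    polar (QuadraticMap.pi fun _ : Fin t => Q) x y = ∑ i, polar Q (x i) (y i) := by
  simp only [polar, QuadraticMap.pi_apply, Pi.add_apply, Finset.sum_sub_distrib]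

theorem pi_nondeg {Q : QuadraticForm F V} (hQ : (polarBilin Q).Nondegenerate) (t : ℕ) :
    (polarBilin (QuadraticMap.pi fun _ : Fin t => Q)).Nondegenerate := by
  have hp := polar_pi_apply Q t
  have key : ∀ x : Fin t → V, (∀ y, polar (QuadraticMap.pi fun _ : Fin t => Q) x y = 0) → x = 0 := by
    intro x hx
    funext i
    refine hQ.1 _ fun y => ?_
    have := hx (Pi.single i y)
    rw [hp, Finset.sum_eq_single i] at this
    · rw [Pi.single_eq_same] at this; exact this
    · intro j _ hj
      rw [Pi.single_eq_of_ne hj, polar_zero_right]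
    · intro h; exact absurd (Finset.mem_univ i) h
  refine ⟨fun x hx => key x hx, fun x hx => key x fun y => ?_⟩
  rw [pc]; exact hx y

/-- the type of `t` copies of a space of even dimension -/
theorem isPlus_pi_iff [Finite F] {Q : QuadraticForm F V} (hQ : (polarBilin Q).Nondegenerate)
    (he : Even (finrank F V)) (t : ℕ) :
    IsPlus (QuadraticMap.pi fun _ : Fin t => Q) ↔ (IsPlus Q ∨ Even t) := by
  induction t with
  | zero =>
    simp only [Even.zero, or_true, iff_true]
    refine ⟨⊥, fun u hu => by rw [(Submodule.mem_bot F).1 hu, QuadraticMap.map_zero], ?_⟩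
    rw [finrank_bot, mul_zero, Module.finrank_pi_fintype]
    simp
  | succ t ih =>
    have h1 : IsPlus (QuadraticMap.pi fun _ : Fin (t + 1) => Q) ↔
        IsPlus (Q.prod (QuadraticMap.pi fun _ : Fin t => Q)) := by
      refine (isPlus_congr (Fin.consLinearEquiv F (fun _ : Fin (t + 1) => V)) ?_).symm
      intro v
      rw [QuadraticMap.pi_apply, QuadraticMap.prod_apply, QuadraticMap.pi_apply, Fin.sum_univ_succ]
      rfl
    have h2 : Even (finrank F (Fin t → V)) := by
      rw [Module.finrank_pi_fintype]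
      simp only [Finset.sum_const, smul_eq_mul]
      exact he.mul_left _
    rw [h1, isPlus_prod_iff hQ (pi_nondeg hQ t) he h2, ih, Nat.even_add_one]
    tauto

theorem q_sum_of_ortho (Q : QuadraticForm F V) {ι : Type*} [DecidableEq ι] (s : Finset ι) (x : ι → V)
    (h : ∀ i ∈ s, ∀ j ∈ s, i ≠ j → polar Q (x i) (x j) = 0) : Q (∑ i ∈ s, x i) = ∑ i ∈ s, Q (x i) := by
  induction s using Finset.induction_on with
  | empty => simp
  | insert a s ha ih =>
    have h0 : ∑ i ∈ s, polar Q (x a) (x i) = 0 := Finset.sum_eq_zero fun i hi =>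
      h a (Finset.mem_insert_self a s) i (Finset.mem_insert_of_mem hi) (by rintro rfl; exact ha hi)
    rw [Finset.sum_insert ha, Finset.sum_insert ha, qadd, psumr, h0, add_zero, ih]
    intro i hi j hj
    exact h i (Finset.mem_insert_of_mem hi) j (Finset.mem_insert_of_mem hj)

/-- the internal direct sum of a finite family -/
noncomputable def famEquiv {t : ℕ} (D : Fin t → Submodule F V) (hi : iSupIndep D) (hs : iSup D = ⊤) :
    (∀ i, D i) ≃ₗ[F] V :=
  (DirectSum.linearEquivFunOnFintype F (Fin t) (fun i => D i)).symm.trans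
    (LinearEquiv.ofBijective (DirectSum.coeLinearMap D)
      (DirectSum.isInternal_submodule_of_iSupIndep_of_iSup_eq_top hi hs))

theorem famEquiv_apply {t : ℕ} (D : Fin t → Submodule F V) (hi : iSupIndep D) (hs : iSup D = ⊤)
    (x : ∀ i, D i) : famEquiv D hi hs x = ∑ i, (x i : V) := by
  have h : (famEquiv D hi hs : (∀ i, D i) →ₗ[F] V) = ∑ i, (D i).subtype ∘ₗ LinearMap.proj i := by
    refine LinearMap.pi_ext' fun i => LinearMap.ext fun y => ?_
    rw [LinearMap.comp_apply, LinearMap.comp_apply, LinearMap.sum_apply]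
    change DirectSum.coeLinearMap D ((DirectSum.linearEquivFunOnFintype F (Fin t) (fun i => D i)).symm
      (Pi.single i y)) = _
    rw [DirectSum.linearEquivFunOnFintype_symm_single, DirectSum.coeLinearMap_lof]
    rw [Finset.sum_eq_single i]
    · simp
    · intro j _ hj
      simp [hj]
    · intro h; exact absurd (Finset.mem_univ i) h
  have h2 := LinearMap.congr_fun h x
  rw [LinearMap.sum_apply] at h2
  exact h2

section decomp

variable {ι : Type} [Fintype ι] [DecidableEq ι] {F : Type*} [Field F]

/-- a space with an isometric orthogonal decomposition is isometric to copies of one summand -/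
theorem exists_isom_pi {Q : QuadraticForm F (ι → F)} {t k : ℕ} {D : Fin t → Submodule F (ι → F)}
    (hD : IsOrthogonalMDecomposition ⇑Q k D) (i₀ : Fin t) :
    ∃ g : (Fin t → D i₀) ≃ₗ[F] (ι → F), ∀ v, Q (g v) = (QuadraticMap.pi fun _ : Fin t => Q.restrict (D i₀)) v := by
  choose e he using fun i => hD.isometric i₀ i
  refine ⟨(LinearEquiv.piCongrRight e).trans (famEquiv D hD.decomp.decomp.indep hD.decomp.decomp.iSup_eq_top),
    fun v => ?_⟩
  rw [LinearEquiv.trans_apply, famEquiv_apply, q_sum_of_ortho, QuadraticMap.pi_apply]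
  · refine Finset.sum_congr rfl fun i _ => ?_
    exact he i (v i)
  · intro i _ j _ hij
    exact hD.decomp.orthogonal i j hij _ (Submodule.coe_mem _) _ (Submodule.coe_mem _)

theorem card_eq_of_decomp {t k : ℕ} {D : Fin t → Submodule F (ι → F)} (hD : IsMDecomposition k D) :
    Fintype.card ι = t * k := by
  have h := (famEquiv D hD.indep hD.iSup_eq_top).finrank_eq
  rw [Module.finrank_pi_fintype, finrank_fintype_fun_eq_card] at h
  rw [← h]
  simp [hD.finrank_eq]

theorem isNondegenerateOn_restrict {Q : QuadraticForm F (ι → F)} {W : Submodule F (ι → F)}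
    (h : IsNondegenerateOn (polar ⇑Q) W) : (polarBilin (Q.restrict W)).Nondegenerate :=
  nondegenerate_restrict ((isNondegenerateOn_iff Q W).1 h)

/-- **type of an isometric orthogonal decomposition, even-dimensional summands** -/
theorem isPlus_iff_of_decomp [Finite F] {Q : QuadraticForm F (ι → F)} {t k : ℕ} {D : Fin t → Submodule F (ι → F)}
    (hD : IsOrthogonalMDecomposition ⇑Q k D) (hk : Even k) (i₀ : Fin t) :
    IsPlus Q ↔ (IsPlus (Q.restrict (D i₀)) ∨ Even t) := by
  obtain ⟨g, hg⟩ := exists_isom_pi hD i₀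
  rw [← isPlus_pi_iff (isNondegenerateOn_restrict (hD.decomp.nondegenerate i₀))
    (by rw [hD.decomp.decomp.finrank_eq]; exact hk) t]
  exact (isPlus_congr g hg).symm

theorem isPlusTypeOn_iff {Q : QuadraticForm F (ι → F)} {W : Submodule F (ι → F)} :
    IsPlusTypeOn ⇑Q W ↔ IsPlus (Q.restrict W) := isPlus_restrict_iff.symm

theorem isPlusTypeOn_top_iff {Q : QuadraticForm F (ι → F)} : IsPlusTypeOn ⇑Q ⊤ ↔ IsPlus Q := by
  constructor
  · rintro ⟨U, -, hU, hd⟩
    exact ⟨U, hU, by rw [hd, finrank_top]⟩
  · rintro ⟨U, hU, hd⟩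
    exact ⟨U, le_top, hU, by rw [hd, finrank_top]⟩

/-- all members of an isometric decomposition have the same type -/
theorem isPlusTypeOn_congr_of_decomp {Q : QuadraticForm F (ι → F)} {t k : ℕ} {D : Fin t → Submodule F (ι → F)}
    (hD : IsOrthogonalMDecomposition ⇑Q k D) (i j : Fin t) :
    IsPlusTypeOn ⇑Q (D i) ↔ IsPlusTypeOn ⇑Q (D j) := by
  rw [isPlusTypeOn_iff, isPlusTypeOn_iff]
  obtain ⟨e, he⟩ := hD.isometric i j
  exact isPlus_congr e he

theorem even_of_nondeg_two_eq_zero [Finite F] {Q : QuadraticForm F (ι → F)} (h2 : (2 : F) = 0)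
    {W : Submodule F (ι → F)} (h : IsNondegenerateOn (polar ⇑Q) W) : Even (finrank F W) :=
  even_finrank_of_two_eq_zero (isNondegenerateOn_restrict h) h2

end decomp

end Cfsg.Agent.OCase
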