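import Cfsg.Agent.OCase.Sub

/-!
Decompositions over small fields whose members contain a canonical orthogonal frame of lines.
-/

set_option autoImplicit false
set_option linter.unusedSectionVars false

namespace Cfsg.Agent.OCase

open QuadraticMap Module Cfsg.Agent.Orth Cfsg.Geo

variable {ι : Type} [Fintype ι] [DecidableEq ι] {F : Type*} [Field F] [Fintype F]

/-- a frame of lines inside a decomposition: up to sign these are all vectors of norm `c` in the members -/
structure IsFrame (Q : QuadraticForm F (ι → F)) {t k : ℕ} (D : Fin t → Submodule F (ι → F)) (c : F)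
    (u : Fin t → Fin k → (ι → F)) : Prop where
  c0 : c ≠ 0
  mem : ∀ i a, u i a ∈ D i
  q : ∀ i a, Q (u i a) = c
  ortho : ∀ i a b, a ≠ b → polar Q (u i a) (u i b) = 0
  all : ∀ i, ∀ v ∈ D i, Q v = c → ∃ a, v = u i a ∨ v = - u i a

variable {Q : QuadraticForm F (ι → F)} {t k : ℕ} {D : Fin t → Submodule F (ι → F)} {c : F}
  {u : Fin t → Fin k → (ι → F)}

theorem IsFrame.ortho' (h : IsFrame Q D c u) (hD : IsOrthogonalMDecomposition ⇑Q k D) {p q : Fin t × Fin k}
    (hpq : p ≠ q) : polar Q (u p.1 p.2) (u q.1 q.2) = 0 := by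
  by_cases h1 : p.1 = q.1
  · obtain ⟨i, a⟩ := p
    obtain ⟨j, b⟩ := q
    change i = j at h1
    subst h1
    exact h.ortho i a b fun hab => hpq (by rw [hab])
  · exact hD.decomp.orthogonal _ _ h1 _ (h.mem _ _) _ (h.mem _ _)

theorem IsFrame.isOrth (h : IsFrame Q D c u) (hD : IsOrthogonalMDecomposition ⇑Q k D) :
    IsOrth Q fun p : Fin t × Fin k => u p.1 p.2 :=
  ⟨fun p => by rw [h.q]; exact h.c0, fun p q hpq => h.ortho' hD hpq⟩

/-- the decomposition into the lines of the frame -/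
def frameDecomp (u : Fin t → Fin k → (ι → F)) {N : ℕ} (E : Fin N ≃ Fin t × Fin k) (j : Fin N) :
    Submodule F (ι → F) := Submodule.span F {u (E j).1 (E j).2}

theorem IsFrame.ne_zero (h : IsFrame Q D c u) (i : Fin t) (a : Fin k) : u i a ≠ 0 := by
  intro h0
  have := h.q i a
  rw [h0, QuadraticMap.map_zero] at this
  exact h.c0 this.symm

theorem areIsometric_span {v w : ι → F} (hv : v ≠ 0) (hw : w ≠ 0) (h : Q v = Q w) :
    AreIsometricFor ⇑Q (Submodule.span F {v}) (Submodule.span F {w}) := by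
  refine ⟨(LinearEquiv.toSpanNonzeroSingleton F _ v hv).symm.trans (LinearEquiv.toSpanNonzeroSingleton F _ w hw), ?_⟩
  intro x
  obtain ⟨a, ha⟩ := Submodule.mem_span_singleton.1 x.2
  have hx : x = LinearEquiv.toSpanNonzeroSingleton F _ v hv a := Subtype.ext ha.symm
  rw [hx, LinearEquiv.trans_apply, LinearEquiv.symm_apply_apply]
  change Q (a • w) = Q (a • v)
  rw [qsmul, qsmul, h]

theorem IsFrame.isOrthogonalMDecomposition (h2 : (2 : F) ≠ 0) (h : IsFrame Q D c u)
    (hD : IsOrthogonalMDecomposition ⇑Q k D) {N : ℕ} (E : Fin N ≃ Fin t × Fin k) :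
    IsOrthogonalMDecomposition ⇑Q 1 (frameDecomp u E) := by
  have hcard : Fintype.card ι = t * k := card_eq_of_decomp hD.decomp.decomp
  have hNc : N = t * k := by
    have := Fintype.card_congr E
    simpa using this
  have hli : LinearIndependent F (fun j : Fin N => u (E j).1 (E j).2) :=
    ((h.isOrth hD).linearIndependent h2).comp E E.injective
  have h0 : ∀ j, u (E j).1 (E j).2 ≠ 0 := fun j => h.ne_zero _ _
  refine ⟨⟨⟨?_, one_pos, ?_, ?_, ?_⟩, ?_, ?_⟩, ?_⟩
  · have := hD.decomp.decomp.two_le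
    have hk := hD.decomp.decomp.pos
    rw [hNc]
    nlinarith
  · intro j
    exact finrank_span_singleton (h0 j)
  · exact hli.iSupIndep_span_singleton
  · apply Submodule.eq_top_of_finrank_eq
    have h3 : iSup (frameDecomp u E) = Submodule.span F (Set.range fun j : Fin N => u (E j).1 (E j).2) := by
      rw [Submodule.span_range_eq_iSup]
      rfl
    rw [h3, finrank_span_eq_card hli, Fintype.card_fin, finrank_fintype_fun_eq_card, hcard, hNc]
  · intro j
    rw [isNondegenerateOn_iff, eq_bot_iff]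
    rintro x ⟨hx, hx'⟩
    obtain ⟨a, rfl⟩ := Submodule.mem_span_singleton.1 hx
    have h4 := hx' _ (Submodule.mem_span_singleton_self _)
    change polar Q (u (E j).1 (E j).2) (a • u (E j).1 (E j).2) = 0 at h4
    rw [psr, pself, h.q] at h4
    have ha : a = 0 := (mul_eq_zero.1 h4).resolve_right (mul_ne_zero h2 h.c0)
    rw [ha, zero_smul]
    exact Submodule.zero_mem _
  · intro i j hij x hx y hy
    obtain ⟨a, rfl⟩ := Submodule.mem_span_singleton.1 hx
    obtain ⟨b, rfl⟩ := Submodule.mem_span_singleton.1 hy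
    rw [psl, psr, h.ortho' hD (fun hE => hij (E.injective hE)), mul_zero, mul_zero]
  · intro i j
    exact areIsometric_span (h0 i) (h0 j) (by rw [h.q, h.q])

/-- how to check membership in the stabiliser of the frame -/
theorem mem_frameStab {g : OGrp Q} {N : ℕ} (E : Fin N ≃ Fin t × Fin k) (τ : Fin t × Fin k → Fin t × Fin k)
    (hτ : Function.Injective τ) (hg : ∀ p, ∃ a : F, a ≠ 0 ∧
      (g : (ι → F) ≃ₗ[F] (ι → F)) (u p.1 p.2) = a • u (τ p).1 (τ p).2) :
    toGL g ∈ decompositionStabilizer (frameDecomp u E) := by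
  rw [toGL_mem_decompositionStabilizer]
  have hb : Function.Bijective τ := (Finite.injective_iff_bijective).1 hτ
  refine ⟨(E.trans (Equiv.ofBijective τ hb)).trans E.symm, fun j => ?_⟩
  obtain ⟨a, ha, hga⟩ := hg (E j)
  unfold frameDecomp
  rw [Submodule.map_span, Set.image_singleton]
  simp only [Equiv.trans_apply, Equiv.apply_symm_apply, Equiv.ofBijective_apply]
  change Submodule.span F {(g : (ι → F) ≃ₗ[F] (ι → F)) (u (E j).1 (E j).2)} = _
  rw [hga]
  exact Submodule.span_singleton_smul_eq (IsUnit.mk0 a ha) _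

theorem IsFrame.stab_le (h2 : (2 : F) ≠ 0) (h : IsFrame Q D c u) (hD : IsOrthogonalMDecomposition ⇑Q k D) {N : ℕ}
    (E : Fin N ≃ Fin t × Fin k) :
    decompositionStabilizer D ⊓ omegaGL ⇑Q ≤ decompositionStabilizer (frameDecomp u E) := by
  refine (inf_omegaGL_le_iff Q _ _).2 fun g _ hM => ?_
  obtain ⟨σ, hσ⟩ := toGL_mem_decompositionStabilizer.1 hM
  have key : ∀ p : Fin t × Fin k, ∃ q : Fin t × Fin k, ∃ a : F, a ≠ 0 ∧
      (g : (ι → F) ≃ₗ[F] (ι → F)) (u p.1 p.2) = a • u q.1 q.2 := by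
    intro p
    have h1 : (g : (ι → F) ≃ₗ[F] (ι → F)) (u p.1 p.2) ∈ D (σ p.1) := by
      rw [← hσ]; exact ⟨_, h.mem _ _, rfl⟩
    obtain ⟨b, hb⟩ := h.all _ _ h1 (by rw [OGrp_q, h.q])
    obtain ⟨a, ha, hab⟩ := neg_smul_eq (F := F) hb
    exact ⟨(σ p.1, b), a, ha, hab⟩
  choose τ a ha hτ using key
  refine mem_frameStab E τ ?_ fun p => ⟨a p, ha p, hτ p⟩
  intro p q hpq
  by_contra hne
  have h1 := h.ortho' hD hne
  rw [← OGrp_polar g, hτ p, hτ q, hpq, psl, psr, pself, h.q] at h1
  exact mul_ne_zero (ha p) (mul_ne_zero (ha q) (mul_ne_zero h2 h.c0)) h1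

/-- the reflection in the difference of two orthogonal vectors of the same norm -/
theorem refl_sub_fix {x y z : ι → F} (hv : Q (y - x) ≠ 0) (h1 : polar Q z x = 0) (h2 : polar Q z y = 0) :
    (refl Q (y - x) hv : (ι → F) ≃ₗ[F] (ι → F)) z = z :=
  refl_apply_of_ortho hv (by rw [pdr, h1, h2, sub_zero])

theorem IsFrame.exists_witness (hQ : (polarBilin Q).Nondegenerate) (h2 : (2 : F) ≠ 0) (h : IsFrame Q D c u)
    (hD : IsOrthogonalMDecomposition ⇑Q k D) {N : ℕ} (E : Fin N ≃ Fin t × Fin k) (ht : 4 ≤ t) (hk : 2 ≤ k) :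
    ∃ g ∈ commutator (OGrp Q), toGL g ∈ decompositionStabilizer (frameDecomp u E) ∧
      toGL g ∉ decompositionStabilizer D := by
  set p0 : Fin t × Fin k := (⟨0, by omega⟩, ⟨0, by omega⟩) with hp0
  set p1 : Fin t × Fin k := (⟨1, by omega⟩, ⟨0, by omega⟩) with hp1
  set p2 : Fin t × Fin k := (⟨2, by omega⟩, ⟨0, by omega⟩) with hp2
  set p3 : Fin t × Fin k := (⟨3, by omega⟩, ⟨0, by omega⟩) with hp3
  set p4 : Fin t × Fin k := (⟨0, by omega⟩, ⟨1, by omega⟩) with hp4
  have n01 : p0 ≠ p1 := by intro h; have := congrArg (fun x => x.1.1) h; simp [hp0, hp1] at this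
  have n02 : p0 ≠ p2 := by intro h; have := congrArg (fun x => x.1.1) h; simp [hp0, hp2] at this
  have n03 : p0 ≠ p3 := by intro h; have := congrArg (fun x => x.1.1) h; simp [hp0, hp3] at this
  have n12 : p1 ≠ p2 := by intro h; have := congrArg (fun x => x.1.1) h; simp [hp1, hp2] at this
  have n13 : p1 ≠ p3 := by intro h; have := congrArg (fun x => x.1.1) h; simp [hp1, hp3] at this
  have n23 : p2 ≠ p3 := by intro h; have := congrArg (fun x => x.1.1) h; simp [hp2, hp3] at this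
  have n04 : p0 ≠ p4 := by intro h; have := congrArg (fun x => x.2.1) h; simp [hp0, hp4] at this
  have n14 : p1 ≠ p4 := by intro h; have := congrArg (fun x => x.1.1) h; simp [hp1, hp4] at this
  have n24 : p2 ≠ p4 := by intro h; have := congrArg (fun x => x.1.1) h; simp [hp2, hp4] at this
  have n34 : p3 ≠ p4 := by intro h; have := congrArg (fun x => x.1.1) h; simp [hp3, hp4] at this
  set U : Fin t × Fin k → (ι → F) := fun p => u p.1 p.2 with hU
  have hor : ∀ p q, p ≠ q → polar Q (U p) (U q) = 0 := fun p q hpq => h.ortho' hD hpq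
  have hq : ∀ p, Q (U p) = c := fun p => h.q _ _
  have hqs : ∀ p q, p ≠ q → Q (U q - U p) = 2 * c := by
    intro p q hpq
    rw [qsub, hq, hq, hor q p hpq.symm]; ring
  have hq01 : Q (U p1 - U p0) ≠ 0 := by rw [hqs _ _ n01]; exact mul_ne_zero h2 h.c0
  have hq23 : Q (U p3 - U p2) ≠ 0 := by rw [hqs _ _ n23]; exact mul_ne_zero h2 h.c0
  -- action of one factor
  have hact : ∀ (p q : Fin t × Fin k) (hpq : p ≠ q) (hv : Q (U q - U p) ≠ 0) (r : Fin t × Fin k),
      (refl Q (U q - U p) hv : (ι → F) ≃ₗ[F] (ι → F)) (U r) = U (Equiv.swap p q r) := by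
    intro p q hpq hv r
    by_cases hrp : r = p
    · rw [hrp, Equiv.swap_apply_left]
      exact refl_sub_apply (by rw [hq, hq]) hv
    by_cases hrq : r = q
    · rw [hrq, Equiv.swap_apply_right]
      have h3 := refl_sub_apply (Q := Q) (u := U p) (w := U q) (by rw [hq, hq]) hv
      have h4 := refl_mul_self hv
      calc (refl Q (U q - U p) hv : (ι → F) ≃ₗ[F] (ι → F)) (U q)
          = (refl Q (U q - U p) hv : (ι → F) ≃ₗ[F] (ι → F))
            ((refl Q (U q - U p) hv : (ι → F) ≃ₗ[F] (ι → F)) (U p)) := by rw [h3]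
        _ = ((refl Q (U q - U p) hv * refl Q (U q - U p) hv : OGrp Q) : (ι → F) ≃ₗ[F] (ι → F)) (U p) := rfl
        _ = U p := by rw [h4]; rfl
    · rw [Equiv.swap_apply_of_ne_of_ne hrp hrq]
      exact refl_sub_fix hv (hor _ _ hrp) (hor _ _ hrq)
  set g : OGrp Q := refl Q (U p1 - U p0) hq01 * refl Q (U p3 - U p2) hq23 with hg
  have hgact : ∀ r, (g : (ι → F) ≃ₗ[F] (ι → F)) (U r) = U (Equiv.swap p0 p1 (Equiv.swap p2 p3 r)) := by
    intro r
    rw [hg, coe_mul_apply, hact p2 p3 n23, hact p0 p1 n01]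
  refine ⟨g, GeoMax.Ort.refl_pair_mem hQ hq01 hq23 (by rw [hqs _ _ n01, hqs _ _ n23]), ?_, ?_⟩
  · exact mem_frameStab E (fun r => Equiv.swap p0 p1 (Equiv.swap p2 p3 r))
      ((Equiv.swap p0 p1).injective.comp (Equiv.swap p2 p3).injective)
      fun p => ⟨1, one_ne_zero, by rw [one_smul]; exact hgact p⟩
  · rw [toGL_mem_decompositionStabilizer]
    rintro ⟨σ, hσ⟩
    have h5 : (g : (ι → F) ≃ₗ[F] (ι → F)) (U p0 + U p4) ∈ D (σ p0.1) := by
      rw [← hσ]
      exact ⟨U p0 + U p4, (D p0.1).add_mem (h.mem _ _) (h.mem _ _), rfl⟩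
    rw [map_add, hgact, hgact, Equiv.swap_apply_of_ne_of_ne n02 n03, Equiv.swap_apply_left,
      Equiv.swap_apply_of_ne_of_ne n24.symm n34.symm, Equiv.swap_apply_of_ne_of_ne n04.symm n14.symm] at h5
    refine not_mem_of_polar hD.decomp.orthogonal (i := p1.1) (j := p4.1) (di := U p1) (dj := U p4) ?_
      (h.mem _ _) (h.mem _ _) ?_ ?_ _ h5
    · intro h6
      have := congrArg (fun x => x.1) h6
      simp [hp1, hp4] at this
    · rw [pal, pself, hq, hor _ _ n14.symm, add_zero]
      exact mul_ne_zero h2 h.c0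
    · rw [pal, pself, hq, hor _ _ n14, zero_add]
      exact mul_ne_zero h2 h.c0

end Cfsg.Agent.OCase
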