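import Cfsg.Agent.OCase.Frame

/-!
Existence of canonical frames for small fields.
-/

set_option autoImplicit false
set_option linter.unusedSectionVars false

namespace Cfsg.Agent.OCase

open QuadraticMap Module Cfsg.Agent.Orth Cfsg.Geo

variable {ι : Type} [Fintype ι] [DecidableEq ι] {F : Type*} [Field F] [Fintype F]
variable {Q : QuadraticForm F (ι → F)} {t k : ℕ} {D : Fin t → Submodule F (ι → F)} {c : F}

theorem exists_frame_of_base (hD : IsOrthogonalMDecomposition ⇑Q k D) (i₀ : Fin t) (hc : c ≠ 0)
    (w : Fin k → D i₀) (hq : ∀ a, Q (w a : ι → F) = c)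
    (hor : ∀ a b, a ≠ b → polar Q (w a : ι → F) (w b : ι → F) = 0)
    (hall : ∀ v : D i₀, Q (v : ι → F) = c → ∃ a, v = w a ∨ v = - w a) :
    ∃ u : Fin t → Fin k → (ι → F), IsFrame Q D c u := by
  choose e he using fun i => hD.isometric i₀ i
  refine ⟨fun i a => (e i (w a) : ι → F), hc, fun i a => (e i (w a)).2, fun i a => by rw [he, hq], ?_, ?_⟩
  · intro i a b hab
    rw [← hor a b hab, polar, polar, he, he]
    congr 2
    have : ((e i (w a) : D i) : ι → F) + ((e i (w b) : D i) : ι → F) = ((e i (w a + w b) : D i) : ι → F) := by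
      rw [map_add]; rfl
    rw [this, he]
    rfl
  · intro i v hv hv1
    obtain ⟨v₀, hv₀⟩ := (e i).surjective ⟨v, hv⟩
    have hvv : v = ((e i v₀ : D i) : ι → F) := by rw [hv₀]
    rw [hvv] at hv1 ⊢
    rw [he] at hv1
    obtain ⟨a, ha | ha⟩ := hall v₀ hv1
    · exact ⟨a, Or.inl (by rw [ha])⟩
    · exact ⟨a, Or.inr (by rw [ha, map_neg]; rfl)⟩

theorem card_three_cases {F : Type*} [Field F] [Fintype F] (hq : Fintype.card F = 3) (y : F) :
    y = 0 ∨ y = 1 ∨ y = -1 := by
  by_cases hy : y = 0
  · exact Or.inl hy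
  · have h4 := FiniteField.pow_card_sub_one_eq_one y hy
    rw [hq] at h4
    have h5 : (y - 1) * (y + 1) = 0 := by linear_combination h4
    rcases mul_eq_zero.1 h5 with h | h
    · exact Or.inr (Or.inl (sub_eq_zero.1 h))
    · exact Or.inr (Or.inr (eq_neg_of_add_eq_zero_left h))

theorem three_eq_zero {F : Type*} [Field F] [Fintype F] (hq : Fintype.card F = 3) : (3 : F) = 0 := by
  have := FiniteField.cast_card_eq_zero F
  rw [hq] at this
  exact_mod_cast this

theorem two_ne_zero_three {F : Type*} [Field F] [Fintype F] (hq : Fintype.card F = 3) : (2 : F) ≠ 0 :=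
  two_ne_zero_of_odd (by rw [hq]; decide)

theorem five_eq_zero {F : Type*} [Field F] [Fintype F] (hq : Fintype.card F = 5) : (5 : F) = 0 := by
  have := FiniteField.cast_card_eq_zero F
  rw [hq] at this
  exact_mod_cast this

/-- over `𝔽₃`: an orthogonal basis of at most three vectors of the same norm contains all vectors of this norm -/
theorem all_of_three_two {V : Type*} [AddCommGroup V] [Module F V] {q : QuadraticForm F V}
    (hq : Fintype.card F = 3) {x y : V} (hx : q x = c) (hy : q y = c) (hxy : polar q x y = 0) (hc : c ≠ 0)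
    {a b : F} (h : q (a • x + b • y) = c) :
    (a • x + b • y = x ∨ a • x + b • y = -x) ∨ (a • x + b • y = y ∨ a • x + b • y = -y) := by
  rw [qadd, qsmul, qsmul, psl, psr, hx, hy, hxy] at h
  have h3 := three_eq_zero hq
  have h1 : a * a + b * b = 1 := by
    apply mul_right_cancel₀ hc
    linear_combination h
  rcases card_three_cases hq a with rfl | rfl | rfl <;> rcases card_three_cases hq b with rfl | rfl | rfl <;>
    simp at h1 ⊢

theorem all_of_three_three {V : Type*} [AddCommGroup V] [Module F V] {q : QuadraticForm F V}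
    (hq : Fintype.card F = 3) {x y z : V} (hx : q x = c) (hy : q y = c) (hz : q z = c) (hxy : polar q x y = 0)
    (hxz : polar q x z = 0) (hyz : polar q y z = 0) (hc : c ≠ 0)
    {a b d : F} (h : q (a • x + b • y + d • z) = c) :
    (a • x + b • y + d • z = x ∨ a • x + b • y + d • z = -x) ∨
    (a • x + b • y + d • z = y ∨ a • x + b • y + d • z = -y) ∨
    (a • x + b • y + d • z = z ∨ a • x + b • y + d • z = -z) := by
  rw [qadd, qadd, qsmul, qsmul, qsmul, psl, psr, pal, psl, psr, psl, psr, hx, hy, hz, hxy, hxz, hyz] at h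
  have h3 := three_eq_zero hq
  have h2 : (2 : F) ≠ 0 := two_ne_zero_three hq
  have h1 : a * a + b * b + d * d = 1 := by
    apply mul_right_cancel₀ hc
    linear_combination h
  have h30 : (1 : F) + 1 + 1 ≠ 1 := fun h' => h2 (by linear_combination h')
  rcases card_three_cases hq a with rfl | rfl | rfl <;> rcases card_three_cases hq b with rfl | rfl | rfl <;>
    rcases card_three_cases hq d with rfl | rfl | rfl <;>
    simp at h1 ⊢
  all_goals exact absurd (show (2 : F) = 0 by linear_combination h1) h2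

/-! ### The three cases -/

/-- `q = 5`, planes of plus type -/
theorem exists_frame_five (hq5 : Fintype.card F = 5) (hD : IsOrthogonalMDecomposition ⇑Q 2 D)
    (hp : ∀ i, IsPlusTypeOn ⇑Q (D i)) : ∃ u : Fin t → Fin 2 → (ι → F), IsFrame Q D 1 u := by
  have ht := hD.decomp.decomp.two_le
  set i₀ : Fin t := ⟨0, by omega⟩ with hi₀
  obtain ⟨g, hg⟩ := exists_plus_param ((isNondegenerateOn_iff Q _).1 (hD.decomp.nondegenerate i₀))
    (hD.decomp.decomp.finrank_eq i₀) (isPlusTypeOn_iff.1 (hp i₀))
  have h5 := five_eq_zero hq5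
  have h2 : (2 : F) ≠ 0 := two_ne_zero_of_odd (by rw [hq5]; decide)
  have hpol : ∀ x y, polar Q (g x : ι → F) (g y : ι → F) = x.1 * y.2 + x.2 * y.1 := by
    intro x y
    have : ((g x : D i₀) : ι → F) + ((g y : D i₀) : ι → F) = ((g (x + y) : D i₀) : ι → F) := by
      rw [map_add]; rfl
    rw [polar, this, hg, hg, hg, Prod.fst_add, Prod.snd_add]
    ring
  refine exists_frame_of_base hD i₀ one_ne_zero ![g (1, 1), g (2, -2)] ?_ ?_ ?_
  · intro a
    fin_cases a
    · simp [hg]
    · simp only [Fin.mk_one, Fin.isValue, Matrix.cons_val_one, Matrix.cons_val_zero, hg]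
      linear_combination -h5
  · intro a b hab
    fin_cases a <;> fin_cases b
    · exact absurd rfl hab
    · simp only [Fin.mk_one, Fin.zero_eta, Fin.isValue, Matrix.cons_val_one, Matrix.cons_val_zero, hpol]
      ring
    · simp only [Fin.mk_one, Fin.zero_eta, Fin.isValue, Matrix.cons_val_one, Matrix.cons_val_zero, hpol]
      ring
    · exact absurd rfl hab
  · intro v hv
    obtain ⟨x, rfl⟩ := g.surjective v
    rw [hg] at hv
    obtain ⟨a, b⟩ := x
    simp only at hv
    have ha : a ≠ 0 := left_ne_zero_of_mul (by rw [hv]; exact one_ne_zero)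
    have h4 := FiniteField.pow_card_sub_one_eq_one a ha
    rw [hq5] at h4
    have h6 : ((a - 1) * (a + 1)) * ((a - 2) * (a + 2)) = 0 := by
      linear_combination h4 - (a ^ 2 - 1) * h5
    rcases mul_eq_zero.1 h6 with h | h
    · refine ⟨0, ?_⟩
      rcases mul_eq_zero.1 h with h | h
      · left
        have ha1 : a = 1 := sub_eq_zero.1 h
        rw [ha1, one_mul] at hv
        simp [ha1, hv]
      · right
        have ha1 : a = -1 := eq_neg_of_add_eq_zero_left h
        have hb1 : b = -1 := by rw [ha1] at hv; linear_combination -hv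
        simp only [Matrix.cons_val_zero, ← map_neg]
        rw [ha1, hb1]; rfl
    · refine ⟨1, ?_⟩
      rcases mul_eq_zero.1 h with h | h
      · left
        have ha1 : a = 2 := sub_eq_zero.1 h
        have hb1 : b = -2 := by
          rw [ha1] at hv
          apply mul_left_cancel₀ h2
          linear_combination hv + h5
        simp [ha1, hb1]
      · right
        have ha1 : a = -2 := eq_neg_of_add_eq_zero_left h
        have hb1 : b = 2 := by
          rw [ha1] at hv
          apply mul_left_cancel₀ h2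
          linear_combination -hv - h5
        simp only [Matrix.cons_val_one, Matrix.cons_val_zero, ← map_neg]
        rw [ha1, hb1]; simp

/-- `q = 3`, planes of minus type -/
theorem exists_frame_three_two (hq3 : Fintype.card F = 3) (hD : IsOrthogonalMDecomposition ⇑Q 2 D)
    (hp : ∀ i, ¬ IsPlusTypeOn ⇑Q (D i)) : ∃ u : Fin t → Fin 2 → (ι → F), IsFrame Q D 1 u := by
  have ht := hD.decomp.decomp.two_le
  set i₀ : Fin t := ⟨0, by omega⟩ with hi₀
  have h3 := three_eq_zero hq3
  have h2 : (2 : F) ≠ 0 := two_ne_zero_three hq3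
  have hn := isNondegenerateOn_restrict (hD.decomp.nondegenerate i₀)
  obtain ⟨b, d, hd, hb, hbq⟩ := exists_diag_basis hn h2 (hD.decomp.decomp.finrank_eq i₀)
  have hq0 : Q (b 0 : ι → F) = 1 := by
    have := hbq 0
    rw [if_neg (by decide)] at this
    exact this
  have hq1 : Q (b 1 : ι → F) = d := by
    have := hbq 1
    rw [if_pos (by decide)] at this
    exact this
  have hp01 : polar Q (b 0 : ι → F) (b 1 : ι → F) = 0 := hb.p 0 1 (by decide)
  have hd1 : d = 1 := by
    rcases card_three_cases hq3 d with h | h | h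
    · exact absurd h hd
    · exact h
    · exfalso
      apply hp i₀
      refine ⟨Submodule.span F {((b 0 : D i₀) : ι → F) + b 1}, ?_, ?_, ?_⟩
      · rw [Submodule.span_singleton_le_iff_mem]
        exact (D i₀).add_mem (b 0).2 (b 1).2
      · intro x hx
        obtain ⟨a, rfl⟩ := Submodule.mem_span_singleton.1 hx
        rw [qsmul, qadd, hq0, hq1, hp01, h]; ring
      · rw [hD.decomp.decomp.finrank_eq i₀, finrank_span_singleton]
        intro h0
        have h5 := congrArg (fun x => polar Q ((b 0 : D i₀) : ι → F) x) h0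
        simp only [par, pself, hq0, hp01, polar_zero_right] at h5
        exact h2 (by linear_combination h5)
  subst hd1
  refine exists_frame_of_base hD i₀ one_ne_zero b ?_ ?_ ?_
  · intro a
    fin_cases a
    · exact hq0
    · exact hq1
  · intro a a' haa
    exact hb.p a a' haa
  · intro v hv
    have hv' := b.sum_repr v
    rw [Fin.sum_univ_two] at hv'
    have hvq : Q.restrict (D i₀) (b.repr v 0 • b 0 + b.repr v 1 • b 1) = 1 := by rw [hv']; exact hv
    have := all_of_three_two (q := Q.restrict (D i₀)) hq3 hq0 hq1 hp01 one_ne_zero hvq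
    rw [hv'] at this
    rcases this with h | h
    · exact ⟨0, h⟩
    · exact ⟨1, h⟩

/-- `q = 3`, three-dimensional members -/
theorem exists_frame_three_three (hq3 : Fintype.card F = 3) (hD : IsOrthogonalMDecomposition ⇑Q 3 D) :
    ∃ (c : F) (u : Fin t → Fin 3 → (ι → F)), IsFrame Q D c u := by
  have ht := hD.decomp.decomp.two_le
  set i₀ : Fin t := ⟨0, by omega⟩ with hi₀
  have h3 := three_eq_zero hq3
  have h2 : (2 : F) ≠ 0 := two_ne_zero_three hq3
  have hn := isNondegenerateOn_restrict (hD.decomp.nondegenerate i₀)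
  obtain ⟨b, d, hd, hb, hbq⟩ := exists_diag_basis hn h2 (hD.decomp.decomp.finrank_eq i₀)
  have hq0 : Q.restrict (D i₀) (b 0) = 1 := by
    have := hbq 0
    rwa [if_neg (by decide)] at this
  have hq1 : Q.restrict (D i₀) (b 1) = 1 := by
    have := hbq 1
    rwa [if_neg (by decide)] at this
  have hq2 : Q.restrict (D i₀) (b 2) = d := by
    have := hbq 2
    rwa [if_pos (by decide)] at this
  have hp01 : polar (Q.restrict (D i₀)) (b 0) (b 1) = 0 := hb.p 0 1 (by decide)
  have hp02 : polar (Q.restrict (D i₀)) (b 0) (b 2) = 0 := hb.p 0 2 (by decide)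
  have hp12 : polar (Q.restrict (D i₀)) (b 1) (b 2) = 0 := hb.p 1 2 (by decide)
  -- an orthogonal basis of vectors of norm `d`
  obtain ⟨x, y, z, hx, hy, hz, hxy, hxz, hyz, hgen⟩ : ∃ x y z : D i₀, Q.restrict (D i₀) x = d ∧
      Q.restrict (D i₀) y = d ∧ Q.restrict (D i₀) z = d ∧ polar (Q.restrict (D i₀)) x y = 0 ∧
      polar (Q.restrict (D i₀)) x z = 0 ∧ polar (Q.restrict (D i₀)) y z = 0 ∧
      ∀ v : D i₀, ∃ α β γ : F, v = α • x + β • y + γ • z := by
    have hgen0 : ∀ v : D i₀, v = b.repr v 0 • b 0 + b.repr v 1 • b 1 + b.repr v 2 • b 2 := by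
      intro v
      conv_lhs => rw [← b.sum_repr v, Fin.sum_univ_three]
    rcases card_three_cases hq3 d with h | h | h
    · exact absurd h hd
    · subst h
      exact ⟨b 0, b 1, b 2, hq0, hq1, hq2, hp01, hp02, hp12, fun v => ⟨_, _, _, hgen0 v⟩⟩
    · subst h
      refine ⟨b 0 + b 1, b 0 - b 1, b 2, ?_, ?_, hq2, ?_, ?_, ?_, fun v => ?_⟩
      · rw [qadd, hq0, hq1, hp01]; linear_combination h3
      · rw [qsub, hq0, hq1, hp01]; linear_combination h3
      · rw [pal, pdr, pdr, pself, pself, hq0, hq1, hp01, pc _ (b 1), hp01]; ring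
      · rw [pal, hp02, hp12]; ring
      · rw [pdl, hp02, hp12]; ring
      · refine ⟨-(b.repr v 0 + b.repr v 1), -(b.repr v 0 - b.repr v 1), b.repr v 2, ?_⟩
        conv_lhs => rw [hgen0 v]
        have e1 : b.repr v 0 = -(b.repr v 0 + b.repr v 1) + -(b.repr v 0 - b.repr v 1) := by
          linear_combination b.repr v 0 * h3
        have e2 : b.repr v 1 = -(b.repr v 0 + b.repr v 1) - -(b.repr v 0 - b.repr v 1) := by
          linear_combination b.repr v 1 * h3
        have e3 : (-(b.repr v 0 + b.repr v 1)) • (b 0 + b 1) + (-(b.repr v 0 - b.repr v 1)) • (b 0 - b 1)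
            = (-(b.repr v 0 + b.repr v 1) + -(b.repr v 0 - b.repr v 1)) • b 0 +
              (-(b.repr v 0 + b.repr v 1) - -(b.repr v 0 - b.repr v 1)) • b 1 := by module
        rw [e3, ← e1, ← e2]
  refine ⟨d, exists_frame_of_base hD i₀ hd ![x, y, z] ?_ ?_ ?_⟩
  · intro a
    fin_cases a
    · exact hx
    · exact hy
    · exact hz
  · intro a a' haa
    fin_cases a <;> fin_cases a'
    · exact absurd rfl haa
    · exact hxy
    · exact hxz
    · exact (pc (Q.restrict (D i₀)) y x).trans hxy
    · exact absurd rfl haa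
    · exact hyz
    · exact (pc (Q.restrict (D i₀)) z x).trans hxz
    · exact (pc (Q.restrict (D i₀)) z y).trans hyz
    · exact absurd rfl haa
  · intro v hv
    obtain ⟨α, β, γ, hv'⟩ := hgen v
    have hvq : Q.restrict (D i₀) (α • x + β • y + γ • z) = d := by rw [← hv']; exact hv
    have := all_of_three_three (q := Q.restrict (D i₀)) hq3 hx hy hz hxy hxz hyz hd hvq
    rw [← hv'] at this
    rcases this with h | h | h
    · exact ⟨0, h⟩
    · exact ⟨1, h⟩
    · exact ⟨2, h⟩

end Cfsg.Agent.OCase
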