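import Cfsg.Agent.OCase.FrameEx

/-!
Non-maximality from frames.
-/

set_option autoImplicit false
set_option linter.unusedSectionVars false

namespace Cfsg.Agent.OCase

open QuadraticMap Module Cfsg.Agent.Orth Cfsg.Geo

variable {ι : Type} [Fintype ι] [DecidableEq ι] {F : Type*} [Field F] [Fintype F]
variable {Q : QuadraticForm F (ι → F)} {t k : ℕ} {D : Fin t → Submodule F (ι → F)} {c : F}
  {u : Fin t → Fin k → (ι → F)}

theorem IsFrame.exists_between (hQ : (polarBilin Q).Nondegenerate) (hN : 7 ≤ Fintype.card ι) (h2 : (2 : F) ≠ 0)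
    (h : IsFrame Q D c u) (hD : IsOrthogonalMDecomposition ⇑Q k D) (ht : 4 ≤ t) (hk : 2 ≤ k) :
    ∃ K : Subgroup (Matrix.GeneralLinearGroup ι F),
      decompositionStabilizer D ⊓ omegaGL ⇑Q < K ∧ K < omegaGL ⇑Q :=
  Cfsg.Agent.OCase.exists_between (h.stab_le h2 hD (finProdFinEquiv (m := t) (n := k)).symm)
    (h.exists_witness hQ h2 hD _ ht hk)
    (not_omegaGL_le_decompositionStabilizer hQ hN
      (h.isOrthogonalMDecomposition h2 hD (finProdFinEquiv (m := t) (n := k)).symm).decomp.decomp)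

theorem row5695 {n : ℕ} (hn : 13 ≤ n) (Q : QuadraticForm F (Fin n → F)) (hQ : (polarBilin Q).Nondegenerate)
    (hq : Fintype.card F = 3) {t : ℕ} (k : ℕ) (hk : k = 2 ∨ k = 3) (D : Fin t → Submodule F (Fin n → F))
    (hD : IsOrthogonalMDecomposition ⇑Q k D)
    (hke : Even k → (Odd t ∧ ∀ i, ¬ IsPlusTypeOn ⇑Q (D i))) :
    ∃ K : Subgroup (Matrix.GeneralLinearGroup (Fin n) F),
      decompositionStabilizer D ⊓ omegaGL ⇑Q < K ∧ K < omegaGL ⇑Q := by
  have hcard : n = t * k := by simpa using card_eq_of_decomp hD.decomp.decomp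
  have hN : 7 ≤ Fintype.card (Fin n) := by rw [Fintype.card_fin]; omega
  have ht : 4 ≤ t := by
    by_contra hcon
    push Not at hcon
    rcases hk with rfl | rfl <;> omega
  rcases hk with rfl | rfl
  · obtain ⟨u, hu⟩ := exists_frame_three_two hq hD (hke (by decide)).2
    exact hu.exists_between hQ hN (two_ne_zero_three hq) hD ht le_rfl
  · obtain ⟨c, u, hu⟩ := exists_frame_three_three hq hD
    exact hu.exists_between hQ hN (two_ne_zero_three hq) hD ht (by norm_num)

end Cfsg.Agent.OCase
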