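import Cfsg.Agent.OCase.HermType

/-!
Field subalgebras of degree two acting by similarities.
-/

set_option autoImplicit false
set_option linter.unusedSectionVars false

namespace Cfsg.Agent.OCase

open QuadraticMap Module Cfsg.Agent.Orth Cfsg.Geo
open scoped Matrix

variable {ι : Type} [Fintype ι] [DecidableEq ι] {F : Type*} [Field F] [Fintype F] {Q : QuadraticForm F (ι → F)}

theorem exists_isHerm (hQ : (polarBilin Q).Nondegenerate) (hc : 0 < Fintype.card ι)
    {K : Subalgebra F (Matrix ι ι F)} (hK : IsFieldSubalgebra 2 K)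
    (hs : ∀ k ∈ K, ∃ c : F, ∀ v : ι → F, Q (k *ᵥ v) = c * Q v) :
    ∃ (ω : (ι → F) →ₗ[F] (ι → F)) (s p : F), IsHerm Q ω s p := by
  haveI : Nonempty ι := Fintype.card_pos_iff.1 hc
  obtain ⟨k, hkK, hk⟩ : ∃ k ∈ K, ∀ t : F, k ≠ t • (1 : Matrix ι ι F) := by
    by_contra hcon
    push Not at hcon
    have hle : (Subalgebra.toSubmodule K) ≤ Submodule.span F {(1 : Matrix ι ι F)} := by
      intro x hx
      obtain ⟨t, ht⟩ := hcon x hx
      exact Submodule.mem_span_singleton.2 ⟨t, ht.symm⟩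
    have h1 := Submodule.finrank_mono hle
    have h2 : finrank F (Subalgebra.toSubmodule K) = 2 := hK.finrank_eq
    rw [h2, finrank_span_singleton one_ne_zero] at h1
    omega
  obtain ⟨p, hp⟩ := hs k hkK
  obtain ⟨c, hc'⟩ := hs (k + 1) (K.add_mem hkK K.one_mem)
  refine ⟨Matrix.toLin' k, c - p - 1, p, fun v => by rw [Matrix.toLin'_apply]; exact hp v, fun v => ?_, fun t ht => ?_⟩
  · rw [Matrix.toLin'_apply, polar, hp]
    have := hc' v
    rw [Matrix.add_mulVec, Matrix.one_mulVec] at this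
    rw [this]; ring
  · have hmem : k - t • 1 ∈ K := K.sub_mem hkK (K.smul_mem K.one_mem t)
    obtain ⟨y, -, hy⟩ := hK.inv _ hmem (sub_ne_zero.2 (hk t))
    have hpol : ∀ v, polar Q (k *ᵥ v) v = (c - p - 1) * Q v := fun v => by
      have := hc' v
      rw [Matrix.add_mulVec, Matrix.one_mulVec] at this
      rw [polar, this, hp]; ring
    have h0 : ∀ v, Q ((k - t • 1) *ᵥ v) = 0 := by
      intro v
      rw [Matrix.sub_mulVec, Matrix.smul_mulVec, Matrix.one_mulVec, qsub, qsmul, hp, psr, hpol]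
      linear_combination Q v * ht
    obtain ⟨v, hv⟩ := exists_q_ne_zero hQ (by rw [finrank_fintype_fun_eq_card]; exact hc)
    apply hv
    have := h0 (y *ᵥ v)
    rwa [Matrix.mulVec_mulVec, hy, Matrix.one_mulVec] at this

theorem not_isPlus_of_similarity (hQ : (polarBilin Q).Nondegenerate) {m : ℕ} (hc : Fintype.card ι = 2 * m)
    (hm : Odd m) {K : Subalgebra F (Matrix ι ι F)} (hK : IsFieldSubalgebra 2 K)
    (hs : ∀ k ∈ K, ∃ c : F, ∀ v : ι → F, Q (k *ᵥ v) = c * Q v) : ¬ IsPlus Q := by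
  have hm0 : 0 < m := hm.pos
  obtain ⟨ω, s, p, h⟩ := exists_isHerm hQ (by omega) hK hs
  rw [IsHerm.isPlus_iff m (ι → F) Q ω hQ h (by rw [finrank_fintype_fun_eq_card, hc])]
  exact Nat.not_even_iff_odd.2 hm

end Cfsg.Agent.OCase
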