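import Cfsg.Agent.OCase.Cases2

/-!
The type of a quadratic space with a similarity structure over a quadratic extension.
-/

set_option autoImplicit false
set_option linter.unusedSectionVars false

namespace Cfsg.Agent.OCase

open QuadraticMap Module Cfsg.Agent.Orth

universe u

variable {F : Type*} [Field F] [Finite F]

/-- multiplication by a quadratic element acts by similarities -/
structure IsHerm {V : Type*} [AddCommGroup V] [Module F V] (Q : QuadraticForm F V) (ω : V →ₗ[F] V) (s p : F) :
    Prop where
  q : ∀ v, Q (ω v) = p * Q v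
  pol : ∀ v, polar Q (ω v) v = s * Q v
  root : ∀ t : F, t * t - s * t + p ≠ 0

section

variable {V : Type*} [AddCommGroup V] [Module F V] [FiniteDimensional F V] {Q : QuadraticForm F V}
  {ω : V →ₗ[F] V} {s p : F}

namespace IsHerm

theorem polar_polar (h : IsHerm Q ω s p) (v w : V) : polar Q (ω v) (ω w) = p * polar Q v w := by
  rw [polar, polar, ← map_add, h.q, h.q, h.q]; ring

theorem adj (h : IsHerm Q ω s p) (v w : V) : polar Q (ω v) w = polar Q v (s • w - ω w) := by
  have h1 := h.pol (v + w)
  rw [_root_.map_add, pal, par, par, h.pol, h.pol, qadd] at h1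
  rw [pdr, psr, pc Q v (ω w)]
  linear_combination h1

theorem sq (hQ : (polarBilin Q).Nondegenerate) (h : IsHerm Q ω s p) (v : V) : ω (ω v) = s • ω v - p • v := by
  have key : ∀ w, polar Q w (s • ω v - ω (ω v) - p • v) = 0 := by
    intro w
    rw [pdr, ← h.adj w (ω v), h.polar_polar, psr, sub_self]
  have h0 : s • ω v - ω (ω v) - p • v = 0 := hQ.2 _ key
  have : ω (ω v) = s • ω v - p • v - (s • ω v - ω (ω v) - p • v) := by abel
  rw [this, h0, sub_zero]

theorem disc (h : IsHerm Q ω s p) : 4 * p - s * s ≠ 0 := by
  intro h0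
  by_cases h2 : (2 : F) = 0
  · have hs : s = 0 := by
      have : s * s = 0 := by linear_combination 2 * p * h2 - h0
      exact mul_self_eq_zero.1 this
    haveI : CharP F 2 := CharTwo.of_one_ne_zero_of_two_eq_zero one_ne_zero h2
    haveI : Fact (Nat.Prime 2) := ⟨Nat.prime_two⟩
    haveI := Fintype.ofFinite F
    obtain ⟨t, ht⟩ := FiniteField.isSquare_of_char_two (by rw [ringChar.eq_iff]; infer_instance) p
    apply h.root t
    rw [hs, ht]
    linear_combination t * t * h2
  · apply h.root (s / 2)
    have h4 : (4 : F) ≠ 0 := by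
      have : (4 : F) = 2 * 2 := by norm_num
      rw [this]; exact mul_ne_zero h2 h2
    field_simp
    linear_combination h0

/-- the norm form of a pair -/
theorem q_pair (h : IsHerm Q ω s p) (v : V) (a b : F) :
    Q (a • v + b • ω v) = (a * a + s * a * b + p * b * b) * Q v := by
  rw [qadd, qsmul, qsmul, psl, psr, pc, h.pol, h.q]; ring

theorem norm_ne (h : IsHerm Q ω s p) {a b : F} (hab : a ≠ 0 ∨ b ≠ 0) : a * a + s * a * b + p * b * b ≠ 0 := by
  intro h0
  by_cases hb : b = 0
  · rw [hb] at h0
    have : a * a = 0 := by linear_combination h0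
    rcases hab with ha | hb'
    · exact ha (mul_self_eq_zero.1 this)
    · exact hb' hb
  · apply h.root (-(a / b))
    field_simp
    linear_combination h0

end IsHerm

theorem exists_q_ne_zero (hQ : (polarBilin Q).Nondegenerate) (hd : 0 < finrank F V) : ∃ v, Q v ≠ 0 := by
  by_contra hcon
  push Not at hcon
  obtain ⟨v, hv⟩ := (Module.finrank_pos_iff_exists_ne_zero (R := F) (M := V)).1 hd
  exact hv (hQ.1 v fun w => by rw [pbil, polar, hcon, hcon, hcon]; ring)

end

/-- **the type is `(-1)^m`** -/
theorem IsHerm.isPlus_iff {s p : F} : ∀ (m : ℕ) (V : Type u) [AddCommGroup V] [Module F V] [FiniteDimensional F V]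
    (Q : QuadraticForm F V) (ω : V →ₗ[F] V), (polarBilin Q).Nondegenerate → IsHerm Q ω s p →
    finrank F V = 2 * m → (IsPlus Q ↔ Even m) := by
  intro m
  induction m with
  | zero =>
    intro V _ _ _ Q ω hQ h hd
    simp only [Even.zero, iff_true]
    exact ⟨⊥, fun u hu => by rw [(Submodule.mem_bot F).1 hu, QuadraticMap.map_zero], by rw [finrank_bot, hd]⟩
  | succ m ih =>
    intro V _ _ _ Q ω hQ h hd
    obtain ⟨v, hv⟩ := exists_q_ne_zero hQ (by omega)
    set P : Submodule F V := Submodule.span F {v, ω v} with hP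
    have hmem : ∀ x ∈ P, ∃ a b : F, x = a • v + b • ω v := fun x hx => by
      obtain ⟨a, b, hab⟩ := Submodule.mem_span_pair.1 hx
      exact ⟨a, b, hab.symm⟩
    have haniso : ∀ a b : F, Q (a • v + b • ω v) = 0 → a = 0 ∧ b = 0 := by
      intro a b hab
      rw [h.q_pair] at hab
      by_contra hcon
      exact h.norm_ne (by tauto) ((mul_eq_zero.1 hab).resolve_right hv)
    have hli : LinearIndependent F ![v, ω v] := by
      rw [LinearIndependent.pair_iff]
      intro a b hab
      exact haniso a b (by rw [hab, QuadraticMap.map_zero])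
    have hPd : finrank F P = 2 := by
      have h3 : finrank F (Submodule.span F (Set.range ![v, ω v])) = 2 := by
        rw [finrank_span_eq_card hli, Fintype.card_fin]
      have h4 : Set.range ![v, ω v] = {v, ω v} := by
        simp only [Matrix.range_cons, Matrix.range_empty, Set.union_empty, Set.singleton_union]
      rwa [h4] at h3
    have hPn : P ⊓ perp Q P = ⊥ := by
      rw [eq_bot_iff]
      rintro x ⟨hx, hx'⟩
      obtain ⟨a, b, rfl⟩ := hmem x hx
      have h1 : polar Q v (a • v + b • ω v) = 0 := hx' v (Submodule.subset_span (by simp))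
      have h2 : polar Q (ω v) (a • v + b • ω v) = 0 := hx' (ω v) (Submodule.subset_span (by simp))
      rw [par, psr, psr, pself, pc Q v, h.pol] at h1
      rw [par, psr, psr, h.polar_polar, pself, h.pol] at h2
      have e1 : (4 * p - s * s) * a = 0 := by
        apply mul_right_cancel₀ hv
        linear_combination 2 * p * h1 - s * h2
      have e2 : (4 * p - s * s) * b = 0 := by
        apply mul_right_cancel₀ hv
        linear_combination 2 * h2 - s * h1
      rw [(mul_eq_zero.1 e1).resolve_left h.disc, (mul_eq_zero.1 e2).resolve_left h.disc]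
      simp
    have hPm : ¬ IsPlus (Q.restrict P) := by
      rw [isPlus_restrict_iff]
      rintro ⟨U, hU, hUs, hUd⟩
      rw [hPd] at hUd
      obtain ⟨x, hx, hx0⟩ := (Submodule.ne_bot_iff U).1 (by
        rintro rfl
        rw [finrank_bot] at hUd
        omega)
      obtain ⟨a, b, rfl⟩ := hmem x (hU hx)
      obtain ⟨rfl, rfl⟩ := haniso a b (hUs _ hx)
      simp at hx0
    have hωP : ∀ x ∈ P, ω x ∈ P := by
      intro x hx
      obtain ⟨a, b, rfl⟩ := hmem x hx
      rw [_root_.map_add, _root_.map_smul, _root_.map_smul, h.sq hQ]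
      have h1 : v ∈ P := Submodule.subset_span (by simp)
      have h2 : ω v ∈ P := Submodule.subset_span (by simp)
      exact P.add_mem (P.smul_mem _ h2) (P.smul_mem _ (P.sub_mem (P.smul_mem _ h2) (P.smul_mem _ h1)))
    have hωP' : ∀ x ∈ perp Q P, ω x ∈ perp Q P := by
      intro x hx w hw
      change polar Q w (ω x) = 0
      rw [pc, h.adj, pc]
      exact hx _ (P.sub_mem (P.smul_mem _ hw) (hωP w hw))
    have hdp := finrank_perp hQ P
    have h' : IsHerm (Q.restrict (perp Q P)) (ω.restrict hωP') s p :=
      ⟨fun w => h.q w, fun w => h.pol w, h.root⟩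
    have ih' := ih (perp Q P) (Q.restrict (perp Q P)) (ω.restrict hωP')
      (nondegenerate_restrict (perp_inf_eq_bot hQ hPn)) h' (by omega)
    rw [isPlus_iff_of_split hQ hPn (by rw [hPd]; decide) (by rw [hd]; exact even_two_mul _), ih', Nat.even_add_one]
    tauto

end Cfsg.Agent.OCase
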