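import Cfsg.Agent.OCase.Contain
import Cfsg.Agent.GeoMax.OBasic

/-!
`Ω` is irreducible and primitive; the general shape of the non-maximality proofs.
-/

set_option autoImplicit false
set_option linter.unusedSectionVars false

namespace Cfsg.Agent.OCase

open QuadraticMap Module Cfsg.Agent.Orth Cfsg.Geo

section abstract

variable {F V : Type*} [Field F] [Finite F] [AddCommGroup V] [Module F V] [FiniteDimensional F V]
  {Q : QuadraticForm F V}

/-- `Ω` is transitive on the non-zero vectors of a given norm -/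
theorem exists_mem_commutator_map (hQ : (polarBilin Q).Nondegenerate) (hN : 7 ≤ finrank F V) {v v' : V}
    (hv : v ≠ 0) (hv' : v' ≠ 0) (hq : Q v = Q v') : ∃ g ∈ commutator (OGrp Q), (g : V ≃ₗ[F] V) v = v' :=
  GeoMax.Ort.exists_mem_move hQ hN (fun _ _ ha hab => ⟨ha, hab, GeoMax.Ort.eich_mem_commutator hQ hN ha hab⟩)
    hv hv' hq

/-- `Ω` is irreducible -/
theorem exists_map_ne (hQ : (polarBilin Q).Nondegenerate) (hN : 7 ≤ finrank F V) {W : Submodule F V}
    (h0 : W ≠ ⊥) (h1 : W ≠ ⊤) : ∃ g ∈ commutator (OGrp Q), W.map ((g : V ≃ₗ[F] V) : V →ₗ[F] V) ≠ W := by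
  by_contra hcon
  push Not at hcon
  obtain ⟨w, hw, hw0⟩ := (Submodule.ne_bot_iff W).1 h0
  obtain ⟨y, hy⟩ : ∃ y, y ∉ W := by
    by_contra h
    push Not at h
    exact h1 (eq_top_iff.2 fun x _ => h x)
  obtain ⟨z, hz, hzy⟩ := exists_ortho_not hQ W hy
  obtain ⟨x, hx, hxz⟩ := GeoMax.Ort.repV hQ [z] (by simp; omega) y (Q w)
  have hxz' : polar Q x z = 1 := by rw [hxz z (by simp), pc, hzy]
  have hx0 : x ≠ 0 := by
    rintro rfl
    rw [polar_zero_left] at hxz'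
    exact zero_ne_one hxz'
  obtain ⟨g, hg, hgx⟩ := exists_mem_commutator_map hQ hN hw0 hx0 hx.symm
  have hxW : x ∈ W := by
    rw [← hcon g hg, ← hgx]
    exact ⟨w, hw, rfl⟩
  rw [pc, hz x hxW] at hxz'
  exact zero_ne_one hxz'

end abstract

section conv

variable {ι : Type} [Fintype ι] [DecidableEq ι] {F : Type*} [Field F] [Finite F]

theorem not_omegaGL_le_subspaceStabilizer {Q : QuadraticForm F (ι → F)} (hQ : (polarBilin Q).Nondegenerate)
    (hN : 7 ≤ Fintype.card ι) {W : Submodule F (ι → F)} (h0 : W ≠ ⊥) (h1 : W ≠ ⊤) :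
    ¬ omegaGL ⇑Q ≤ subspaceStabilizer W := by
  intro hle
  obtain ⟨g, hg, hgW⟩ := exists_map_ne hQ (by rwa [finrank_fintype_fun_eq_card]) h0 h1
  exact hgW (toGL_mem_subspaceStabilizer.1 (hle (toGL_mem_omegaGL hg)))

/-- a vector not orthogonal to two components is in no component -/
theorem not_mem_of_polar {Q : QuadraticForm F (ι → F)} {t : ℕ} {D : Fin t → Submodule F (ι → F)}
    (ho : ∀ i j, i ≠ j → AreOrthogonalFor (polar ⇑Q) (D i) (D j)) {i j : Fin t} (hij : i ≠ j)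
    {x di dj : ι → F} (hi : di ∈ D i) (hj : dj ∈ D j) (h1 : polar Q x di ≠ 0) (h2 : polar Q x dj ≠ 0)
    (l : Fin t) : x ∉ D l := by
  intro hx
  have hl : l = i := by
    by_contra hne
    exact h1 (ho l i hne x hx di hi)
  have hl' : l = j := by
    by_contra hne
    exact h2 (ho l j hne x hx dj hj)
  exact hij (hl.symm.trans hl')

/-- `Ω` is primitive -/
theorem not_omegaGL_le_decompositionStabilizer {Q : QuadraticForm F (ι → F)} (hQ : (polarBilin Q).Nondegenerate)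
    (hN : 7 ≤ Fintype.card ι) {t k : ℕ} {D : Fin t → Submodule F (ι → F)} (hD : IsMDecomposition k D) :
    ¬ omegaGL ⇑Q ≤ decompositionStabilizer D := by
  intro hle
  have hN' : 7 ≤ finrank F (ι → F) := by rwa [finrank_fintype_fun_eq_card]
  have ht := hD.two_le
  have hne : ∀ i, ∃ x ∈ D i, x ≠ 0 := by
    intro i
    apply (Submodule.ne_bot_iff _).1
    intro h
    have h1 := hD.finrank_eq i
    rw [h, finrank_bot] at h1
    have h2 := hD.pos
    omega
  have hz : ∀ i, ∃ z d : ι → F, d ∈ D i ∧ polar Q d z = 1 ∧ ∀ l, l ≠ i → ∀ x ∈ D l, polar Q x z = 0 := by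
    intro i
    obtain ⟨x, hx, hx0⟩ := hne i
    have hxn : x ∉ ⨆ l, ⨆ (_ : l ≠ i), D l := by
      intro h
      have := (hD.indep i).le_bot ⟨hx, h⟩
      exact hx0 ((Submodule.mem_bot F).1 this)
    obtain ⟨z, hz, hzx⟩ := exists_ortho_not hQ _ hxn
    refine ⟨z, x, hx, by rw [pc]; exact hzx, fun l hl y hy => ?_⟩
    rw [pc]
    exact hz y (Submodule.mem_iSup_of_mem l (Submodule.mem_iSup_of_mem hl hy))
  obtain ⟨z₀, d₀, hd₀, h00, h0⟩ := hz ⟨0, by omega⟩
  obtain ⟨z₁, d₁, hd₁, h11, h1⟩ := hz ⟨1, by omega⟩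
  have hne01 : (⟨0, by omega⟩ : Fin t) ≠ ⟨1, by omega⟩ := by
    intro h
    have := congrArg Fin.val h
    simp at this
  have h01 : polar Q d₀ z₁ = 0 := h1 _ hne01 d₀ hd₀
  have h10 : polar Q d₁ z₀ = 0 := h0 _ hne01.symm d₁ hd₁
  obtain ⟨x, hx, hxz⟩ := GeoMax.Ort.repV hQ [z₀, z₁] (by simp; omega) (d₀ + d₁) (Q d₀)
  have e0 : polar Q x z₀ = 1 := by rw [hxz z₀ (by simp), pal, h00, h10, add_zero]
  have e1 : polar Q x z₁ = 1 := by rw [hxz z₁ (by simp), pal, h01, h11, zero_add]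
  have hd₀0 : d₀ ≠ 0 := by
    rintro rfl
    rw [polar_zero_left] at h00
    exact zero_ne_one h00
  have hx0 : x ≠ 0 := by
    rintro rfl
    rw [polar_zero_left] at e0
    exact zero_ne_one e0
  obtain ⟨g, hg, hgx⟩ := exists_mem_commutator_map hQ hN' hd₀0 hx0 hx.symm
  obtain ⟨σ, hσ⟩ := toGL_mem_decompositionStabilizer.1 (hle (toGL_mem_omegaGL hg))
  have hxD : x ∈ D (σ ⟨0, by omega⟩) := by
    rw [← hσ, ← hgx]
    exact ⟨d₀, hd₀, rfl⟩
  by_cases hs : σ ⟨0, by omega⟩ = ⟨0, by omega⟩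
  · rw [hs] at hxD
    rw [h1 _ hne01 x hxD] at e1
    exact zero_ne_one e1
  · rw [h0 _ hs x hxD] at e0
    exact zero_ne_one e0

/-- the shape of the non-maximality proofs -/
theorem exists_between {Q : QuadraticForm F (ι → F)} {M M' : Subgroup (Matrix.GeneralLinearGroup ι F)}
    (h1 : M ⊓ omegaGL ⇑Q ≤ M') (h2 : ∃ g ∈ commutator (OGrp Q), toGL g ∈ M' ∧ toGL g ∉ M)
    (h3 : ¬ omegaGL ⇑Q ≤ M') :
    ∃ K : Subgroup (Matrix.GeneralLinearGroup ι F), M ⊓ omegaGL ⇑Q < K ∧ K < omegaGL ⇑Q := by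
  refine ⟨M' ⊓ omegaGL ⇑Q, lt_of_le_of_ne (le_inf h1 inf_le_right) ?_, lt_of_le_of_ne inf_le_right ?_⟩
  · intro heq
    obtain ⟨g, hg, hg1, hg2⟩ := h2
    have : toGL g ∈ M' ⊓ omegaGL ⇑Q := ⟨hg1, toGL_mem_omegaGL hg⟩
    rw [← heq] at this
    exact hg2 this.1
  · intro heq
    exact h3 (inf_eq_right.1 heq)

/-- maximality: a containment of a maximal member in another member is an equality -/
theorem eq_of_le {Q : QuadraticForm F (ι → F)} {H M M' : Subgroup (Matrix.GeneralLinearGroup ι F)}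
    (hH : IsMaximalIn (omegaGL ⇑Q) H) (hM : H = M ⊓ omegaGL ⇑Q) (h1 : M ⊓ omegaGL ⇑Q ≤ M')
    (h3 : ¬ omegaGL ⇑Q ≤ M') : H = M' ⊓ omegaGL ⇑Q := by
  rcases hH.2 (M' ⊓ omegaGL ⇑Q) (le_inf (hM ▸ h1) hH.1.le) inf_le_right with h | h
  · exact h.symm
  · exact absurd (inf_eq_right.mp h) h3

end conv

end Cfsg.Agent.OCase
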