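import Cfsg.Agent.OCase.Type

/-!
Isometry of even-dimensional quadratic spaces of the same type over finite fields.
-/

set_option autoImplicit false
set_option linter.unusedSectionVars false
set_option linter.unusedSimpArgs false

namespace Cfsg.Agent.OCase

open QuadraticMap Module Cfsg.Agent.Orth

/-- Artin--Schreier in characteristic two: the sum of two values not of the form `u² + u` is of this form. -/
theorem exists_artinSchreier {F : Type*} [Field F] [Finite F] (h2 : (2 : F) = 0) {a b : F}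
    (ha : ∀ t : F, t ^ 2 + t + a ≠ 0) (hb : ∀ t : F, t ^ 2 + t + b ≠ 0) : ∃ u : F, u ^ 2 + u = a + b := by
  set f : F →+ F :=
    { toFun := fun u => u ^ 2 + u
      map_zero' := by ring
      map_add' := fun x y => by linear_combination x * y * h2 } with hf
  have hker : Nat.card f.ker = 2 := by
    have : (f.ker : Set F) = {0, 1} := by
      ext u
      rw [SetLike.mem_coe, AddMonoidHom.mem_ker]
      change u ^ 2 + u = 0 ↔ _
      constructor
      · intro h
        have : u * (u + 1) = 0 := by linear_combination h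
        rcases mul_eq_zero.1 this with h | h
        · exact Or.inl h
        · right
          rw [Set.mem_singleton_iff]
          linear_combination h - h2
      · rintro (h | h)
        · rw [h]; ring
        · rw [Set.mem_singleton_iff.1 h]; linear_combination h2
    have h3 : Nat.card f.ker = Set.ncard ({0, 1} : Set F) := by
      rw [← this]; rfl
    rw [h3, Set.ncard_pair zero_ne_one]
  have hidx : f.range.index = 2 := by
    have h4 := AddSubgroup.card_mul_index f.range
    have h5 := AddSubgroup.card_eq_card_quotient_mul_card_addSubgroup f.ker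
    have h6 : Nat.card (F ⧸ f.ker) = Nat.card f.range :=
      Nat.card_congr (QuotientAddGroup.quotientKerEquivRange f).toEquiv
    rw [h6, hker, ← h4] at h5
    have h7 : 0 < Nat.card f.range := Nat.card_pos
    exact Nat.eq_of_mul_eq_mul_left h7 h5
  have hna : a ∉ f.range := by
    rintro ⟨u, hu⟩
    change u ^ 2 + u = a at hu
    exact ha u (by rw [hu]; linear_combination a * h2)
  have hnb : b ∉ f.range := by
    rintro ⟨u, hu⟩
    change u ^ 2 + u = b at hu
    exact hb u (by rw [hu]; linear_combination b * h2)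
  have := (AddSubgroup.add_mem_iff_of_index_two hidx (a := a) (b := b)).2 (by simp [hna, hnb])
  obtain ⟨u, hu⟩ := this
  exact ⟨u, hu⟩

theorem exists_change {F : Type*} [Field F] [Finite F] {ζ₁ ζ₂ : F} (h1 : ∀ t : F, t ^ 2 + t + ζ₁ ≠ 0)
    (h2 : ∀ t : F, t ^ 2 + t + ζ₂ ≠ 0) :
    ∃ u c : F, c ≠ 0 ∧ 2 * u + c = 1 ∧ u ^ 2 + u * c + ζ₂ * c ^ 2 = ζ₁ := by
  by_cases hc : (2 : F) = 0
  · obtain ⟨u, hu⟩ := exists_artinSchreier hc h1 h2
    refine ⟨u, 1, one_ne_zero, ?_, ?_⟩
    · linear_combination u * hc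
    · linear_combination hu + ζ₂ * hc
  · have n1 : ¬ IsSquare (1 - 4 * ζ₁) := by
      rintro ⟨s, hs⟩
      apply h1 ((s - 1) / 2)
      field_simp
      linear_combination -hs
    have n2 : ¬ IsSquare (1 - 4 * ζ₂) := by
      rintro ⟨s, hs⟩
      apply h2 ((s - 1) / 2)
      field_simp
      linear_combination -hs
    have n20 : (1 - 4 * ζ₂) ≠ 0 := fun h => n2 (by rw [h]; exact IsSquare.zero)
    have n10 : (1 - 4 * ζ₁) ≠ 0 := fun h => n1 (by rw [h]; exact IsSquare.zero)
    obtain ⟨s, hs⟩ := isSquare_mul_of_not n1 n2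
    -- (s/(1-4ζ₂))² = (1-4ζ₁)/(1-4ζ₂)
    set w := s / (1 - 4 * ζ₂) with hw
    have hw2 : w ^ 2 * (1 - 4 * ζ₂) = 1 - 4 * ζ₁ := by
      rw [hw]; field_simp; linear_combination -hs
    have hw0 : w ≠ 0 := by
      intro h0
      rw [h0] at hw2
      apply n10
      linear_combination -hw2
    refine ⟨(1 - w) / 2, w, hw0, by field_simp; ring, ?_⟩
    have h4 : (4 : F) ≠ 0 := by
      have : (4 : F) = 2 * 2 := by norm_num
      rw [this]; exact mul_ne_zero hc hc
    clear_value w
    field_simp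
    linear_combination -hw2

variable {F V V₁ V₂ : Type*} [Field F] [Finite F] [AddCommGroup V] [Module F V] [FiniteDimensional F V]
  [AddCommGroup V₁] [Module F V₁] [FiniteDimensional F V₁] [AddCommGroup V₂] [Module F V₂]
  [FiniteDimensional F V₂]

theorem isPlus_qfPlus (m : ℕ) : IsPlus (qfPlus m F) :=
  ⟨U0 m F, TS_U0 m F, by rw [finrank_U0, finrank_V]⟩

theorem not_isPlus_qfMinus (m : ℕ) {ζ : F} (hζ : ∀ t : F, t ^ 2 + t + ζ ≠ 0) : ¬ IsPlus (qfMinus m F 1 ζ) := by
  rintro ⟨U, hU, hd⟩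
  have h1 := TS.finrank_le_minus (disc_ne_zero_of_aniso (aniso_of_root hζ)) (aniso_of_root hζ) hU
  rw [finrank_fintype_fun_eq_card, Fintype.card_sum, Fintype.card_sum, Fintype.card_fin, Fintype.card_fin] at hd
  omega

/-- the dichotomy -/
theorem exists_isom_plus_or_minus {Q : QuadraticForm F V} (hQ : (polarBilin Q).Nondegenerate) {m : ℕ}
    (hV : finrank F V = 2 * (m + 1)) :
    (∃ g : (Fin (m + 1) ⊕ Fin (m + 1) → F) ≃ₗ[F] V, ∀ v, Q (g v) = qfPlus (m + 1) F v) ∨
    (∃ (ζ : F) (g : ((Fin m ⊕ Fin m) ⊕ Fin 2 → F) ≃ₗ[F] V), (∀ t : F, t ^ 2 + t + ζ ≠ 0) ∧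
      ∀ v, Q (g v) = qfMinus m F 1 ζ v) := by
  rcases std_basis (by omega) hV Q hQ with ⟨b, hq, hef, hee⟩ | h
  · left
    obtain ⟨g, hg, -⟩ := isom_of_basis (qfPlus_nondegenerate (m + 1) F) Q (by
        rw [finrank_V, hV]) (Pi.basisFun F (Fin (m + 1) ⊕ Fin (m + 1))) b
      (by
        intro i
        rw [Pi.basisFun_apply, qfPlus_apply]
        rcases i with i | i
        · rw [(hq i).1]; simp [Pi.single_apply]
        · rw [(hq i).2]; simp [Pi.single_apply])
      (by
        intro i j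
        rw [Pi.basisFun_apply, Pi.basisFun_apply, polar_qfPlus]
        rcases i with i | i <;> rcases j with j | j
        · rw [(hee i j).1]; simp [Pi.single_apply]
        · rw [hef]; simp [Pi.single_apply, eq_comm]
        · rw [pc, hef]; simp [Pi.single_apply, eq_comm]
        · rw [(hee i j).2]; simp [Pi.single_apply])
    exact ⟨g, hg⟩
  · right
    change ∃ (b : Module.Basis ((Fin m ⊕ Fin m) ⊕ Fin 2) F V) (ζ : F), (∀ t : F, t ^ 2 + t + ζ ≠ 0) ∧
      (∀ i, Q (b (Sum.inl (Sum.inl i))) = 0 ∧ Q (b (Sum.inl (Sum.inr i))) = 0) ∧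
      (∀ i j, QuadraticMap.polar ⇑Q (b (Sum.inl (Sum.inl i))) (b (Sum.inl (Sum.inr j))) = if i = j then 1 else 0) ∧
      (∀ i j, QuadraticMap.polar ⇑Q (b (Sum.inl (Sum.inl i))) (b (Sum.inl (Sum.inl j))) = 0 ∧
        QuadraticMap.polar ⇑Q (b (Sum.inl (Sum.inr i))) (b (Sum.inl (Sum.inr j))) = 0) ∧
      (∀ i (k : Fin 2), QuadraticMap.polar ⇑Q (b (Sum.inl (Sum.inl i))) (b (Sum.inr k)) = 0 ∧
        QuadraticMap.polar ⇑Q (b (Sum.inl (Sum.inr i))) (b (Sum.inr k)) = 0) ∧
      Q (b (Sum.inr 0)) = 1 ∧ QuadraticMap.polar ⇑Q (b (Sum.inr 0)) (b (Sum.inr 1)) = 1 ∧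
      Q (b (Sum.inr 1)) = ζ at h
    obtain ⟨b, ζ, hζ, hq, hef, hee, heu, h0, h01, h1⟩ := h
    have hζ' := disc_ne_zero_of_aniso (aniso_of_root hζ)
    obtain ⟨g, hg, -⟩ := isom_of_basis (qfMinus_nondegenerate m F hζ') Q (by
        rw [finrank_fintype_fun_eq_card, Fintype.card_sum, Fintype.card_sum, Fintype.card_fin, Fintype.card_fin,
          hV]; ring) (Pi.basisFun F ((Fin m ⊕ Fin m) ⊕ Fin 2)) b
      (by
        intro i
        rw [Pi.basisFun_apply, qfMinus_apply]
        rcases i with (i | i) | i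
        · rw [(hq i).1]; simp [Pi.single_apply]
        · rw [(hq i).2]; simp [Pi.single_apply]
        · fin_cases i
          · simp only [Fin.zero_eta, Fin.isValue]
            rw [h0]; simp [Pi.single_apply]
          · simp only [Fin.mk_one, Fin.isValue]
            rw [h1]; simp [Pi.single_apply])
      (by
        intro i j
        rw [Pi.basisFun_apply, Pi.basisFun_apply, polar_qfMinus]
        rcases i with (i | i) | i <;> rcases j with (j | j) | j
        · rw [(hee i j).1]; simp [Pi.single_apply]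
        · rw [hef]; simp [Pi.single_apply, eq_comm]
        · rw [(heu i j).1]; fin_cases j <;> simp [Pi.single_apply]
        · rw [pc, hef]; simp [Pi.single_apply, eq_comm]
        · rw [(hee i j).2]; simp [Pi.single_apply]
        · rw [(heu i j).2]; fin_cases j <;> simp [Pi.single_apply]
        · rw [pc, (heu j i).1]; fin_cases i <;> simp [Pi.single_apply]
        · rw [pc, (heu j i).2]; fin_cases i <;> simp [Pi.single_apply]
        · fin_cases i <;> fin_cases j <;> simp only [Fin.zero_eta, Fin.isValue, Fin.mk_one]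
          · rw [pself, h0]; simp [Pi.single_apply]
          · rw [h01]; simp [Pi.single_apply]
          · rw [pc, h01]; simp [Pi.single_apply]
          · rw [pself, h1]; simp [Pi.single_apply])
    exact ⟨ζ, g, hζ, hg⟩

/-- a space of plus type is isometric to the standard one -/
theorem IsPlus.exists_isom {Q : QuadraticForm F V} (hQ : (polarBilin Q).Nondegenerate) {m : ℕ}
    (hV : finrank F V = 2 * m) (hp : IsPlus Q) :
    ∃ g : (Fin m ⊕ Fin m → F) ≃ₗ[F] V, ∀ v, Q (g v) = qfPlus m F v := by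
  rcases m with _ | m
  · have hs : Subsingleton V := Module.finrank_zero_iff.1 (by rw [hV])
    refine ⟨LinearEquiv.ofFinrankEq _ _ (by rw [finrank_V, hV]), fun v => ?_⟩
    rw [Subsingleton.elim (LinearEquiv.ofFinrankEq _ _ _ v) (0 : V), QuadraticMap.map_zero, qfPlus_apply]
    simp
  · rcases exists_isom_plus_or_minus hQ hV with h | ⟨ζ, g, hζ, hg⟩
    · exact h
    · exact absurd ((isPlus_congr g hg).2 hp) (not_isPlus_qfMinus m hζ)

theorem exists_isom_of_not_isPlus {Q : QuadraticForm F V} (hQ : (polarBilin Q).Nondegenerate) {m : ℕ}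
    (hV : finrank F V = 2 * (m + 1)) (hp : ¬ IsPlus Q) :
    ∃ (ζ : F) (g : ((Fin m ⊕ Fin m) ⊕ Fin 2 → F) ≃ₗ[F] V), (∀ t : F, t ^ 2 + t + ζ ≠ 0) ∧
      ∀ v, Q (g v) = qfMinus m F 1 ζ v := by
  rcases exists_isom_plus_or_minus hQ hV with ⟨g, hg⟩ | h
  · exact absurd ((isPlus_congr g hg).1 (isPlus_qfPlus (m + 1))) hp
  · exact h

/-- the standard forms of minus type in the same dimension are isometric -/
theorem qfMinus_isom (m : ℕ) {ζ₁ ζ₂ : F} (h1 : ∀ t : F, t ^ 2 + t + ζ₁ ≠ 0) (h2 : ∀ t : F, t ^ 2 + t + ζ₂ ≠ 0) :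
    ∃ g : ((Fin m ⊕ Fin m) ⊕ Fin 2 → F) ≃ₗ[F] ((Fin m ⊕ Fin m) ⊕ Fin 2 → F),
      ∀ v, qfMinus m F 1 ζ₂ (g v) = qfMinus m F 1 ζ₁ v := by
  obtain ⟨u, c, hc, huc, hz⟩ := exists_change h1 h2
  have hl : ∀ v : (Fin m ⊕ Fin m) ⊕ Fin 2 → F,
      qfMinus m F 1 ζ₂ (Sum.elim (fun i => v (Sum.inl i)) ![v (Sum.inr 0) + u * v (Sum.inr 1), c * v (Sum.inr 1)])
        = qfMinus m F 1 ζ₁ v := by
    intro v
    rw [qfMinus_apply, qfMinus_apply]
    simp only [Sum.elim_inl, Sum.elim_inr, Matrix.cons_val_zero, Matrix.cons_val_one]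
    rw [← hz]
    linear_combination (v (Sum.inr 0) * v (Sum.inr 1)) * huc
  refine ⟨LinearEquiv.ofLinearMap
    { toFun := fun v => Sum.elim (fun i => v (Sum.inl i)) ![v (Sum.inr 0) + u * v (Sum.inr 1), c * v (Sum.inr 1)]
      map_add' := fun v w => by
        funext i
        rcases i with i | i
        · rfl
        · fin_cases i <;> simp <;> ring
      map_smul' := fun a v => by
        funext i
        rcases i with i | i
        · rfl
        · fin_cases i <;> simp <;> ring }
    { toFun := fun v => Sum.elim (fun i => v (Sum.inl i)) ![v (Sum.inr 0) - u * c⁻¹ * v (Sum.inr 1), c⁻¹ * v (Sum.inr 1)]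
      map_add' := fun v w => by
        funext i
        rcases i with i | i
        · rfl
        · fin_cases i <;> simp <;> ring
      map_smul' := fun a v => by
        funext i
        rcases i with i | i
        · rfl
        · fin_cases i <;> simp <;> ring } ?_ ?_, hl⟩
  · refine LinearMap.ext fun v => ?_
    funext i
    rcases i with i | i
    · rfl
    · fin_cases i
      · simp; ring
      · simp [hc]
  · refine LinearMap.ext fun v => ?_
    funext i
    rcases i with i | i
    · rfl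
    · fin_cases i
      · simp; field_simp; ring
      · simp [hc]

/-- **two non-degenerate quadratic spaces of the same even dimension and the same type are isometric** -/
theorem exists_isom_of_type {Q₁ : QuadraticForm F V₁} {Q₂ : QuadraticForm F V₂}
    (hQ₁ : (polarBilin Q₁).Nondegenerate) (hQ₂ : (polarBilin Q₂).Nondegenerate) (he : Even (finrank F V₁))
    (hd : finrank F V₁ = finrank F V₂) (ht : IsPlus Q₁ ↔ IsPlus Q₂) :
    ∃ g : V₁ ≃ₗ[F] V₂, ∀ v, Q₂ (g v) = Q₁ v := by
  obtain ⟨m, hm⟩ := he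
  rw [← two_mul] at hm
  by_cases hp : IsPlus Q₁
  · obtain ⟨g₁, hg₁⟩ := hp.exists_isom hQ₁ hm
    obtain ⟨g₂, hg₂⟩ := (ht.1 hp).exists_isom hQ₂ (hd ▸ hm)
    exact ⟨g₁.symm.trans g₂, fun v => by
      rw [LinearEquiv.trans_apply, hg₂, ← hg₁, LinearEquiv.apply_symm_apply]⟩
  · rcases m with _ | m
    · exact absurd ⟨⊥, fun u hu => by rw [(Submodule.mem_bot F).1 hu, QuadraticMap.map_zero],
        by rw [finrank_bot, hm]⟩ hp
    · obtain ⟨ζ₁, g₁, hζ₁, hg₁⟩ := exists_isom_of_not_isPlus hQ₁ hm hp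
      obtain ⟨ζ₂, g₂, hζ₂, hg₂⟩ := exists_isom_of_not_isPlus hQ₂ (hd ▸ hm) (fun h => hp (ht.2 h))
      obtain ⟨g, hg⟩ := qfMinus_isom m hζ₁ hζ₂
      exact ⟨(g₁.symm.trans g).trans g₂, fun v => by
        rw [LinearEquiv.trans_apply, LinearEquiv.trans_apply, hg₂, hg, ← hg₁, LinearEquiv.apply_symm_apply]⟩

end Cfsg.Agent.OCase
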