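import Cfsg.Agent.OCase.Subfield

/-!
Decompositions into hyperbolic planes over the field with four elements.
-/

set_option autoImplicit false
set_option linter.unusedSectionVars false

namespace Cfsg.Agent.OCase

open QuadraticMap Module Cfsg.Agent.Orth Cfsg.Geo Cfsg.Agent.Asch
open scoped Matrix

variable {ι : Type} [Fintype ι] [DecidableEq ι] {F : Type*} [Field F]

theorem basisGL_conj {κ : Type} [Fintype κ] [DecidableEq κ] (b : Basis κ F (ι → F)) (E : ι ≃ κ)
    (g : Matrix.GeneralLinearGroup ι F) (i j : ι) :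
    (((basisGL b E)⁻¹ * g * basisGL b E : Matrix.GeneralLinearGroup ι F) : Matrix ι ι F) i j =
      b.repr ((g : Matrix ι ι F) *ᵥ b (E j)) (E i) := by
  set P := basisGL b E with hP
  have h1 : ∀ y : ι → F, ((P⁻¹ : Matrix.GeneralLinearGroup ι F) : Matrix ι ι F) *ᵥ y = (b.repr y) ∘ E := by
    intro y
    have h2 : (P : Matrix ι ι F) *ᵥ ((b.repr y) ∘ E) = y := by
      rw [hP, basisGL_mulVec, b.sum_repr]
    calc ((P⁻¹ : Matrix.GeneralLinearGroup ι F) : Matrix ι ι F) *ᵥ y
        = ((P⁻¹ : Matrix.GeneralLinearGroup ι F) : Matrix ι ι F) *ᵥ ((P : Matrix ι ι F) *ᵥ ((b.repr y) ∘ E)) := by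
          rw [h2]
      _ = (b.repr y) ∘ E := by
          rw [Matrix.mulVec_mulVec, ← Units.val_mul, inv_mul_cancel, Units.val_one, Matrix.one_mulVec]
  have h3 : (P : Matrix ι ι F) *ᵥ (Pi.single j 1) = b (E j) := by
    ext l
    rw [Matrix.mulVec_single_one, Matrix.col_apply, hP, basisGL_apply]
  have h4 : ((P⁻¹ * g * P : Matrix.GeneralLinearGroup ι F) : Matrix ι ι F) *ᵥ (Pi.single j 1) =
      (b.repr ((g : Matrix ι ι F) *ᵥ b (E j))) ∘ E := by
    rw [Units.val_mul, Units.val_mul, ← Matrix.mulVec_mulVec, ← Matrix.mulVec_mulVec, h3, h1]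
  have h5 := congrFun h4 i
  rwa [Matrix.mulVec_single_one, Matrix.col_apply] at h5

theorem mem_subfieldSubgroup_of_basis {κ : Type} [Fintype κ] [DecidableEq κ] (b : Basis κ F (ι → F)) (E : ι ≃ κ)
    {F₀ : Subfield F} {g : Matrix.GeneralLinearGroup ι F}
    (h : ∀ k l, b.repr ((g : Matrix ι ι F) *ᵥ b k) l ∈ F₀) : g ∈ subfieldSubgroup F₀ (basisGL b E) :=
  mem_subfieldSubgroup_of_entries fun i j => by rw [basisGL_conj]; exact h _ _

theorem rational_of_basis {Q : QuadraticForm F (ι → F)} {κ : Type} [Fintype κ] [DecidableEq κ]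
    (b : Basis κ F (ι → F)) (E : ι ≃ κ) {F₀ : Subfield F} {ζ : F} (hq : ∀ k, ζ * Q (b k) ∈ F₀)
    (hp : ∀ k l, ζ * polar Q (b k) (b l) ∈ F₀) :
    IsQuadFormRationalStructure (fun v => ζ * Q v) F₀ (basisGL b E) := by
  intro u hu
  have h1 : (basisGL b E : Matrix ι ι F) *ᵥ u = ∑ k, u (E.symm k) • b k := by
    have := basisGL_mulVec b E (u ∘ E.symm)
    rw [Function.comp_assoc, Equiv.symm_comp_self, Function.comp_id] at this
    exact this
  change ζ * Q _ ∈ F₀
  rw [h1]
  have key : ∀ s : Finset κ, ζ * Q (∑ k ∈ s, u (E.symm k) • b k) ∈ F₀ := by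
    intro s
    induction s using Finset.induction_on with
    | empty => simp
    | insert a s ha ih =>
      rw [Finset.sum_insert ha, qadd, qsmul, psl, psumr, mul_add, mul_add]
      refine F₀.add_mem (F₀.add_mem ?_ ih) ?_
      · have : ζ * (u (E.symm a) * u (E.symm a) * Q (b a)) = u (E.symm a) * u (E.symm a) * (ζ * Q (b a)) := by ring
        rw [this]
        exact F₀.mul_mem (F₀.mul_mem (hu _) (hu _)) (hq a)
      · rw [Finset.mul_sum, Finset.mul_sum]
        refine F₀.sum_mem fun c _ => ?_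
        rw [psr]
        have : ζ * (u (E.symm a) * (u (E.symm c) * polar Q (b a) (b c))) =
            u (E.symm a) * u (E.symm c) * (ζ * polar Q (b a) (b c)) := by ring
        rw [this]
        exact F₀.mul_mem (F₀.mul_mem (hu _) (hu _)) (hp a c)
  exact key _

/-- a family with a dual family is a basis with explicit coordinates -/
theorem exists_basis_of_dual {V : Type*} [AddCommGroup V] [Module F V] [FiniteDimensional F V]
    {Q : QuadraticForm F V} {κ : Type*} [Fintype κ] [DecidableEq κ] {w w' : κ → V}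
    (h : ∀ k l, polar Q (w k) (w' l) = if k = l then 1 else 0) (hd : Fintype.card κ = finrank F V) :
    ∃ b : Basis κ F V, (∀ k, b k = w k) ∧ ∀ v l, b.repr v l = polar Q v (w' l) := by
  have hpair : ∀ (c : κ → F) (l : κ), polar Q (∑ k, c k • w k) (w' l) = c l := by
    intro c l
    rw [psuml, Finset.sum_eq_single l]
    · rw [psl, h, if_pos rfl, mul_one]
    · intro k _ hk
      rw [psl, h, if_neg hk, mul_zero]
    · intro hl; exact absurd (Finset.mem_univ l) hl
  have hli : LinearIndependent F w := by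
    rw [Fintype.linearIndependent_iff]
    intro c hc l
    rw [← hpair c l, hc, polar_zero_left]
  let b := Basis.mk hli (hli.span_eq_top_of_card_eq_finrank' hd).ge
  have hb : ∀ k, b k = w k := fun k => by simp [b]
  refine ⟨b, hb, fun v l => ?_⟩
  conv_rhs => rw [← b.sum_repr v]
  simp only [hb]
  rw [hpair]

theorem card_four_cases [Fintype F] (hq : Fintype.card F = 4) : ∃ ω : F, ω * ω = ω + 1 ∧
    ∀ a : F, a = 0 ∨ a = 1 ∨ a = ω ∨ a = ω + 1 := by
  have h2 : (2 : F) = 0 := two_eq_zero_of_card_four hq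
  have h3 : ∀ a : F, a ≠ 0 → (a - 1) * (a * a + a + 1) = 0 := by
    intro a ha
    have := FiniteField.pow_card_sub_one_eq_one a ha
    rw [hq] at this
    linear_combination this
  obtain ⟨ω, h0, h1⟩ : ∃ ω : F, ω ≠ 0 ∧ ω ≠ 1 := by
    classical
    by_contra hcon
    push Not at hcon
    have : (Finset.univ : Finset F) ⊆ {0, 1} := by
      intro x _
      rw [Finset.mem_insert, Finset.mem_singleton]
      by_cases hx : x = 0
      · exact Or.inl hx
      · exact Or.inr (hcon x hx)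
    have := (Finset.card_le_card this).trans Finset.card_le_two
    rw [Finset.card_univ, hq] at this
    omega
  have hω : ω * ω + ω + 1 = 0 := (mul_eq_zero.1 (h3 ω h0)).resolve_left (sub_ne_zero.2 h1)
  refine ⟨ω, by linear_combination hω - (ω + 1) * h2, fun a => ?_⟩
  by_cases ha : a = 0
  · exact Or.inl ha
  rcases mul_eq_zero.1 (h3 a ha) with h | h
  · exact Or.inr (Or.inl (sub_eq_zero.1 h))
  · have : (a - ω) * (a - (ω + 1)) = 0 := by
      linear_combination h + hω - (1 + a + a * ω) * h2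
    rcases mul_eq_zero.1 this with h | h
    · exact Or.inr (Or.inr (Or.inl (sub_eq_zero.1 h)))
    · exact Or.inr (Or.inr (Or.inr (sub_eq_zero.1 h)))

theorem card_bot_two [Fintype F] (h2 : (2 : F) = 0) : Nat.card (⊥ : Subfield F) = 2 := by
  haveI : CharP F 2 := CharTwo.of_one_ne_zero_of_two_eq_zero one_ne_zero h2
  haveI : Fact (Nat.Prime 2) := ⟨Nat.prime_two⟩
  exact Subfield.card_bot F 2

variable [Fintype F]
variable {Q : QuadraticForm F (ι → F)} {t : ℕ} {D : Fin t → Submodule F (ι → F)} {e f : Fin t → (ι → F)}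

/-- the norm one vectors of the members -/
def w4 (ω : F) (e f : Fin t → (ι → F)) (p : Fin t × Fin 2) : ι → F :=
  if p.2 = 0 then e p.1 + f p.1 else ω • e p.1 + (ω + 1) • f p.1

theorem w4_zero (ω : F) (e f : Fin t → (ι → F)) (i : Fin t) : w4 ω e f (i, 0) = e i + f i := rfl

theorem w4_one (ω : F) (e f : Fin t → (ι → F)) (i : Fin t) : w4 ω e f (i, 1) = ω • e i + (ω + 1) • f i := by
  rw [w4, if_neg]; exact one_ne_zero

namespace IsHyp

theorem w4_mem (ω : F) (h : IsHyp Q D e f) (p : Fin t × Fin 2) : w4 ω e f p ∈ D p.1 := by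
  rw [w4]
  split_ifs
  · exact h.mv _
  · exact (D _).add_mem ((D _).smul_mem _ (h.me _)) ((D _).smul_mem _ (h.mf _))

theorem w4_q {ω : F} (h2 : (2 : F) = 0) (hω : ω * ω = ω + 1) (h : IsHyp Q D e f) (p : Fin t × Fin 2) :
    Q (w4 ω e f p) = 1 := by
  rw [w4]
  split_ifs
  · exact h.qv _
  · rw [h.q]; linear_combination hω + ω * h2

/-- the partner -/
def sw (p : Fin t × Fin 2) : Fin t × Fin 2 := (p.1, if p.2 = 0 then 1 else 0)

theorem sw_sw (p : Fin t × Fin 2) : sw (sw p) = p := by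
  obtain ⟨j, b⟩ := p
  fin_cases b <;> simp [sw]

theorem w4_polar {ω : F} (h2 : (2 : F) = 0) (hω : ω * ω = ω + 1) (h : IsHyp Q D e f) (p q : Fin t × Fin 2) :
    polar Q (w4 ω e f p) (w4 ω e f (sw q)) = if p = q then 1 else 0 := by
  obtain ⟨i, a⟩ := p
  obtain ⟨j, b⟩ := q
  by_cases hij : i = j
  · subst hij
    fin_cases a <;> fin_cases b
    · change polar Q (w4 ω e f (i, 0)) (w4 ω e f (i, 1)) = _
      rw [w4_zero, w4_one]
      have := h.polar' i 1 1 ω (ω + 1)
      rw [one_smul, one_smul] at this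
      rw [this]
      simp only [Fin.zero_eta, Fin.isValue, if_true]
      linear_combination ω * h2
    · change polar Q (w4 ω e f (i, 0)) (w4 ω e f (i, 0)) = _
      rw [pself, h.w4_q h2 hω, h2]
      simp
    · change polar Q (w4 ω e f (i, 1)) (w4 ω e f (i, 1)) = _
      rw [pself, h.w4_q h2 hω, h2]
      simp
    · change polar Q (w4 ω e f (i, 1)) (w4 ω e f (i, 0)) = _
      rw [w4_zero, w4_one]
      have := h.polar' i ω (ω + 1) 1 1
      rw [one_smul, one_smul] at this
      rw [this]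
      simp only [Fin.mk_one, Fin.isValue, if_true]
      linear_combination ω * h2
  · rw [if_neg (fun h' => hij (congrArg Prod.fst h'))]
    exact h.orth i j hij _ (h.w4_mem ω (i, a)) _ (h.w4_mem ω (sw (j, b)))

theorem w4_polar' {ω : F} (h2 : (2 : F) = 0) (hω : ω * ω = ω + 1) (h : IsHyp Q D e f) (p q : Fin t × Fin 2) :
    polar Q (w4 ω e f p) (w4 ω e f q) = if p = sw q then 1 else 0 := by
  have := h.w4_polar h2 hω p (sw q)
  rwa [sw_sw] at this

/-- the vectors of norm one -/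
theorem all_four {ω : F} (h2 : (2 : F) = 0) (hω : ω * ω = ω + 1) (ha : ∀ a : F, a = 0 ∨ a = 1 ∨ a = ω ∨ a = ω + 1)
    (h : IsHyp Q D e f) (i : Fin t) {v : ι → F} (hv : v ∈ D i) (h1 : Q v = 1) :
    v = w4 ω e f (i, 0) ∨ v = w4 ω e f (i, 1) ∨ v = w4 ω e f (i, 0) + w4 ω e f (i, 1) := by
  obtain ⟨a, b, rfl⟩ := h.gen i v hv
  rw [h.q] at h1
  rw [w4_zero, w4_one]
  have hω0 : ω ≠ 0 := by
    rintro rfl
    rw [zero_mul, zero_add] at hω
    exact zero_ne_one hω
  rcases ha a with rfl | rfl | rfl | rfl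
  · rw [zero_mul] at h1; exact absurd h1 zero_ne_one
  · left; rw [one_mul] at h1; rw [h1, one_smul, one_smul]
  · right; left
    have : b = a + 1 := by
      apply mul_left_cancel₀ hω0
      linear_combination h1 - hω - a * h2
    rw [this]
  · right; right
    have : b = ω := by
      have h3 : (ω + 1) * ω = 1 := by linear_combination hω + ω * h2
      have h4 : ω + 1 ≠ 0 := left_ne_zero_of_mul (by rw [h3]; exact one_ne_zero)
      apply mul_left_cancel₀ h4
      rw [h1, h3]
    have h5 : e i + f i + (ω • e i + (ω + 1) • f i) = (ω + 1) • e i + (ω + 2) • f i := by module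
    rw [this, h5, h2, add_zero]

/-- **four elements**: the stabiliser is contained in a subfield group -/
theorem four (hq : Fintype.card F = 4) (hd : Fintype.card ι = t * 2) (h : IsHyp Q D e f) :
    ∃ (F₀ : Subfield F) (P : Matrix.GeneralLinearGroup ι F), Fintype.card F = Nat.card F₀ ^ 2 ∧ F₀ ≠ ⊤ ∧
      IsQuadFormRationalStructure (fun v => (1 : F) * Q v) F₀ P ∧
      decompositionStabilizer D ⊓ omegaGL ⇑Q ≤ subfieldSubgroup F₀ P ∧
      ((polarBilin Q).Nondegenerate → 4 ≤ t → ∃ g ∈ commutator (OGrp Q), toGL g ∈ subfieldSubgroup F₀ P ∧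
        toGL g ∉ decompositionStabilizer D) := by
  have h2 : (2 : F) = 0 := two_eq_zero_of_card_four hq
  obtain ⟨ω, hω, ha⟩ := card_four_cases hq
  obtain ⟨b, hb, hbr⟩ := exists_basis_of_dual (Q := Q) (w := w4 ω e f) (w' := fun p => w4 ω e f (sw p))
    (fun k l => h.w4_polar h2 hω k l) (by
      rw [Fintype.card_prod, Fintype.card_fin, Fintype.card_fin, finrank_fintype_fun_eq_card, hd])
  have hE : Fintype.card ι = Fintype.card (Fin t × Fin 2) := by
    rw [Fintype.card_prod, Fintype.card_fin, Fintype.card_fin, hd]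
  have hcb := card_bot_two h2
  have hw01 : ∀ k l, polar Q (w4 ω e f k) (w4 ω e f l) ∈ (⊥ : Subfield F) := by
    intro k l
    rw [h.w4_polar' h2 hω]
    split_ifs
    · exact Subfield.one_mem _
    · exact Subfield.zero_mem _
  refine ⟨⊥, basisGL b (Fintype.equivOfCardEq hE), by rw [hcb, hq]; norm_num, ?_, ?_, ?_, ?_⟩
  · intro htop
    rw [htop] at hcb
    have h3 : Nat.card (⊤ : Subfield F) = Nat.card F := Nat.card_congr Subfield.topEquiv.toEquiv
    rw [h3, Nat.card_eq_fintype_card, hq] at hcb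
    omega
  · apply rational_of_basis
    · intro k
      rw [hb, h.w4_q h2 hω, one_mul]
      exact Subfield.one_mem _
    · intro k l
      rw [hb, hb, one_mul]
      exact hw01 k l
  · refine (inf_omegaGL_le_iff Q _ _).2 fun g _ hM => ?_
    obtain ⟨σ, hσ⟩ := toGL_mem_decompositionStabilizer.1 hM
    apply mem_subfieldSubgroup_of_basis
    intro k l
    rw [toGL_mulVec, hb, hbr]
    have h3 : (g : (ι → F) ≃ₗ[F] (ι → F)) (w4 ω e f k) ∈ D (σ k.1) := by
      rw [← hσ]; exact ⟨_, h.w4_mem ω k, rfl⟩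
    rcases h.all_four h2 hω ha (σ k.1) h3 (by rw [OGrp_q, h.w4_q h2 hω]) with h4 | h4 | h4 <;> rw [h4]
    · exact hw01 _ _
    · exact hw01 _ _
    · rw [pal]; exact Subfield.add_mem _ (hw01 _ _) (hw01 _ _)
  · intro hQ ht
    set i0 : Fin t := ⟨0, by omega⟩ with hi0
    set i1 : Fin t := ⟨1, by omega⟩ with hi1
    set i2 : Fin t := ⟨2, by omega⟩ with hi2
    set i3 : Fin t := ⟨3, by omega⟩ with hi3
    have n01 : i0 ≠ i1 := by intro h; have := congrArg Fin.val h; simp [hi0, hi1] at this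
    have n02 : i0 ≠ i2 := by intro h; have := congrArg Fin.val h; simp [hi0, hi2] at this
    have n03 : i0 ≠ i3 := by intro h; have := congrArg Fin.val h; simp [hi0, hi3] at this
    have n12 : i1 ≠ i2 := by intro h; have := congrArg Fin.val h; simp [hi1, hi2] at this
    obtain ⟨w, hw⟩ : ∃ w : Fin t × Fin 2 → (ι → F), w = w4 ω e f := ⟨_, rfl⟩
    have hqw : ∀ p, Q (w p) = 1 := fun p => by rw [hw]; exact h.w4_q h2 hω p
    have hmw : ∀ p, w p ∈ D p.1 := fun p => by rw [hw]; exact h.w4_mem ω p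
    have hpw : ∀ p q, polar Q (w p) (w q) = if p = sw q then 1 else 0 := fun p q => by
      rw [hw]; exact h.w4_polar' h2 hω p q
    have hpw0 : ∀ i j a a', i ≠ j → polar Q (w (i, a)) (w (j, a')) = 0 := fun i j a a' hij =>
      h.orth i j hij _ (hmw (i, a)) _ (hmw (j, a'))
    have hpw1 : ∀ i, polar Q (w (i, 1)) (w (i, 0)) = 1 := fun i => by
      rw [hpw, if_pos (by simp [sw])]
    obtain ⟨x, hx⟩ : ∃ x, x = w (i0, 0) + w (i1, 0) + w (i2, 0) := ⟨_, rfl⟩
    have hqx : Q x = 1 := by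
      rw [hx, qadd, qadd, hqw, hqw, hqw, pal, hpw0 _ _ _ _ n01, hpw0 _ _ _ _ n02, hpw0 _ _ _ _ n12]
      linear_combination h2
    have hx0 : Q x ≠ 0 := by rw [hqx]; exact one_ne_zero
    have hv3 : Q (w (i3, 0)) ≠ 0 := by rw [hqw]; exact one_ne_zero
    have hx01 : ∀ l, polar Q x (w l) ∈ (⊥ : Subfield F) := by
      intro l
      rw [hx, pal, pal]
      have h01 : ∀ p q, polar Q (w p) (w q) ∈ (⊥ : Subfield F) := fun p q => by rw [hw]; exact hw01 p q
      exact Subfield.add_mem _ (Subfield.add_mem _ (h01 _ _) (h01 _ _)) (h01 _ _)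
    have h01 : ∀ p q, polar Q (w p) (w q) ∈ (⊥ : Subfield F) := fun p q => by rw [hw]; exact hw01 p q
    refine ⟨refl Q x hx0 * refl Q (w (i3, 0)) hv3, GeoMax.Ort.refl_pair_mem hQ hx0 hv3 (by rw [hqx, hqw]), ?_, ?_⟩
    · apply mem_subfieldSubgroup_of_basis
      intro k l
      rw [toGL_mulVec, hb, hbr, ← hw, coe_mul_apply, refl_apply, refl_apply, hqw, hqx, pdl, pdl, psl, psl, pdl, psl]
      simp only [inv_one, one_mul]
      have hwx : ∀ q, polar Q (w q) x ∈ (⊥ : Subfield F) := fun q => by rw [pc]; exact hx01 q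
      exact Subfield.sub_mem _ (Subfield.sub_mem _ (h01 _ _) (Subfield.mul_mem _ (h01 _ _) (h01 _ _)))
        (Subfield.mul_mem _ (Subfield.sub_mem _ (hwx _) (Subfield.mul_mem _ (h01 _ _) (hwx _))) (hx01 _))
    · rw [toGL_mem_decompositionStabilizer]
      rintro ⟨σ, hσ⟩
      have h5 : ((refl Q x hx0 * refl Q (w (i3, 0)) hv3 : OGrp Q) : (ι → F) ≃ₗ[F] (ι → F)) (w (i0, 1)) ∈ D (σ i0) := by
        rw [← hσ]
        exact ⟨w (i0, 1), hmw (i0, 1), rfl⟩
      rw [coe_mul_apply, refl_apply_of_ortho hv3 (hpw0 _ _ _ _ n03), refl_apply] at h5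
      have hpx : polar Q (w (i0, 1)) x = 1 := by
        rw [hx, par, par, hpw1, hpw0 _ _ _ _ n01, hpw0 _ _ _ _ n02]; ring
      have hp1 : polar Q x (w (i1, 1)) = 1 := by
        rw [hx, pal, pal, pc Q (w (i1, 0)), hpw1, hpw0 _ _ _ _ n01, hpw0 _ _ _ _ n12.symm]; ring
      have hp2 : polar Q x (w (i2, 1)) = 1 := by
        rw [hx, pal, pal, pc Q (w (i2, 0)), hpw1, hpw0 _ _ _ _ n02, hpw0 _ _ _ _ n12]; ring
      refine not_mem_of_polar (fun i j hij => h.orth i j hij) n12 (hmw (i1, 1)) (hmw (i2, 1)) ?_ ?_ _ h5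
      · rw [pdl, psl, hpx, hqx, hp1, hpw0 _ _ _ _ n01]
        simp
      · rw [pdl, psl, hpx, hqx, hp2, hpw0 _ _ _ _ n02]
        simp

end IsHyp

end Cfsg.Agent.OCase
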