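import Cfsg.Agent.OCase.FrameRow

/-!
Decompositions into hyperbolic planes over the fields with 2 and 3 elements.
-/

set_option autoImplicit false
set_option linter.unusedSectionVars false

namespace Cfsg.Agent.OCase

open QuadraticMap Module Cfsg.Agent.Orth Cfsg.Geo

variable {ι : Type} [Fintype ι] [DecidableEq ι] {F : Type*} [Field F] [Fintype F]
variable {Q : QuadraticForm F (ι → F)} {t : ℕ} {D : Fin t → Submodule F (ι → F)} {e f : Fin t → (ι → F)}

/-- hyperbolic pairs in all members of a decomposition into planes of plus type -/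
structure IsHyp (Q : QuadraticForm F (ι → F)) (D : Fin t → Submodule F (ι → F)) (e f : Fin t → (ι → F)) :
    Prop where
  me : ∀ i, e i ∈ D i
  mf : ∀ i, f i ∈ D i
  qe : ∀ i, Q (e i) = 0
  qf : ∀ i, Q (f i) = 0
  ef : ∀ i, polar Q (e i) (f i) = 1
  gen : ∀ i, ∀ v ∈ D i, ∃ a b : F, v = a • e i + b • f i
  orth : ∀ i j, i ≠ j → ∀ x ∈ D i, ∀ y ∈ D j, polar Q x y = 0

theorem exists_isHyp (hD : IsOrthogonalMDecomposition ⇑Q 2 D) (hp : ∀ i, IsPlusTypeOn ⇑Q (D i)) :
    ∃ e f, IsHyp Q D e f := by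
  choose g hg using fun i => exists_plus_param ((isNondegenerateOn_iff Q _).1 (hD.decomp.nondegenerate i))
    (hD.decomp.decomp.finrank_eq i) (isPlusTypeOn_iff.1 (hp i))
  refine ⟨fun i => (g i (1, 0) : ι → F), fun i => (g i (0, 1) : ι → F), fun i => (g i _).2, fun i => (g i _).2,
    fun i => by rw [hg]; simp, fun i => by rw [hg]; simp, fun i => ?_, fun i v hv => ?_,
    fun i j hij => hD.decomp.orthogonal i j hij⟩
  · have : ((g i (1, 0) : D i) : ι → F) + ((g i (0, 1) : D i) : ι → F) = ((g i ((1, 0) + (0, 1)) : D i) : ι → F) := by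
      rw [map_add]; rfl
    rw [polar, this, hg, hg, hg]
    simp
  · obtain ⟨x, hx⟩ := (g i).surjective ⟨v, hv⟩
    refine ⟨x.1, x.2, ?_⟩
    have h1 : v = (g i x : ι → F) := by rw [hx]
    have h2 : x = x.1 • ((1, 0) : F × F) + x.2 • ((0, 1) : F × F) := by
      ext <;> simp
    rw [h1]
    conv_lhs => rw [h2, map_add, map_smul, map_smul]
    rfl

namespace IsHyp

theorem q (h : IsHyp Q D e f) (i : Fin t) (a b : F) : Q (a • e i + b • f i) = a * b := by
  rw [qadd, qsmul, qsmul, psl, psr, h.qe, h.qf, h.ef]; ring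

theorem ee (h : IsHyp Q D e f) (i : Fin t) : polar Q (e i) (e i) = 0 := by rw [pself, h.qe, mul_zero]

theorem ff (h : IsHyp Q D e f) (i : Fin t) : polar Q (f i) (f i) = 0 := by rw [pself, h.qf, mul_zero]

theorem fe (h : IsHyp Q D e f) (i : Fin t) : polar Q (f i) (e i) = 1 := by rw [pc, h.ef]

theorem polar' (h : IsHyp Q D e f) (i : Fin t) (a b c d : F) :
    polar Q (a • e i + b • f i) (c • e i + d • f i) = a * d + b * c := by
  rw [pal, par, par, psl, psr, psl, psr, psl, psr, psl, psr, h.ee, h.ff, h.ef, h.fe]; ring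

/-- the sum of the hyperbolic pair -/
theorem qv (h : IsHyp Q D e f) (i : Fin t) : Q (e i + f i) = 1 := by
  have := h.q i 1 1
  rwa [one_smul, one_smul, one_mul] at this

theorem mv (h : IsHyp Q D e f) (i : Fin t) : e i + f i ∈ D i := (D i).add_mem (h.me i) (h.mf i)

theorem vv (h : IsHyp Q D e f) {i j : Fin t} (hij : i ≠ j) : polar Q (e i + f i) (e j + f j) = 0 :=
  h.orth i j hij _ (h.mv i) _ (h.mv j)

/-- three elements: the vectors of norm one in a member -/
theorem all_three (hq : Fintype.card F = 3) (h : IsHyp Q D e f) (i : Fin t) {v : ι → F} (hv : v ∈ D i)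
    (h1 : Q v = 1) : v = e i + f i ∨ v = -(e i + f i) := by
  obtain ⟨a, b, rfl⟩ := h.gen i v hv
  rw [h.q] at h1
  rcases card_three_cases hq a with rfl | rfl | rfl
  · rw [zero_mul] at h1; exact absurd h1 zero_ne_one
  · left; rw [one_mul] at h1; rw [h1, one_smul, one_smul]
  · right
    have : b = -1 := by linear_combination -h1
    rw [this]; module

/-- two elements: the non-singular vector in a member -/
theorem all_two (hq : Fintype.card F = 2) (h : IsHyp Q D e f) (i : Fin t) {v : ι → F} (hv : v ∈ D i)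
    (h1 : Q v ≠ 0) : v = e i + f i := by
  obtain ⟨a, b, rfl⟩ := h.gen i v hv
  rw [h.q] at h1
  rw [(card_two_cases hq a).resolve_left (left_ne_zero_of_mul h1),
    (card_two_cases hq b).resolve_left (right_ne_zero_of_mul h1), one_smul, one_smul]

/-! ### three elements -/

theorem isOrth (h : IsHyp Q D e f) : IsOrth Q fun i : Fin t => e i + f i :=
  ⟨fun i => by rw [h.qv]; exact one_ne_zero, fun _ _ hij => h.vv hij⟩

/-- the span of the vectors of norm one -/
def Vp (e f : Fin t → (ι → F)) : Submodule F (ι → F) := Submodule.span F (Set.range fun i : Fin t => e i + f i)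

theorem finrank_Vp (hq : Fintype.card F = 3) (h : IsHyp Q D e f) : finrank F (Vp e f) = t :=
  (h.isOrth.finrank (two_ne_zero_three hq)).trans (Fintype.card_fin t)

theorem nondeg_Vp (hq : Fintype.card F = 3) (h : IsHyp Q D e f) : IsNondegenerateOn (polar ⇑Q) (Vp e f) :=
  (isNondegenerateOn_iff Q _).2 (h.isOrth.inf_perp (two_ne_zero_three hq))

theorem stab_le_three (hq : Fintype.card F = 3) (h : IsHyp Q D e f) :
    decompositionStabilizer D ⊓ omegaGL ⇑Q ≤ subspaceStabilizer (Vp e f) := by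
  refine (inf_omegaGL_le_iff Q _ _).2 fun g _ hM => ?_
  obtain ⟨σ, hσ⟩ := toGL_mem_decompositionStabilizer.1 hM
  rw [toGL_mem_subspaceStabilizer]
  have h1 : (Vp e f).map ((g : (ι → F) ≃ₗ[F] (ι → F)) : (ι → F) →ₗ[F] (ι → F)) ≤ Vp e f := by
    rw [Vp, Submodule.map_span, Submodule.span_le]
    rintro _ ⟨_, ⟨i, rfl⟩, rfl⟩
    change (g : (ι → F) ≃ₗ[F] (ι → F)) (e i + f i) ∈ _
    have h2 : (g : (ι → F) ≃ₗ[F] (ι → F)) (e i + f i) ∈ D (σ i) := by
      rw [← hσ]; exact ⟨_, h.mv i, rfl⟩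
    rcases h.all_three hq (σ i) h2 (by rw [OGrp_q, h.qv]) with h3 | h3
    · rw [h3]; exact Submodule.subset_span ⟨_, rfl⟩
    · rw [h3]; exact Submodule.neg_mem _ (Submodule.subset_span ⟨_, rfl⟩)
  exact Submodule.eq_of_le_of_finrank_eq h1 (finrank_map_OGrp g _)

/-! ### two elements -/

/-- the sum of the non-singular vectors -/
def sv (e f : Fin t → (ι → F)) : ι → F := ∑ i, (e i + f i)

theorem polar_sv (h : IsHyp Q D e f) {i : Fin t} {x : ι → F} (hx : x ∈ D i) :
    polar Q (sv e f) x = polar Q (e i + f i) x := by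
  rw [sv, psuml, Finset.sum_eq_single i]
  · intro j _ hj
    exact h.orth j i hj _ (h.mv j) _ hx
  · intro hi; exact absurd (Finset.mem_univ i) hi

theorem q_sv (h : IsHyp Q D e f) : Q (sv e f) = (t : F) := by
  rw [sv, q_sum_of_ortho]
  · simp [h.qv]
  · intro i _ j _ hij
    exact h.vv hij

theorem stab_fix_two (hq : Fintype.card F = 2) (h : IsHyp Q D e f) {g : OGrp Q} {σ : Equiv.Perm (Fin t)}
    (hσ : ∀ i, (D i).map ((g : (ι → F) ≃ₗ[F] (ι → F)) : (ι → F) →ₗ[F] (ι → F)) = D (σ i)) :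
    (g : (ι → F) ≃ₗ[F] (ι → F)) (sv e f) = sv e f := by
  rw [sv, map_sum]
  have : ∀ i, (g : (ι → F) ≃ₗ[F] (ι → F)) (e i + f i) = e (σ i) + f (σ i) := by
    intro i
    refine h.all_two hq (σ i) ?_ (by rw [OGrp_q, h.qv]; exact one_ne_zero)
    rw [← hσ]; exact ⟨_, h.mv i, rfl⟩
  simp only [this]
  exact Equiv.sum_comp σ fun i => e i + f i

theorem stab_le_two (hq : Fintype.card F = 2) (h : IsHyp Q D e f) :
    decompositionStabilizer D ⊓ omegaGL ⇑Q ≤ subspaceStabilizer (Submodule.span F {sv e f}) := by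
  refine (inf_omegaGL_le_iff Q _ _).2 fun g _ hM => ?_
  obtain ⟨σ, hσ⟩ := toGL_mem_decompositionStabilizer.1 hM
  rw [toGL_mem_subspaceStabilizer, Submodule.map_span, Set.image_singleton]
  change Submodule.span F {(g : (ι → F) ≃ₗ[F] (ι → F)) (sv e f)} = _
  rw [h.stab_fix_two hq hσ]

theorem sv_ne_zero (ht : 0 < t) (h : IsHyp Q D e f) : sv e f ≠ 0 := by
  intro h0
  have h1 := h.polar_sv (h.me ⟨0, ht⟩)
  rw [h0, polar_zero_left, pal, h.ee, h.fe, zero_add] at h1
  exact zero_ne_one h1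

/-! ### the witnesses -/

theorem witness_three (hQ : (polarBilin Q).Nondegenerate) (hq : Fintype.card F = 3) (ht : 6 ≤ t)
    (h : IsHyp Q D e f) :
    ∃ g ∈ commutator (OGrp Q), toGL g ∈ subspaceStabilizer (Vp e f) ∧ toGL g ∉ decompositionStabilizer D := by
  have h3 := three_eq_zero hq
  have h2 := two_ne_zero_three hq
  set i0 : Fin t := ⟨0, by omega⟩ with hi0
  set i1 : Fin t := ⟨1, by omega⟩ with hi1
  set i2 : Fin t := ⟨2, by omega⟩ with hi2
  set i3 : Fin t := ⟨3, by omega⟩ with hi3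
  set i5 : Fin t := ⟨5, by omega⟩ with hi5
  have n01 : i0 ≠ i1 := by intro h; have := congrArg Fin.val h; simp [hi0, hi1] at this
  have n02 : i0 ≠ i2 := by intro h; have := congrArg Fin.val h; simp [hi0, hi2] at this
  have n03 : i0 ≠ i3 := by intro h; have := congrArg Fin.val h; simp [hi0, hi3] at this
  have n05 : i0 ≠ i5 := by intro h; have := congrArg Fin.val h; simp [hi0, hi5] at this
  have n12 : i1 ≠ i2 := by intro h; have := congrArg Fin.val h; simp [hi1, hi2] at this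
  have n13 : i1 ≠ i3 := by intro h; have := congrArg Fin.val h; simp [hi1, hi3] at this
  have n23 : i2 ≠ i3 := by intro h; have := congrArg Fin.val h; simp [hi2, hi3] at this
  obtain ⟨v, hv⟩ : ∃ v : Fin t → (ι → F), ∀ i, v i = e i + f i := ⟨_, fun _ => rfl⟩
  have hvv : ∀ i j, i ≠ j → polar Q (v i) (v j) = 0 := fun i j hij => by rw [hv, hv]; exact h.vv hij
  have hqv : ∀ i, Q (v i) = 1 := fun i => by rw [hv]; exact h.qv i
  have hmv : ∀ i, v i ∈ D i := fun i => by rw [hv]; exact h.mv i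
  set x : ι → F := v i0 + v i1 + (v i2 + v i3) with hx
  have hqx : Q x = 1 := by
    rw [hx, qadd, qadd, qadd, hqv, hqv, hqv, hqv, hvv _ _ n01, hvv _ _ n23, pal, par, par, hvv _ _ n02, hvv _ _ n03,
      hvv _ _ n12, hvv _ _ n13]
    linear_combination h3
  have hx0 : Q x ≠ 0 := by rw [hqx]; exact one_ne_zero
  have hv5 : Q (v i5) ≠ 0 := by rw [hqv]; exact one_ne_zero
  have hmem : ∀ i, v i ∈ Vp e f := fun i => by rw [hv]; exact Submodule.subset_span ⟨i, rfl⟩
  have hxm : x ∈ Vp e f := by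
    rw [hx]
    exact Submodule.add_mem _ (Submodule.add_mem _ (hmem _) (hmem _)) (Submodule.add_mem _ (hmem _) (hmem _))
  refine ⟨refl Q x hx0 * refl Q (v i5) hv5, GeoMax.Ort.refl_pair_mem hQ hx0 hv5 (by rw [hqx, hqv]), ?_, ?_⟩
  · rw [toGL_mem_subspaceStabilizer]
    refine Submodule.eq_of_le_of_finrank_eq ?_ (finrank_map_OGrp _ _)
    rintro _ ⟨y, hy, rfl⟩
    change ((refl Q x hx0 * refl Q (v i5) hv5 : OGrp Q) : (ι → F) ≃ₗ[F] (ι → F)) y ∈ _
    rw [coe_mul_apply]
    have hr : ∀ (z : ι → F) (hz : Q z ≠ 0), z ∈ Vp e f → ∀ y ∈ Vp e f,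
        (refl Q z hz : (ι → F) ≃ₗ[F] (ι → F)) y ∈ Vp e f := by
      intro z hz hzm y hy
      rw [refl_apply]
      exact Submodule.sub_mem _ hy (Submodule.smul_mem _ _ hzm)
    exact hr _ _ hxm _ (hr _ _ (hmem _) _ hy)
  · rw [toGL_mem_decompositionStabilizer]
    rintro ⟨σ, hσ⟩
    have h5 : ((refl Q x hx0 * refl Q (v i5) hv5 : OGrp Q) : (ι → F) ≃ₗ[F] (ι → F)) (v i0) ∈ D (σ i0) := by
      rw [← hσ]
      exact ⟨v i0, hmv i0, rfl⟩
    rw [coe_mul_apply, refl_apply_of_ortho hv5 (hvv _ _ n05), refl_apply] at h5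
    have hpx : polar Q (v i0) x = 2 := by
      rw [hx, par, par, par, pself, hqv, hvv _ _ n01, hvv _ _ n02, hvv _ _ n03]; ring
    have hp1 : polar Q x (v i1) = 2 := by
      rw [hx, pal, pal, pal, pself, hqv, hvv _ _ n01, hvv _ _ n12.symm, hvv _ _ n13.symm]; ring
    have hp2 : polar Q x (v i2) = 2 := by
      rw [hx, pal, pal, pal, pself, hqv, hvv _ _ n02, hvv _ _ n12, hvv _ _ n23.symm]; ring
    refine not_mem_of_polar (fun i j hij => h.orth i j hij) n12 (hmv i1) (hmv i2) ?_ ?_ _ h5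
    · rw [pdl, psl, hpx, hqx, hp1, hvv _ _ n01]
      simp only [inv_one, one_mul, zero_sub, ne_eq, neg_eq_zero]
      exact mul_ne_zero h2 h2
    · rw [pdl, psl, hpx, hqx, hp2, hvv _ _ n02]
      simp only [inv_one, one_mul, zero_sub, ne_eq, neg_eq_zero]
      exact mul_ne_zero h2 h2

end IsHyp

end Cfsg.Agent.OCase
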