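import Cfsg.Agent.OCase.PlusPlane

/-!
Decompositions into hyperbolic planes over the field with two elements: the witness; the field with four elements.
-/

set_option autoImplicit false
set_option linter.unusedSectionVars false

namespace Cfsg.Agent.OCase

open QuadraticMap Module Cfsg.Agent.Orth Cfsg.Geo

variable {ι : Type} [Fintype ι] [DecidableEq ι] {F : Type*} [Field F] [Fintype F]
variable {Q : QuadraticForm F (ι → F)} {t : ℕ} {D : Fin t → Submodule F (ι → F)} {e f : Fin t → (ι → F)}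

theorem two_eq_zero_of_card_two (hq : Fintype.card F = 2) : (2 : F) = 0 := by
  have := FiniteField.cast_card_eq_zero F
  rw [hq] at this
  exact_mod_cast this

theorem two_eq_zero_of_card_four (hq : Fintype.card F = 4) : (2 : F) = 0 := by
  have h := FiniteField.cast_card_eq_zero F
  rw [hq] at h
  have h1 : (2 : F) * 2 = 0 := by
    have : ((4 : ℕ) : F) = 2 * 2 := by norm_num
    rw [← this]; exact h
  exact mul_self_eq_zero.1 h1

namespace IsHyp

theorem witness_two (hQ : (polarBilin Q).Nondegenerate) (h2 : (2 : F) = 0) (ht : 6 ≤ t)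
    (h : IsHyp Q D e f) :
    ∃ g ∈ commutator (OGrp Q), toGL g ∈ subspaceStabilizer (Submodule.span F {sv e f}) ∧
      toGL g ∉ decompositionStabilizer D := by
  set i0 : Fin t := ⟨0, by omega⟩ with hi0
  set i1 : Fin t := ⟨1, by omega⟩ with hi1
  set i2 : Fin t := ⟨2, by omega⟩ with hi2
  set i5 : Fin t := ⟨5, by omega⟩ with hi5
  have n01 : i0 ≠ i1 := by intro h; have := congrArg Fin.val h; simp [hi0, hi1] at this
  have n02 : i0 ≠ i2 := by intro h; have := congrArg Fin.val h; simp [hi0, hi2] at this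
  have n05 : i0 ≠ i5 := by intro h; have := congrArg Fin.val h; simp [hi0, hi5] at this
  have n12 : i1 ≠ i2 := by intro h; have := congrArg Fin.val h; simp [hi1, hi2] at this
  have n15 : i1 ≠ i5 := by intro h; have := congrArg Fin.val h; simp [hi1, hi5] at this
  have n25 : i2 ≠ i5 := by intro h; have := congrArg Fin.val h; simp [hi2, hi5] at this
  obtain ⟨v, hv⟩ : ∃ v : Fin t → (ι → F), ∀ i, v i = e i + f i := ⟨_, fun _ => rfl⟩
  have hmv : ∀ i, v i ∈ D i := fun i => by rw [hv]; exact h.mv i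
  have hqv : ∀ i, Q (v i) = 1 := fun i => by rw [hv]; exact h.qv i
  have o : ∀ i j, i ≠ j → ∀ x ∈ D i, ∀ y ∈ D j, polar Q x y = 0 := h.orth
  obtain ⟨x, hx⟩ : ∃ x, x = v i0 + e i1 + e i2 := ⟨_, rfl⟩
  have hqx : Q x = 1 := by
    rw [hx, qadd, qadd, hqv, h.qe, h.qe, pal, o _ _ n01 _ (hmv _) _ (h.me _), o _ _ n02 _ (hmv _) _ (h.me _),
      o _ _ n12 _ (h.me _) _ (h.me _)]
    ring
  have hx0 : Q x ≠ 0 := by rw [hqx]; exact one_ne_zero
  have hv5 : Q (v i5) ≠ 0 := by rw [hqv]; exact one_ne_zero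
  have hvs : ∀ i, ∀ y ∈ D i, polar Q (sv e f) y = polar Q (v i) y := fun i y hy => by
    rw [hv]; exact h.polar_sv hy
  have hve : ∀ i, polar Q (v i) (e i) = 1 := fun i => by rw [hv, pal, h.ee, h.fe]; ring
  have hsx : polar Q (sv e f) x = 0 := by
    rw [hx, par, par, hvs _ _ (hmv i0), hvs _ _ (h.me i1), hvs _ _ (h.me i2), hve, hve, pself, hqv]
    linear_combination 2 * h2
  have hs5 : polar Q (sv e f) (v i5) = 0 := by
    rw [hvs _ _ (hmv i5), pself, hqv]
    linear_combination h2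
  refine ⟨refl Q x hx0 * refl Q (v i5) hv5, GeoMax.Ort.refl_pair_mem hQ hx0 hv5 (by rw [hqx, hqv]), ?_, ?_⟩
  · rw [toGL_mem_subspaceStabilizer, Submodule.map_span, Set.image_singleton]
    change Submodule.span F {((refl Q x hx0 * refl Q (v i5) hv5 : OGrp Q) : (ι → F) ≃ₗ[F] (ι → F)) (sv e f)} = _
    rw [coe_mul_apply, refl_apply_of_ortho hv5 hs5, refl_apply_of_ortho hx0 hsx]
  · rw [toGL_mem_decompositionStabilizer]
    rintro ⟨σ, hσ⟩
    have h5 : ((refl Q x hx0 * refl Q (v i5) hv5 : OGrp Q) : (ι → F) ≃ₗ[F] (ι → F)) (e i0) ∈ D (σ i0) := by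
      rw [← hσ]
      exact ⟨e i0, h.me i0, rfl⟩
    rw [coe_mul_apply, refl_apply_of_ortho hv5 (o _ _ n05 _ (h.me _) _ (hmv _)), refl_apply] at h5
    have hpx : polar Q (e i0) x = 1 := by
      rw [hx, par, par, pc, hve, o _ _ n01 _ (h.me _) _ (h.me _), o _ _ n02 _ (h.me _) _ (h.me _)]; ring
    have hp1 : polar Q x (f i1) = 1 := by
      rw [hx, pal, pal, o _ _ n01 _ (hmv _) _ (h.mf _), h.ef, o _ _ n12.symm _ (h.me _) _ (h.mf _)]; ring
    have hp2 : polar Q x (f i2) = 1 := by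
      rw [hx, pal, pal, o _ _ n02 _ (hmv _) _ (h.mf _), h.ef, o _ _ n12 _ (h.me _) _ (h.mf _)]; ring
    refine not_mem_of_polar (fun i j hij => h.orth i j hij) n12 (h.mf i1) (h.mf i2) ?_ ?_ _ h5
    · rw [pdl, psl, hpx, hqx, hp1, o _ _ n01 _ (h.me _) _ (h.mf _)]
      simp
    · rw [pdl, psl, hpx, hqx, hp2, o _ _ n02 _ (h.me _) _ (h.mf _)]
      simp

end IsHyp

end Cfsg.Agent.OCase
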