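import Cfsg.Agent.OCase.PlusFour

/-!
Making decompositions; refining 4-dimensional members of plus type over the field with two elements.
-/

set_option autoImplicit false
set_option linter.unusedSectionVars false

namespace Cfsg.Agent.OCase

open QuadraticMap Module Cfsg.Agent.Orth Cfsg.Geo Cfsg.Agent.Asch
open scoped Matrix

variable {ι : Type} [Fintype ι] [DecidableEq ι] {F : Type*} [Field F]

theorem isNondegenerateMDecomposition_of_orthogonal {Q : QuadraticForm F (ι → F)} {N k : ℕ}
    {D : Fin N → Submodule F (ι → F)} (hN : 2 ≤ N) (hk : 0 < k) (hd : ∀ i, finrank F (D i) = k)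
    (hnd : ∀ i, D i ⊓ perp Q (D i) = ⊥) (ho : ∀ i j, i ≠ j → ∀ x ∈ D i, ∀ y ∈ D j, polar Q x y = 0)
    (hc : Fintype.card ι = N * k) : IsNondegenerateMDecomposition (polar ⇑Q) k D := by
  refine ⟨⟨hN, hk, hd, ?_, ?_⟩, fun i => (isNondegenerateOn_iff Q _).2 (hnd i), fun i j hij => ho i j hij⟩
  · intro i
    refine Disjoint.mono_right ?_ (disjoint_iff.2 (hnd i))
    refine iSup₂_le fun j hj => ?_
    intro x hx w hw
    exact ho i j hj.symm w hw x hx
  · let L : (∀ i, D i) →ₗ[F] (ι → F) := ∑ i, (D i).subtype ∘ₗ LinearMap.proj i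
    have hL : ∀ x, L x = ∑ i, (x i : ι → F) := by
      intro x
      simp only [L, LinearMap.sum_apply]
      rfl
    have hinj : Function.Injective L := by
      rw [← LinearMap.ker_eq_bot, LinearMap.ker_eq_bot']
      intro x hx
      funext i
      rw [hL] at hx
      have h1 : (x i : ι → F) ∈ D i ⊓ perp Q (D i) := by
        refine ⟨(x i).2, fun y hy => ?_⟩
        have h2 : polar Q y (∑ j, (x j : ι → F)) = 0 := by rw [hx, polar_zero_right]
        rw [psumr, Finset.sum_eq_single i] at h2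
        · exact h2
        · intro j _ hj
          exact ho i j hj.symm y hy _ (x j).2
        · intro hi; exact absurd (Finset.mem_univ i) hi
      rw [hnd i] at h1
      exact Subtype.ext ((Submodule.mem_bot F).1 h1)
    have hsurj : LinearMap.range L = ⊤ := by
      apply Submodule.eq_top_of_finrank_eq
      rw [LinearMap.finrank_range_of_inj hinj, Module.finrank_pi_fintype, finrank_fintype_fun_eq_card, hc]
      simp [hd]
    rw [eq_top_iff, ← hsurj]
    rintro _ ⟨x, rfl⟩
    rw [hL]
    exact Submodule.sum_mem _ fun i _ => (le_iSup D i) (x i).2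

/-- how to show that an isometry permutes the members of a decomposition -/
theorem mem_decomp_of_forall {Q : QuadraticForm F (ι → F)} {N k : ℕ} {D : Fin N → Submodule F (ι → F)}
    (hD : IsMDecomposition k D) {g : OGrp Q}
    (h : ∀ i, ∃ j, (D i).map ((g : (ι → F) ≃ₗ[F] (ι → F)) : (ι → F) →ₗ[F] (ι → F)) ≤ D j) :
    toGL g ∈ decompositionStabilizer D := by
  rw [toGL_mem_decompositionStabilizer]
  choose τ hτ using h
  have heq : ∀ i, (D i).map ((g : (ι → F) ≃ₗ[F] (ι → F)) : (ι → F) →ₗ[F] (ι → F)) = D (τ i) := fun i =>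
    Submodule.eq_of_le_of_finrank_eq (hτ i) (by rw [finrank_map_OGrp, hD.finrank_eq, hD.finrank_eq])
  have hinj : Function.Injective τ := by
    intro i j hij
    by_contra hne
    have h1 : D i = D j := by
      apply Submodule.map_injective_of_injective (f := ((g : (ι → F) ≃ₗ[F] (ι → F)) : (ι → F) →ₗ[F] (ι → F)))
        (g : (ι → F) ≃ₗ[F] (ι → F)).injective
      rw [heq, heq, hij]
    have h2 : Disjoint (D i) (D j) := hD.indep.pairwiseDisjoint hne
    rw [h1, disjoint_self] at h2
    have h3 := hD.finrank_eq j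
    rw [h2, finrank_bot] at h3
    have := hD.pos
    omega
  exact ⟨Equiv.ofBijective τ (Finite.injective_iff_bijective.1 hinj), heq⟩

variable [Fintype F]
variable {Q : QuadraticForm F (ι → F)} {t : ℕ} {D : Fin t → Submodule F (ι → F)}

/-- a member of dimension four and plus type over the field with two elements is the sum of two planes of minus type -/
theorem exists_quad_two (hq : Fintype.card F = 2) {W : Submodule F (ι → F)} (hW : W ⊓ perp Q W = ⊥)
    (hd : finrank F W = 4) (hp : IsPlus (Q.restrict W)) :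
    ∃ u : Fin 2 → Fin 2 → (ι → F), (∀ s c, u s c ∈ W) ∧ (∀ s c, Q (u s c) = 1) ∧
      (∀ s, polar Q (u s 0) (u s 1) = 1) ∧ (∀ c c', polar Q (u 0 c) (u 1 c') = 0) ∧
      ∀ v ∈ W, Q v ≠ 0 → ∃ s, v ∈ Submodule.span F {u s 0, u s 1} := by
  obtain ⟨g, hg⟩ := hp.exists_isom (nondegenerate_restrict hW) (m := 2) (by rw [hd])
  have h2 := two_eq_zero_of_card_two hq
  have hgq : ∀ x, Q (g x : ι → F) = x (Sum.inl 0) * x (Sum.inr 0) + x (Sum.inl 1) * x (Sum.inr 1) := by
    intro x
    have := hg x
    rw [qfPlus_apply, Fin.sum_univ_two] at this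
    exact this
  have hgp : ∀ x y, polar Q (g x : ι → F) (g y : ι → F) = x (Sum.inl 0) * y (Sum.inr 0) +
      x (Sum.inr 0) * y (Sum.inl 0) + (x (Sum.inl 1) * y (Sum.inr 1) + x (Sum.inr 1) * y (Sum.inl 1)) := by
    intro x y
    have : ((g x : W) : ι → F) + ((g y : W) : ι → F) = ((g (x + y) : W) : ι → F) := by rw [_root_.map_add]; rfl
    rw [polar, this, hgq, hgq, hgq]
    simp only [Pi.add_apply]
    ring
  obtain ⟨m, hm⟩ : ∃ m : F → F → F → F → (Fin 2 ⊕ Fin 2 → F), ∀ a b c d,
      m a b c d = Sum.elim ![a, c] ![b, d] := ⟨fun a b c d => Sum.elim ![a, c] ![b, d], fun _ _ _ _ => rfl⟩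
  have m0 : ∀ a b c d, m a b c d (Sum.inl 0) = a := fun a b c d => by rw [hm]; rfl
  have m1 : ∀ a b c d, m a b c d (Sum.inr 0) = b := fun a b c d => by rw [hm]; rfl
  have m2 : ∀ a b c d, m a b c d (Sum.inl 1) = c := fun a b c d => by rw [hm]; rfl
  have m3 : ∀ a b c d, m a b c d (Sum.inr 1) = d := fun a b c d => by rw [hm]; rfl
  have mext : ∀ x : Fin 2 ⊕ Fin 2 → F, x = m (x (Sum.inl 0)) (x (Sum.inr 0)) (x (Sum.inl 1)) (x (Sum.inr 1)) := by
    intro x
    funext i
    rcases i with i | i <;> fin_cases i <;> simp [m0, m1, m2, m3]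
  refine ⟨![![(g (m 1 1 0 0) : ι → F), (g (m 1 0 1 1) : ι → F)], ![(g (m 0 0 1 1) : ι → F), (g (m 1 1 1 0) : ι → F)]],
    ?_, ?_, ?_, ?_, ?_⟩
  · intro s c
    fin_cases s <;> fin_cases c <;> exact Submodule.coe_mem _
  · intro s c
    fin_cases s <;> fin_cases c <;> simp [hgq, m0, m1, m2, m3]
  · intro s
    fin_cases s <;> simp [hgp, m0, m1, m2, m3]
  · intro c c'
    fin_cases c <;> fin_cases c'
    · simp [hgp, m0, m1, m2, m3]
    · simp only [Fin.zero_eta, Fin.isValue, Matrix.cons_val_zero, Fin.mk_one, Matrix.cons_val_one, hgp, m0, m1, m2, m3]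
      linear_combination h2
    · simp only [Fin.zero_eta, Fin.isValue, Matrix.cons_val_zero, Fin.mk_one, Matrix.cons_val_one, hgp, m0, m1, m2, m3]
      linear_combination h2
    · simp only [Fin.zero_eta, Fin.isValue, Matrix.cons_val_zero, Fin.mk_one, Matrix.cons_val_one, hgp, m0, m1, m2, m3]
      linear_combination h2
  · intro v hv hv0
    obtain ⟨x, hx⟩ := g.surjective ⟨v, hv⟩
    have hvx : v = (g x : ι → F) := by rw [hx]
    rw [hvx, hgq] at hv0
    rw [hvx]
    have hsum : ∀ (a b : F) (y z : Fin 2 ⊕ Fin 2 → F), x = a • y + b • z →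
        (g x : ι → F) = a • (g y : ι → F) + b • (g z : ι → F) := by
      intro a b y z h
      rw [h, _root_.map_add, _root_.map_smul, _root_.map_smul]; rfl
    have h11 : (1 : F) + 1 = 0 := by rw [one_add_one_eq_two, h2]
    have hcases : (∃ a b : F, x = a • m 1 1 0 0 + b • m 1 0 1 1) ∨ (∃ a b : F, x = a • m 0 0 1 1 + b • m 1 1 1 0) := by
      have hm' : ∀ (a b a0 a1 a2 a3 b0 b1 b2 b3 : F), a • m a0 a1 a2 a3 + b • m b0 b1 b2 b3 =
          m (a * a0 + b * b0) (a * a1 + b * b1) (a * a2 + b * b2) (a * a3 + b * b3) := by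
        intro a b a0 a1 a2 a3 b0 b1 b2 b3
        conv_lhs => rw [mext (a • m a0 a1 a2 a3 + b • m b0 b1 b2 b3)]
        simp only [Pi.add_apply, Pi.smul_apply, smul_eq_mul, m0, m1, m2, m3]
      have hx' := mext x
      rcases card_two_cases hq (x (Sum.inl 0)) with a1 | a1 <;> rcases card_two_cases hq (x (Sum.inr 0)) with a2 | a2 <;>
      rcases card_two_cases hq (x (Sum.inl 1)) with a3 | a3 <;> rcases card_two_cases hq (x (Sum.inr 1)) with a4 | a4 <;>
      rw [a1, a2, a3, a4] at hv0 hx'
      · exact absurd (by ring) hv0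
      · exact absurd (by ring) hv0
      · exact absurd (by ring) hv0
      · exact Or.inr ⟨1, 0, by rw [hm', hx']; congr 1 <;> ring⟩
      · exact absurd (by ring) hv0
      · exact absurd (by ring) hv0
      · exact absurd (by ring) hv0
      · exact Or.inl ⟨1, 1, by rw [hm', hx']; congr 1 <;> first | ring1 | linear_combination -h2 | linear_combination h2⟩
      · exact absurd (by ring) hv0
      · exact absurd (by ring) hv0
      · exact absurd (by ring) hv0
      · exact Or.inl ⟨0, 1, by rw [hm', hx']; congr 1 <;> ring⟩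
      · exact Or.inl ⟨1, 0, by rw [hm', hx']; congr 1 <;> ring⟩
      · exact Or.inr ⟨1, 1, by rw [hm', hx']; congr 1 <;> first | ring1 | linear_combination -h2 | linear_combination h2⟩
      · exact Or.inr ⟨0, 1, by rw [hm', hx']; congr 1 <;> ring⟩
      · exact absurd (by linear_combination h2) hv0
    rcases hcases with ⟨a, b, hab⟩ | ⟨a, b, hab⟩
    · exact ⟨0, Submodule.mem_span_pair.2 ⟨a, b, (hsum a b _ _ hab).symm⟩⟩
    · exact ⟨1, Submodule.mem_span_pair.2 ⟨a, b, (hsum a b _ _ hab).symm⟩⟩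

end Cfsg.Agent.OCase
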