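import Cfsg.Agent.OCase.Refine

/-!
Refining 4-dimensional members of plus type over the field with two elements.
-/

set_option autoImplicit false
set_option linter.unusedSectionVars false

namespace Cfsg.Agent.OCase

open QuadraticMap Module Cfsg.Agent.Orth Cfsg.Geo Cfsg.Agent.Asch
open scoped Matrix

variable {ι : Type} [Fintype ι] [DecidableEq ι] {F : Type*} [Field F] [Fintype F]
variable {Q : QuadraticForm F (ι → F)} {t : ℕ} {D : Fin t → Submodule F (ι → F)}

section pair

variable {x y : ι → F}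

theorem pair_polar (h2 : (2 : F) = 0) (hx : Q x = 1) (hy : Q y = 1) (hxy : polar Q x y = 1) (a b : F) :
    polar Q (a • x + b • y) x = b ∧ polar Q (a • x + b • y) y = a := by
  constructor
  · rw [pal, psl, psl, pself, hx, pc, hxy]; linear_combination a * h2
  · rw [pal, psl, psl, pself, hy, hxy]; linear_combination b * h2

theorem pair_finrank (h2 : (2 : F) = 0) (hx : Q x = 1) (hy : Q y = 1) (hxy : polar Q x y = 1) :
    finrank F (Submodule.span F {x, y}) = 2 := by
  have hli : LinearIndependent F ![x, y] := by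
    rw [LinearIndependent.pair_iff]
    intro a b hab
    have h1 := pair_polar h2 hx hy hxy a b
    rw [hab, polar_zero_left, polar_zero_left] at h1
    exact ⟨h1.2.symm, h1.1.symm⟩
  have h3 : finrank F (Submodule.span F (Set.range ![x, y])) = 2 := by
    rw [finrank_span_eq_card hli, Fintype.card_fin]
  have h4 : Set.range ![x, y] = {x, y} := by
    simp only [Matrix.range_cons, Matrix.range_empty, Set.union_empty, Set.singleton_union]
  rwa [h4] at h3

theorem pair_nondeg (h2 : (2 : F) = 0) (hx : Q x = 1) (hy : Q y = 1) (hxy : polar Q x y = 1) :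
    Submodule.span F {x, y} ⊓ perp Q (Submodule.span F {x, y}) = ⊥ := by
  rw [eq_bot_iff]
  rintro v ⟨hv, hv'⟩
  obtain ⟨a, b, rfl⟩ := Submodule.mem_span_pair.1 hv
  have h1 : polar Q x (a • x + b • y) = 0 := hv' x (Submodule.subset_span (by simp))
  have h3 : polar Q y (a • x + b • y) = 0 := hv' y (Submodule.subset_span (by simp))
  rw [pc, (pair_polar h2 hx hy hxy a b).1] at h1
  rw [pc, (pair_polar h2 hx hy hxy a b).2] at h3
  rw [h1, h3]
  simp

theorem pair_aniso (hq : Fintype.card F = 2) (hx : Q x = 1) (hy : Q y = 1) (hxy : polar Q x y = 1) {v : ι → F}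
    (hv : v ∈ Submodule.span F {x, y}) (hv0 : v ≠ 0) : Q v = 1 := by
  obtain ⟨a, b, rfl⟩ := Submodule.mem_span_pair.1 hv
  have h2 := two_eq_zero_of_card_two hq
  rw [qadd, qsmul, qsmul, psl, psr, hx, hy, hxy]
  rcases card_two_cases hq a with rfl | rfl <;> rcases card_two_cases hq b with rfl | rfl
  · simp at hv0
  · ring
  · ring
  · linear_combination h2

theorem pair_minus (hq : Fintype.card F = 2) (hx : Q x = 1) (hy : Q y = 1) (hxy : polar Q x y = 1) :
    ¬ IsPlusTypeOn ⇑Q (Submodule.span F {x, y}) := by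
  rintro ⟨U, hU, hUs, hd⟩
  rw [pair_finrank (two_eq_zero_of_card_two hq) hx hy hxy] at hd
  obtain ⟨v, hv, hv0⟩ := (Submodule.ne_bot_iff U).1 (by
    rintro rfl
    rw [finrank_bot] at hd
    omega)
  have h1 := pair_aniso hq hx hy hxy (hU hv) hv0
  rw [hUs v hv] at h1
  exact zero_ne_one h1

end pair

/-- a quadruple in each member -/
structure IsQuad (Q : QuadraticForm F (ι → F)) (D : Fin t → Submodule F (ι → F))
    (u : Fin t → Fin 2 → Fin 2 → (ι → F)) : Prop where
  mem : ∀ i s c, u i s c ∈ D i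
  q : ∀ i s c, Q (u i s c) = 1
  p : ∀ i s, polar Q (u i s 0) (u i s 1) = 1
  o : ∀ i c c', polar Q (u i 0 c) (u i 1 c') = 0
  all : ∀ i, ∀ v ∈ D i, Q v ≠ 0 → ∃ s, v ∈ Submodule.span F {u i s 0, u i s 1}
  orth : ∀ i j, i ≠ j → ∀ x ∈ D i, ∀ y ∈ D j, polar Q x y = 0

theorem exists_isQuad (hq : Fintype.card F = 2) (hD : IsOrthogonalMDecomposition ⇑Q 4 D)
    (hp : ∀ i, IsPlusTypeOn ⇑Q (D i)) : ∃ u, IsQuad Q D u := by
  choose u h1 h2 h3 h4 h5 using fun i => exists_quad_two hq ((isNondegenerateOn_iff Q _).1 (hD.decomp.nondegenerate i))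
    (hD.decomp.decomp.finrank_eq i) (isPlusTypeOn_iff.1 (hp i))
  exact ⟨u, h1, h2, h3, h4, h5, fun i j hij => hD.decomp.orthogonal i j hij⟩

/-- the refined decomposition -/
def quadDecomp (u : Fin t → Fin 2 → Fin 2 → (ι → F)) {N : ℕ} (E : Fin N ≃ Fin t × Fin 2) (j : Fin N) :
    Submodule F (ι → F) := Submodule.span F {u (E j).1 (E j).2 0, u (E j).1 (E j).2 1}

namespace IsQuad

variable {u : Fin t → Fin 2 → Fin 2 → (ι → F)}

theorem orth' (h : IsQuad Q D u) {p q : Fin t × Fin 2} (hpq : p ≠ q) (c c' : Fin 2) :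
    polar Q (u p.1 p.2 c) (u q.1 q.2 c') = 0 := by
  obtain ⟨i, s⟩ := p
  obtain ⟨j, s'⟩ := q
  by_cases hij : i = j
  · subst hij
    change polar Q (u i s c) (u i s' c') = 0
    fin_cases s <;> fin_cases s'
    · exact absurd rfl hpq
    · exact h.o i c c'
    · exact (pc _ _ _).trans (h.o i c' c)
    · exact absurd rfl hpq
  · exact h.orth i j hij _ (h.mem _ _ _) _ (h.mem _ _ _)

theorem isOrthogonalMDecomposition (hq : Fintype.card F = 2) (h : IsQuad Q D u) (ht : 1 ≤ t)
    (hc : Fintype.card ι = t * 4) {N : ℕ} (E : Fin N ≃ Fin t × Fin 2) :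
    IsOrthogonalMDecomposition ⇑Q 2 (quadDecomp u E) := by
  have h2 := two_eq_zero_of_card_two hq
  have hN : N = t * 2 := by
    have := Fintype.card_congr E
    simpa using this
  refine ⟨isNondegenerateMDecomposition_of_orthogonal (by omega) (by norm_num)
    (fun j => pair_finrank h2 (h.q _ _ _) (h.q _ _ _) (h.p _ _))
    (fun j => pair_nondeg h2 (h.q _ _ _) (h.q _ _ _) (h.p _ _)) ?_ (by rw [hc, hN]; ring), ?_⟩
  · intro i j hij x hx y hy
    have hE : E i ≠ E j := fun h' => hij (E.injective h')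
    obtain ⟨a, b, rfl⟩ := Submodule.mem_span_pair.1 hx
    obtain ⟨a', b', rfl⟩ := Submodule.mem_span_pair.1 hy
    simp only [pal, par, psl, psr, h.orth' hE, mul_zero, add_zero]
  · intro i j
    obtain ⟨g, hg⟩ := exists_isom_of_type
      (Q₁ := Q.restrict (quadDecomp u E i)) (Q₂ := Q.restrict (quadDecomp u E j))
      (nondegenerate_restrict (pair_nondeg h2 (h.q _ _ _) (h.q _ _ _) (h.p _ _)))
      (nondegenerate_restrict (pair_nondeg h2 (h.q _ _ _) (h.q _ _ _) (h.p _ _)))
      (by unfold quadDecomp; rw [pair_finrank h2 (h.q _ _ _) (h.q _ _ _) (h.p _ _)]; decide)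
      (by unfold quadDecomp; rw [pair_finrank h2 (h.q _ _ _) (h.q _ _ _) (h.p _ _),
            pair_finrank h2 (h.q _ _ _) (h.q _ _ _) (h.p _ _)])
      (by
        rw [← isPlusTypeOn_iff, ← isPlusTypeOn_iff]
        exact iff_of_false (pair_minus hq (h.q _ _ _) (h.q _ _ _) (h.p _ _))
          (pair_minus hq (h.q _ _ _) (h.q _ _ _) (h.p _ _)))
    exact ⟨g, hg⟩

theorem minus (hq : Fintype.card F = 2) (h : IsQuad Q D u) {N : ℕ} (E : Fin N ≃ Fin t × Fin 2) (j : Fin N) :
    ¬ IsPlusTypeOn ⇑Q (quadDecomp u E j) :=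
  pair_minus hq (h.q _ _ _) (h.q _ _ _) (h.p _ _)

theorem stab_le (hq : Fintype.card F = 2) (h : IsQuad Q D u) (ht : 1 ≤ t)
    (hc : Fintype.card ι = t * 4) {N : ℕ} (E : Fin N ≃ Fin t × Fin 2) :
    decompositionStabilizer D ⊓ omegaGL ⇑Q ≤ decompositionStabilizer (quadDecomp u E) := by
  refine (inf_omegaGL_le_iff Q _ _).2 fun g _ hM => ?_
  obtain ⟨σ, hσ⟩ := toGL_mem_decompositionStabilizer.1 hM
  refine mem_decomp_of_forall (h.isOrthogonalMDecomposition hq ht hc E).decomp.decomp fun j => ?_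
  set i := (E j).1 with hi
  set s := (E j).2 with hs
  have hg : ∀ v ∈ D i, (g : (ι → F) ≃ₗ[F] (ι → F)) v ∈ D (σ i) := by
    intro v hv; rw [← hσ]; exact ⟨v, hv, rfl⟩
  obtain ⟨s₀, h0⟩ := h.all (σ i) _ (hg _ (h.mem i s 0)) (by rw [OGrp_q, h.q]; exact one_ne_zero)
  obtain ⟨s₁, h1⟩ := h.all (σ i) _ (hg _ (h.mem i s 1)) (by rw [OGrp_q, h.q]; exact one_ne_zero)
  have hss : s₁ = s₀ := by
    by_contra hne
    have h3 := h.p i s
    rw [← OGrp_polar g] at h3
    obtain ⟨a, b, hab⟩ := Submodule.mem_span_pair.1 h0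
    obtain ⟨a', b', hab'⟩ := Submodule.mem_span_pair.1 h1
    rw [← hab, ← hab'] at h3
    have ho : ∀ c c', polar Q (u (σ i) s₀ c) (u (σ i) s₁ c') = 0 := fun c c' =>
      h.orth' (p := (σ i, s₀)) (q := (σ i, s₁)) (fun h' => hne (congrArg Prod.snd h').symm) c c'
    simp only [pal, par, psl, psr, ho, mul_zero, add_zero] at h3
    exact zero_ne_one h3
  rw [hss] at h1
  refine ⟨E.symm (σ i, s₀), ?_⟩
  unfold quadDecomp
  rw [Submodule.map_span, Submodule.span_le, Equiv.apply_symm_apply]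
  rintro _ ⟨v, hv, rfl⟩
  rcases hv with rfl | hv
  · exact h0
  · rw [Set.mem_singleton_iff] at hv
    rw [hv]
    exact h1

theorem witness (hQ : (polarBilin Q).Nondegenerate) (hN7 : 7 ≤ Fintype.card ι) (hq : Fintype.card F = 2)
    (h : IsQuad Q D u) (ht : 2 ≤ t) (hc : Fintype.card ι = t * 4) {N : ℕ} (E : Fin N ≃ Fin t × Fin 2) :
    ∃ g ∈ commutator (OGrp Q), toGL g ∈ decompositionStabilizer (quadDecomp u E) ∧
      toGL g ∉ decompositionStabilizer D := by
  have h2 := two_eq_zero_of_card_two hq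
  have hneg : ∀ x : ι → F, -x = x := fun x => by
    have : (2 : F) • x = 0 := by rw [h2, zero_smul]
    rw [two_smul] at this
    exact neg_eq_of_add_eq_zero_left this
  set i0 : Fin t := ⟨0, by omega⟩ with hi0
  set i1 : Fin t := ⟨1, by omega⟩ with hi1
  have n01 : i0 ≠ i1 := by intro h; have := congrArg Fin.val h; simp [hi0, hi1] at this
  set p0 : Fin t × Fin 2 := (i0, 0) with hp0
  set p1 : Fin t × Fin 2 := (i1, 0) with hp1
  have np : p0 ≠ p1 := fun h' => n01 (congrArg Prod.fst h')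
  obtain ⟨U, hU⟩ : ∃ U : Fin t × Fin 2 → Fin 2 → (ι → F), ∀ p c, U p c = u p.1 p.2 c := ⟨fun p c => u p.1 p.2 c,
    fun _ _ => rfl⟩
  have hUo : ∀ p q, p ≠ q → ∀ c c', polar Q (U p c) (U q c') = 0 := fun p q hpq c c' => by
    rw [hU, hU]; exact h.orth' hpq c c'
  have hUq : ∀ p c, Q (U p c) = 1 := fun p c => by rw [hU, h.q]
  have hU1 : ∀ p, polar Q (U p 0) (U p 1) = 1 := fun p => by rw [hU, hU, h.p]
  have hU1' : ∀ p, polar Q (U p 1) (U p 0) = 1 := fun p => by rw [pc, hU1]
  have hUs : ∀ p c, polar Q (U p c) (U p c) = 0 := fun p c => by rw [pself, hUq, mul_one, h2]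
  have hUm : ∀ p c, U p c ∈ D p.1 := fun p c => by rw [hU]; exact h.mem _ _ _
  obtain ⟨a, ha⟩ : ∃ a, a = U p0 0 + U p1 0 := ⟨_, rfl⟩
  obtain ⟨b, hb⟩ : ∃ b, b = U p0 1 + U p1 1 := ⟨_, rfl⟩
  have hqa : Q a = 0 := by
    rw [ha, qadd, hUq, hUq, hUo _ _ np]; linear_combination h2
  have hqb : Q b = 0 := by
    rw [hb, qadd, hUq, hUq, hUo _ _ np]; linear_combination h2
  have hab : polar Q a b = 0 := by
    rw [ha, hb, pal, par, par, hU1, hU1, hUo _ _ np, hUo _ _ np.symm]; linear_combination h2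
  set g := eich Q a b hqa hab with hg
  have hgx : ∀ x, (g : (ι → F) ≃ₗ[F] (ι → F)) x = x + polar Q x b • a + polar Q x a • b := by
    intro x
    rw [hg, eich_apply, hqb, zero_mul, zero_smul, sub_zero, sub_eq_add_neg, hneg]
  -- action
  have hother : ∀ p, p ≠ p0 → p ≠ p1 → ∀ c, (g : (ι → F) ≃ₗ[F] (ι → F)) (U p c) = U p c := by
    intro p h0 h1 c
    rw [hgx, ha, hb, par, par, hUo _ _ h0, hUo _ _ h1, hUo _ _ h0, hUo _ _ h1]
    simp
  have hcancel : ∀ x y : ι → F, x + (x + y) = y := fun x y => by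
    rw [← add_assoc]
    have : x + x = 0 := by
      nth_rewrite 1 [← hneg x]
      exact neg_add_cancel x
    rw [this, zero_add]
  have h00 : (g : (ι → F) ≃ₗ[F] (ι → F)) (U p0 0) = U p1 0 := by
    rw [hgx, hb, par, hU1, hUo _ _ np, ha, par, hUs, hUo _ _ np]
    simp only [add_zero, one_smul, zero_smul]
    exact hcancel _ _
  have h01 : (g : (ι → F) ≃ₗ[F] (ι → F)) (U p0 1) = U p1 1 := by
    rw [hgx, ha, par, hU1', hUo _ _ np, hb, par, hUs, hUo _ _ np]
    simp only [add_zero, one_smul, zero_smul]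
    exact hcancel _ _
  have hcancel' : ∀ x y : ι → F, y + (x + y) = x := fun x y => by
    rw [add_comm x y]; exact hcancel y x
  have h10 : (g : (ι → F) ≃ₗ[F] (ι → F)) (U p1 0) = U p0 0 := by
    rw [hgx, hb, par, hU1, hUo _ _ np.symm, ha, par, hUs, hUo _ _ np.symm]
    simp only [add_zero, zero_add, one_smul, zero_smul]
    exact hcancel' _ _
  have h11 : (g : (ι → F) ≃ₗ[F] (ι → F)) (U p1 1) = U p0 1 := by
    rw [hgx, ha, par, hU1', hUo _ _ np.symm, hb, par, hUs, hUo _ _ np.symm]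
    simp only [add_zero, zero_add, one_smul, zero_smul]
    exact hcancel' _ _
  have hN7' : 7 ≤ finrank F (ι → F) := by rwa [finrank_fintype_fun_eq_card]
  refine ⟨g, GeoMax.Ort.eich_mem_commutator hQ hN7' hqa hab, ?_, ?_⟩
  · refine mem_decomp_of_forall (h.isOrthogonalMDecomposition hq (by omega) hc E).decomp.decomp fun j => ?_
    have key : ∀ p : Fin t × Fin 2, ∃ q : Fin t × Fin 2, ∀ c, (g : (ι → F) ≃ₗ[F] (ι → F)) (U p c) = U q c := by
      intro p
      by_cases hp0' : p = p0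
      · refine ⟨p1, fun c => ?_⟩
        rw [hp0']
        fin_cases c
        · exact h00
        · exact h01
      by_cases hp1' : p = p1
      · refine ⟨p0, fun c => ?_⟩
        rw [hp1']
        fin_cases c
        · exact h10
        · exact h11
      · exact ⟨p, hother p hp0' hp1'⟩
    obtain ⟨q, hqj⟩ := key (E j)
    refine ⟨E.symm q, ?_⟩
    unfold quadDecomp
    rw [Submodule.map_span, Submodule.span_le, Equiv.apply_symm_apply]
    rintro _ ⟨v, hv, rfl⟩
    rcases hv with rfl | hv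
    · change (g : (ι → F) ≃ₗ[F] (ι → F)) (u (E j).1 (E j).2 0) ∈ _
      rw [← hU (E j) 0, hqj 0, hU]
      exact Submodule.subset_span (by simp)
    · rw [Set.mem_singleton_iff] at hv
      rw [hv]
      change (g : (ι → F) ≃ₗ[F] (ι → F)) (u (E j).1 (E j).2 1) ∈ _
      rw [← hU (E j) 1, hqj 1, hU]
      exact Submodule.subset_span (by simp)
  · rw [toGL_mem_decompositionStabilizer]
    rintro ⟨σ, hσ⟩
    set p2 : Fin t × Fin 2 := (i0, 1) with hp2
    have n20 : p2 ≠ p0 := by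
      intro h'
      have := congrArg Prod.snd h'
      simp [hp2, hp0] at this
    have n21 : p2 ≠ p1 := fun h' => n01 (congrArg Prod.fst h')
    have h5 : (g : (ι → F) ≃ₗ[F] (ι → F)) (U p0 0 + U p2 0) ∈ D (σ i0) := by
      rw [← hσ]
      exact ⟨_, (D i0).add_mem (hUm p0 0) (hUm p2 0), rfl⟩
    rw [_root_.map_add, h00, hother p2 n20 n21] at h5
    refine not_mem_of_polar (fun i j hij => h.orth i j hij) n01 (hUm p2 1) (hUm p1 1) ?_ ?_ _ h5
    · rw [pal, hU1, hUo _ _ n21.symm, zero_add]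
      exact one_ne_zero
    · rw [pal, hU1, hUo _ _ n21, add_zero]
      exact one_ne_zero

end IsQuad

end Cfsg.Agent.OCase
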