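import Cfsg.Agent.OCase.RefineB

/-!
Row 5693.
-/

set_option autoImplicit false
set_option linter.unusedSectionVars false

namespace Cfsg.Agent.OCase

open QuadraticMap Module Cfsg.Agent.Orth Cfsg.Geo

variable {F : Type*} [Field F] [Fintype F]

theorem row5693 {n : ℕ} (hn : 13 ≤ n) (Q : QuadraticForm F (Fin n → F)) (hQ : (polarBilin Q).Nondegenerate)
    {t : ℕ} (k : ℕ) (D : Fin t → Submodule F (Fin n → F))
    (hD : IsOrthogonalMDecomposition ⇑Q k D)
    (hcase : ((k = 2 ∧ (Fintype.card F = 3 ∨ ((∀ i, IsPlusTypeOn ⇑Q (D i)) ∧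
      (Fintype.card F = 2 ∨ Fintype.card F = 4 ∨ Fintype.card F = 5)))) ∨ (k = 3 ∧ Fintype.card F = 3) ∨
      (k = 4 ∧ Fintype.card F = 2 ∧ ∀ i, IsPlusTypeOn ⇑Q (D i)))) :
    ∃ K : Subgroup (Matrix.GeneralLinearGroup (Fin n) F),
      decompositionStabilizer D ⊓ omegaGL ⇑Q < K ∧ K < omegaGL ⇑Q := by
  have hcard : n = t * k := by simpa using card_eq_of_decomp hD.decomp.decomp
  have hcard' : Fintype.card (Fin n) = t * k := card_eq_of_decomp hD.decomp.decomp
  have hN : 7 ≤ Fintype.card (Fin n) := by rw [Fintype.card_fin]; omega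
  have hfr : finrank F (Fin n → F) = n := finrank_fin_fun F
  rcases hcase with ⟨rfl, hcase⟩ | ⟨rfl, hq⟩ | ⟨rfl, hq, hp⟩
  · have ht : 7 ≤ t := by omega
    rcases hcase with hq | ⟨hp, hq | hq | hq⟩
    · by_cases hp : ∀ i, IsPlusTypeOn ⇑Q (D i)
      · obtain ⟨e, f, h⟩ := exists_isHyp hD hp
        refine exists_between (h.stab_le_three hq) (h.witness_three hQ hq (by omega))
          (not_omegaGL_le_subspaceStabilizer hQ hN ?_ ?_)
        · intro h0
          have := h.finrank_Vp hq
          rw [h0, finrank_bot] at this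
          omega
        · intro h0
          have := h.finrank_Vp hq
          rw [h0, finrank_top] at this
          omega
      · have hp' : ∀ i, ¬ IsPlusTypeOn ⇑Q (D i) := by
          push Not at hp
          obtain ⟨i, hi⟩ := hp
          intro j hj
          exact hi ((isPlusTypeOn_congr_of_decomp hD j i).1 hj)
        obtain ⟨u, hu⟩ := exists_frame_three_two hq hD hp'
        exact hu.exists_between hQ hN (two_ne_zero_three hq) hD (by omega) le_rfl
    · obtain ⟨e, f, h⟩ := exists_isHyp hD hp
      refine exists_between (h.stab_le_two hq) (h.witness_two hQ (two_eq_zero_of_card_two hq) (by omega))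
        (not_omegaGL_le_subspaceStabilizer hQ hN ?_ ?_)
      · rw [Ne, Submodule.span_singleton_eq_bot]
        exact h.sv_ne_zero (by omega)
      · intro h0
        have := finrank_span_singleton (K := F) (h.sv_ne_zero (by omega))
        rw [h0, finrank_top] at this
        omega
    · obtain ⟨e, f, h⟩ := exists_isHyp hD hp
      obtain ⟨F₀, P, -, h1, -, h2, h3⟩ := h.four hq hcard'
      exact exists_between h2 (h3 hQ (by omega)) (not_omegaGL_le_subfieldSubgroup hQ hN h1 P)
    · obtain ⟨u, hu⟩ := exists_frame_five hq hD hp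
      exact hu.exists_between hQ hN (two_ne_zero_of_odd (by rw [hq]; decide)) hD (by omega) le_rfl
  · obtain ⟨c, u, hu⟩ := exists_frame_three_three hq hD
    exact hu.exists_between hQ hN (two_ne_zero_three hq) hD (by omega) (by norm_num)
  · obtain ⟨u, hu⟩ := exists_isQuad hq hD hp
    have ht : 2 ≤ t := hD.decomp.decomp.two_le
    exact exists_between (hu.stab_le hq (by omega) hcard' (finProdFinEquiv (m := t) (n := 2)).symm)
      (hu.witness hQ hN hq ht hcard' _)
      (not_omegaGL_le_decompositionStabilizer hQ hN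
        (hu.isOrthogonalMDecomposition hq (by omega) hcard' (finProdFinEquiv (m := t) (n := 2)).symm).decomp.decomp)

end Cfsg.Agent.OCase
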