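import Cfsg.Agent.Orth.Classify
import Cfsg.Agent.Orth.Simil

/-!
Copies (for library use) of the standard bases of even-dimensional quadratic spaces over finite fields and of the
existence of similitudes (proofs of rows 2616 and 2624).
-/

set_option autoImplicit false
set_option linter.unusedSimpArgs false
set_option linter.unusedSectionVars false

namespace Cfsg.Agent.OCase


/-- Standard bases of a non-degenerate quadratic space of even dimension 2m over a finite field: either there is a hyperbolic basis e_i, f_i (Q(e_i) = Q(f_i) = 0, B(e_i, f_j) = δ_ij, the e's pairwise orthogonal and the f's pairwise orthogonal, B the polar form), or there is an elliptic basis: hyperbolic pairs e_i, f_i for i < m − 1 together with x, y orthogonal to them with Q(x) = 1, B(x, y) = 1, Q(y) = ζ where t² + t + ζ has no root in the field. -/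
theorem std_basis {F V : Type*} [Field F] [Finite F] [AddCommGroup V] [Module F V] [FiniteDimensional F V] {m : ℕ} (hm : 1 ≤ m) (hV : Module.finrank F V = 2 * m) (Q : QuadraticForm F V) (hQ : (QuadraticMap.polarBilin Q).Nondegenerate) : (∃ b : Module.Basis (Fin m ⊕ Fin m) F V, (∀ i, Q (b (Sum.inl i)) = 0 ∧ Q (b (Sum.inr i)) = 0) ∧ (∀ i j, QuadraticMap.polar ⇑Q (b (Sum.inl i)) (b (Sum.inr j)) = if i = j then 1 else 0) ∧ (∀ i j, QuadraticMap.polar ⇑Q (b (Sum.inl i)) (b (Sum.inl j)) = 0 ∧ QuadraticMap.polar ⇑Q (b (Sum.inr i)) (b (Sum.inr j)) = 0)) ∨ (∃ (b : Module.Basis ((Fin (m - 1) ⊕ Fin (m - 1)) ⊕ Fin 2) F V) (ζ : F), (∀ t : F, t ^ 2 + t + ζ ≠ 0) ∧ (∀ i, Q (b (Sum.inl (Sum.inl i))) = 0 ∧ Q (b (Sum.inl (Sum.inr i))) = 0) ∧ (∀ i j, QuadraticMap.polar ⇑Q (b (Sum.inl (Sum.inl i))) (b (Sum.inl (Sum.inr j))) = if i = j then 1 else 0) ∧ (∀ i j, QuadraticMap.polar ⇑Q (b (Sum.inl (Sum.inl i))) (b (Sum.inl (Sum.inl j))) = 0 ∧ QuadraticMap.polar ⇑Q (b (Sum.inl (Sum.inr i))) (b (Sum.inl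 (Sum.inr j))) = 0) ∧ (∀ i (k : Fin 2), QuadraticMap.polar ⇑Q (b (Sum.inl (Sum.inl i))) (b (Sum.inr k)) = 0 ∧ QuadraticMap.polar ⇑Q (b (Sum.inl (Sum.inr i))) (b (Sum.inr k)) = 0) ∧ Q (b (Sum.inr 0)) = 1 ∧ QuadraticMap.polar ⇑Q (b (Sum.inr 0)) (b (Sum.inr 1)) = 1 ∧ Q (b (Sum.inr 1)) = ζ) := by
  obtain ⟨k, rfl⟩ : ∃ k, m = k + 1 := ⟨m - 1, by omega⟩
  obtain ⟨e, f, h⟩ := Cfsg.Agent.Orth.exists_isHyp hQ k (by omega)
  have hd := Cfsg.Agent.Orth.finrank_perp hQ (Cfsg.Agent.Orth.hypSpan F e f)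
  rw [h.finrank, Fintype.card_fin, hV] at hd
  have hn := Cfsg.Agent.Orth.nondegenerate_restrict
    (Cfsg.Agent.Orth.perp_inf_eq_bot hQ h.inf_perp)
  by_cases hs : ∃ v ∈ Cfsg.Agent.Orth.perp Q (Cfsg.Agent.Orth.hypSpan F e f), v ≠ 0 ∧ Q v = 0
  · left
    obtain ⟨v, hv, hv0, hvs⟩ := hs
    obtain ⟨w, hw⟩ := h.extend hQ hv hv0 hvs
    have hcard : Fintype.card (Fin (k + 1) ⊕ Fin (k + 1)) = Module.finrank F V := by
      rw [hV, Fintype.card_sum, Fintype.card_fin]; ring
    set b := basisOfLinearIndependentOfCardEqFinrank hw.linearIndependent hcard with hb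
    have hbi : ∀ i, b (Sum.inl i) = (Fin.snoc e v : Fin (k + 1) → V) i := by
      intro i; rw [hb, coe_basisOfLinearIndependentOfCardEqFinrank]; rfl
    have hbr : ∀ i, b (Sum.inr i) = (Fin.snoc f w : Fin (k + 1) → V) i := by
      intro i; rw [hb, coe_basisOfLinearIndependentOfCardEqFinrank]; rfl
    refine ⟨b, fun i => ?_, fun i j => ?_, fun i j => ?_⟩
    · rw [hbi, hbr]; exact ⟨hw.qe i, hw.qf i⟩
    · rw [hbi, hbr]; exact hw.ef i j
    · rw [hbi, hbi, hbr, hbr]; exact ⟨hw.ee i j, hw.ff i j⟩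
  · right
    push Not at hs
    obtain ⟨x, y, hli, hx, hxy⟩ := Cfsg.Agent.Orth.exists_plane_basis hn (by omega)
    have hli' : LinearIndependent F ![(x : V), (y : V)] := by
      have := hli.map' (Cfsg.Agent.Orth.perp Q (Cfsg.Agent.Orth.hypSpan F e f)).subtype
        (Submodule.ker_subtype _)
      have hcomp : (⇑(Cfsg.Agent.Orth.perp Q (Cfsg.Agent.Orth.hypSpan F e f)).subtype ∘ ![x, y])
          = ![(x : V), (y : V)] := by
        funext i
        fin_cases i <;> rfl
      rwa [hcomp] at this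
    have hmem : ∀ i, ![(x : V), (y : V)] i ∈ Cfsg.Agent.Orth.perp Q (Cfsg.Agent.Orth.hypSpan F e f) := by
      intro i
      fin_cases i
      · exact x.2
      · exact y.2
    have hlis := h.li_sum hmem hli'
    have hcard : Fintype.card ((Fin k ⊕ Fin k) ⊕ Fin 2) = Module.finrank F V := by
      rw [hV, Fintype.card_sum, Fintype.card_sum, Fintype.card_fin, Fintype.card_fin]; ring
    set b := basisOfLinearIndependentOfCardEqFinrank hlis hcard with hb
    have hbe : ∀ i, b (Sum.inl (Sum.inl i)) = e i := by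
      intro i; rw [hb, coe_basisOfLinearIndependentOfCardEqFinrank]; rfl
    have hbf : ∀ i, b (Sum.inl (Sum.inr i)) = f i := by
      intro i; rw [hb, coe_basisOfLinearIndependentOfCardEqFinrank]; rfl
    have hb0 : b (Sum.inr 0) = x := by
      rw [hb, coe_basisOfLinearIndependentOfCardEqFinrank]; rfl
    have hb1 : b (Sum.inr 1) = y := by
      rw [hb, coe_basisOfLinearIndependentOfCardEqFinrank]; rfl
    have hx2 := Cfsg.Agent.Orth.mem_perp_hypSpan.1 x.2
    have hy2 := Cfsg.Agent.Orth.mem_perp_hypSpan.1 y.2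
    rw [Cfsg.Agent.Orth.restrict_apply'] at hx
    rw [Cfsg.Agent.Orth.polar_restrict] at hxy
    refine ⟨b, Q (y : V), fun t ht => ?_, fun i => ?_, fun i j => ?_, fun i j => ?_, fun i k => ?_,
      ?_, ?_, ?_⟩
    · have h1 : Q (t • (x : V) + y) = 0 := by
        rw [Cfsg.Agent.Orth.qadd, Cfsg.Agent.Orth.qsmul, Cfsg.Agent.Orth.psl, hx, hxy, ← ht]; ring
      refine hs _ (Submodule.add_mem _ (Submodule.smul_mem _ t x.2) y.2) ?_ h1
      intro h0
      have := LinearIndependent.pair_iff.1 hli' t 1 (by rw [one_smul]; exact h0)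
      exact one_ne_zero this.2
    · rw [hbe, hbf]; exact ⟨h.qe i, h.qf i⟩
    · rw [hbe, hbf]; exact h.ef i j
    · rw [hbe, hbe, hbf, hbf]; exact ⟨h.ee i j, h.ff i j⟩
    · rw [hbe, hbf]
      fin_cases k
      · rw [show (⟨0, by omega⟩ : Fin 2) = 0 from rfl, hb0]; exact hx2 i
      · rw [show (⟨1, by omega⟩ : Fin 2) = 1 from rfl, hb1]; exact hy2 i
    · rw [hb0]; exact hx
    · rw [hb0, hb1]; exact hxy
    · rw [hb1]



/-- For a quadratic form Q on F^n with non-degenerate polar form, F finite and n ≥ 2 even, every non-zero scalar c is the multiplier of some similarity: there is an invertible linear map g with Q(g v) = c·Q(v) for all v. -/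
theorem similitude_fin {F : Type*} [Field F] [Fintype F] {n : ℕ} (hn : 2 ≤ n) (he : Even n) (Q : QuadraticForm F (Fin n → F)) (hQ : (QuadraticMap.polarBilin Q).Nondegenerate) (c : F) (hc : c ≠ 0) : ∃ g : (Fin n → F) ≃ₗ[F] (Fin n → F), ∀ v, Q (g v) = c * Q v := by
  obtain ⟨m, rfl⟩ := he
  have hdim : Module.finrank F (Fin (m + m) → F) = 2 * m := by
    rw [Module.finrank_fin_fun]; ring
  rcases std_basis (by omega : 1 ≤ m) hdim Q hQ with
    ⟨b, hq, hef, hee⟩ | ⟨b, ζ, -, hq, hef, hee, heu, h0, h01, h1⟩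
  · obtain ⟨g, hg, -⟩ := Cfsg.Agent.Orth.simil_of_basis hQ Q rfl b
      (Sum.elim (fun i => c • b (Sum.inl i)) (fun i => b (Sum.inr i))) hc
      (fun i => by
        rcases i with i | i
        · simp only [Sum.elim_inl, Cfsg.Agent.Orth.qsmul, (hq i).1, mul_zero]
        · simp only [Sum.elim_inr, (hq i).2, mul_zero])
      (fun i j => by
        rcases i with i | i <;> rcases j with j | j
        · simp only [Sum.elim_inl, Cfsg.Agent.Orth.psl, Cfsg.Agent.Orth.psr, (hee i j).1, mul_zero]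
        · simp only [Sum.elim_inl, Sum.elim_inr, Cfsg.Agent.Orth.psl, hef]
        · simp only [Sum.elim_inl, Sum.elim_inr, Cfsg.Agent.Orth.psr]
        · simp only [Sum.elim_inr, (hee i j).2, mul_zero])
    exact ⟨g, hg⟩
  · -- elliptic case: on the anisotropic plane multiply by an element of norm `c`
    obtain ⟨s, t, hst⟩ : ∃ s t : F, s ^ 2 + s * t + ζ * t ^ 2 = c := by
      -- the plane is universal
      have hpl : ∀ s t : F, Q (s • b (Sum.inr 0) + t • b (Sum.inr 1)) = s ^ 2 + s * t + ζ * t ^ 2 := by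
        intro s t
        rw [Cfsg.Agent.Orth.qadd, Cfsg.Agent.Orth.qsmul, Cfsg.Agent.Orth.qsmul,
          Cfsg.Agent.Orth.psl, Cfsg.Agent.Orth.psr, h0, h01, h1]
        ring
      by_cases h2 : (2 : F) = 0
      · obtain ⟨s, hs⟩ := Cfsg.Agent.Orth.isSquare_of_two_eq_zero h2 c
        exact ⟨s, 0, by rw [hs]; ring⟩
      · by_cases hd : (4 : F) * ζ - 1 = 0
        · -- degenerate plane, impossible, but a direct argument is not needed
          exfalso
          have hz : b (Sum.inr 0) - (2 : F) • b (Sum.inr 1) = 0 := by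
            refine hQ.1 _ fun y => ?_
            have hy := b.sum_repr y
            rw [← hy, Cfsg.Agent.Orth.pbil, Cfsg.Agent.Orth.psumr]
            refine Finset.sum_eq_zero fun i _ => ?_
            rw [Cfsg.Agent.Orth.psr]
            rcases i with (i | i) | i
            · rw [Cfsg.Agent.Orth.pc, Cfsg.Agent.Orth.pdr, Cfsg.Agent.Orth.psr, (heu i 0).1,
                (heu i 1).1]; ring
            · rw [Cfsg.Agent.Orth.pc, Cfsg.Agent.Orth.pdr, Cfsg.Agent.Orth.psr, (heu i 0).2,
                (heu i 1).2]; ring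
            · fin_cases i
              · change _ * QuadraticMap.polar ⇑Q _ (b (Sum.inr 0)) = 0
                rw [Cfsg.Agent.Orth.pc, Cfsg.Agent.Orth.pdr, Cfsg.Agent.Orth.psr, h01,
                  Cfsg.Agent.Orth.pself, h0]; ring
              · change _ * QuadraticMap.polar ⇑Q _ (b (Sum.inr 1)) = 0
                rw [Cfsg.Agent.Orth.pc, Cfsg.Agent.Orth.pdr, Cfsg.Agent.Orth.psr,
                  Cfsg.Agent.Orth.pc Q _ (b (Sum.inr 0)), h01,
                  Cfsg.Agent.Orth.pself, h1]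
                have : (1 : F) - 2 * (2 * ζ) = 0 := by linear_combination -hd
                rw [this, mul_zero]
          have hli := b.linearIndependent
          have := congrArg (fun x => b.repr x (Sum.inr 0)) hz
          simp [Finsupp.single_apply] at this
        · obtain ⟨x, y, hxy⟩ := Cfsg.Agent.Orth.exists_sum_sq (F := F) (a := 1) (b := 4 * ζ - 1)
            one_ne_zero hd (4 * c)
          refine ⟨(x - y) / 2, y, ?_⟩
          have h4 : (4 : F) ≠ 0 := by
            have : (4 : F) = 2 * 2 := by norm_num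
            rw [this]; exact mul_ne_zero h2 h2
          field_simp
          linear_combination hxy
    obtain ⟨g, hg, -⟩ := Cfsg.Agent.Orth.simil_of_basis hQ Q rfl b
      (Sum.elim (Sum.elim (fun i => c • b (Sum.inl (Sum.inl i))) (fun i => b (Sum.inl (Sum.inr i))))
        (fun k => if k = 0 then s • b (Sum.inr 0) + t • b (Sum.inr 1)
          else (-(t * ζ)) • b (Sum.inr 0) + (s + t) • b (Sum.inr 1))) hc
      (fun i => by
        rcases i with (i | i) | i
        · simp only [Sum.elim_inl, Cfsg.Agent.Orth.qsmul, (hq i).1, mul_zero]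
        · simp only [Sum.elim_inl, Sum.elim_inr, (hq i).2, mul_zero]
        · fin_cases i
          · simp only [Sum.elim_inr, Cfsg.Agent.Orth.qadd, Cfsg.Agent.Orth.qsmul,
              Cfsg.Agent.Orth.psl, Cfsg.Agent.Orth.psr, h0, h01, h1, Fin.zero_eta, if_true]
            rw [← hst]; ring
          · simp only [Sum.elim_inr, Fin.mk_one, one_ne_zero, if_false, Cfsg.Agent.Orth.qadd,
              Cfsg.Agent.Orth.qsmul, Cfsg.Agent.Orth.psl, Cfsg.Agent.Orth.psr, h0, h01, h1]
            rw [← hst]; ring)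
      (fun i j => by
        have hue : ∀ i k, QuadraticMap.polar ⇑Q (b (Sum.inr k)) (b (Sum.inl (Sum.inl i))) = 0 :=
          fun i k => by rw [Cfsg.Agent.Orth.pc]; exact (heu i k).1
        have huf : ∀ i k, QuadraticMap.polar ⇑Q (b (Sum.inr k)) (b (Sum.inl (Sum.inr i))) = 0 :=
          fun i k => by rw [Cfsg.Agent.Orth.pc]; exact (heu i k).2
        have h10 : QuadraticMap.polar ⇑Q (b (Sum.inr 1)) (b (Sum.inr 0)) = 1 := by
          rw [Cfsg.Agent.Orth.pc]; exact h01
        rcases i with (i | i) | i <;> rcases j with (j | j) | j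
        · simp only [Sum.elim_inl, Cfsg.Agent.Orth.psl, Cfsg.Agent.Orth.psr, (hee i j).1, mul_zero]
        · simp only [Sum.elim_inl, Sum.elim_inr, Cfsg.Agent.Orth.psl, hef]
        · fin_cases j <;>
          simp [Cfsg.Agent.Orth.psl, Cfsg.Agent.Orth.psr, Cfsg.Agent.Orth.par, (heu i 0).1,
            (heu i 1).1]
        · simp only [Sum.elim_inl, Sum.elim_inr, Cfsg.Agent.Orth.psr]
        · simp only [Sum.elim_inl, Sum.elim_inr, (hee i j).2, mul_zero]
        · fin_cases j <;>
          simp [Cfsg.Agent.Orth.psl, Cfsg.Agent.Orth.psr, Cfsg.Agent.Orth.par, (heu i 0).2,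
            (heu i 1).2]
        · fin_cases i <;>
          simp [Cfsg.Agent.Orth.psl, Cfsg.Agent.Orth.psr, Cfsg.Agent.Orth.pal, hue]
        · fin_cases i <;>
          simp [Cfsg.Agent.Orth.psl, Cfsg.Agent.Orth.psr, Cfsg.Agent.Orth.pal, huf]
        · fin_cases i <;> fin_cases j <;>
          simp [Cfsg.Agent.Orth.psl, Cfsg.Agent.Orth.psr, Cfsg.Agent.Orth.pal,
            Cfsg.Agent.Orth.par, Cfsg.Agent.Orth.pself, Cfsg.Agent.Orth.qadd,
            Cfsg.Agent.Orth.qsmul, h01, h10, h0, h1, -smul_add] <;>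
          rw [← hst] <;> ring)
    exact ⟨g, hg⟩


end Cfsg.Agent.OCase
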