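import Cfsg.Agent.OCase.Irr
import Cfsg.Agent.OCase.Contain

/-!
Subspace stabilisers: small fields and the two families of maximal totally singular subspaces.
-/

set_option autoImplicit false
set_option linter.unusedSectionVars false

namespace Cfsg.Agent.OCase

open QuadraticMap Module Cfsg.Agent.Orth Cfsg.Geo

section abstract

variable {F V : Type*} [Field F] [AddCommGroup V] [Module F V] {Q : QuadraticForm F V}

theorem map_span_of_eq {h : OGrp Q} {v : V} {c : F} (hc : c ≠ 0) (hv : (h : V ≃ₗ[F] V) v = c • v) :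
    (Submodule.span F {v}).map ((h : V ≃ₗ[F] V) : V →ₗ[F] V) = Submodule.span F {v} := by
  rw [Submodule.map_span, Set.image_singleton]
  change Submodule.span F {(h : V ≃ₗ[F] V) v} = _
  rw [hv]
  exact Submodule.span_singleton_smul_eq (IsUnit.mk0 c hc) v

theorem eich_fix {a b x : V} (ha : Q a = 0) (hab : polar Q a b = 0) (h1 : polar Q x a = 0) (h2 : polar Q x b = 0) :
    (eich Q a b ha hab : V ≃ₗ[F] V) x = x := by
  rw [eich_apply, h1, h2]; simp

theorem eich_add {a b x : V} (ha : Q a = 0) (hab : polar Q a b = 0) (h1 : polar Q x a = 0) :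
    (eich Q a b ha hab : V ≃ₗ[F] V) x = x + polar Q x b • a := by
  rw [eich_apply, h1]; simp

theorem neg_smul_eq {v w : V} (h : w = v ∨ w = -v) : ∃ c : F, c ≠ 0 ∧ w = c • v := by
  rcases h with h | h
  · exact ⟨1, one_ne_zero, by rw [h, one_smul]⟩
  · exact ⟨-1, neg_ne_zero.2 one_ne_zero, by rw [h, neg_smul, one_smul]⟩

end abstract

section conv

variable {ι : Type} [Fintype ι] [DecidableEq ι] {F : Type*} [Field F] [Fintype F]

theorem card_eq_two_or_three (hq : Fintype.card F ≤ 3) : Fintype.card F = 2 ∨ Fintype.card F = 3 := by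
  have := Fintype.one_lt_card (α := F)
  omega

/-- planes of plus type for `q ≤ 3` -/
theorem plane_le {Q : QuadraticForm F (ι → F)} (hq : Fintype.card F ≤ 3) {W : Submodule F (ι → F)}
    (hdim : finrank F W = 2) (hW : IsNondegenerateOn (polar ⇑Q) W) (hWp : IsPlusTypeOn ⇑Q W) :
    ∃ v ∈ W, Q v = 1 ∧ subspaceStabilizer W ⊓ omegaGL ⇑Q ≤ subspaceStabilizer (Submodule.span F {v}) := by
  rw [isNondegenerateOn_iff] at hW
  rw [isPlusTypeOn_iff] at hWp
  obtain ⟨v, hv, hv1, hu⟩ : ∃ v ∈ W, Q v = 1 ∧ ∀ w ∈ W, Q w = 1 → w = v ∨ w = -v := by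
    rcases card_eq_two_or_three hq with h | h
    · obtain ⟨v, hv, hv1, hu⟩ := exists_unique_nonsing h hW hdim hWp
      exact ⟨v, hv, hv1, fun w hw hw1 => Or.inl (hu w hw (by rw [hw1]; exact one_ne_zero))⟩
    · exact exists_unique_one_three h hW hdim hWp
  refine ⟨v, hv, hv1, (inf_omegaGL_le_iff Q _ _).2 fun h _ hM => ?_⟩
  rw [toGL_mem_subspaceStabilizer] at hM ⊢
  have h1 : (h : (ι → F) ≃ₗ[F] (ι → F)) v ∈ W := by rw [← hM]; exact ⟨v, hv, rfl⟩
  obtain ⟨c, hc, h2⟩ := neg_smul_eq (F := F) (hu _ h1 (by rw [OGrp_q, hv1]))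
  exact map_span_of_eq hc h2

theorem finrank_span_one {v : ι → F} (hv : v ≠ 0) : finrank F (Submodule.span F {v}) = 1 :=
  finrank_span_singleton hv

/-- **row S5690** -/
theorem row5690 {n : ℕ} (hn : 13 ≤ n) (Q : QuadraticForm F (Fin n → F)) (hQ : (polarBilin Q).Nondegenerate)
    (hq : Fintype.card F ≤ 3) (W : Submodule F (Fin n → F)) (hdim : finrank F W = 2)
    (hW : IsNondegenerateOn (polar ⇑Q) W) (hWp : IsPlusTypeOn ⇑Q W) :
    ∃ K : Subgroup (Matrix.GeneralLinearGroup (Fin n) F),
      subspaceStabilizer W ⊓ omegaGL ⇑Q < K ∧ K < omegaGL ⇑Q := by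
  obtain ⟨v, hv, hv1, hle⟩ := plane_le hq hdim hW hWp
  have hv0 : v ≠ 0 := by
    rintro rfl
    rw [QuadraticMap.map_zero] at hv1
    exact zero_ne_one hv1
  have hN : 7 ≤ finrank F (Fin n → F) := by rw [finrank_fin_fun]; omega
  have hW' := (isNondegenerateOn_iff Q W).1 hW
  have hspan := finrank_span_one hv0
  refine exists_between hle ?_ (not_omegaGL_le_subspaceStabilizer hQ (by rw [Fintype.card_fin]; omega) ?_ ?_)
  · -- the witness
    obtain ⟨w, hw, hwv⟩ : ∃ w ∈ W, w ∉ Submodule.span F {v} := by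
      by_contra hcon
      push Not at hcon
      have : finrank F W ≤ finrank F (Submodule.span F {v}) := Submodule.finrank_mono hcon
      omega
    obtain ⟨a, haW, ha0, ha⟩ := GeoMax.Ort.exists_sing_mem Q (perp Q W) (by
      have := finrank_perp hQ W
      rw [finrank_fin_fun] at this
      omega)
    have haW' : a ∉ W := fun h => ha0 (by
      have : a ∈ W ⊓ perp Q W := ⟨h, haW⟩
      rw [hW'] at this
      exact (Submodule.mem_bot F).1 this)
    have hwS : w ∉ Submodule.span F {v, a} := by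
      intro h
      obtain ⟨α, β, hαβ⟩ := Submodule.mem_span_pair.1 h
      by_cases hβ : β = 0
      · apply hwv
        rw [Submodule.mem_span_singleton]
        exact ⟨α, by rw [← hαβ, hβ, zero_smul, add_zero]⟩
      · apply haW'
        have h1 : β • a ∈ W := by
          have : β • a = w - α • v := by rw [← hαβ]; abel
          rw [this]
          exact W.sub_mem hw (W.smul_mem _ hv)
        exact (W.smul_mem_iff hβ).1 h1
    obtain ⟨b, hb, hbw⟩ := exists_ortho_not hQ _ hwS
    have hab : polar Q a b = 0 := by rw [pc]; exact hb a (Submodule.mem_span_pair.2 ⟨0, 1, by simp⟩)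
    have hvb : polar Q v b = 0 := by rw [pc]; exact hb v (Submodule.mem_span_pair.2 ⟨1, 0, by simp⟩)
    have hva : polar Q v a = 0 := haW v hv
    have hwa : polar Q w a = 0 := haW w hw
    refine ⟨eich Q a b ha hab, GeoMax.Ort.eich_mem_commutator hQ hN ha hab, ?_, ?_⟩
    · rw [toGL_mem_subspaceStabilizer]
      exact map_span_of_eq one_ne_zero (by rw [eich_fix ha hab hva hvb, one_smul])
    · rw [toGL_mem_subspaceStabilizer]
      intro hmap
      apply haW'
      have h1 : (eich Q a b ha hab : (Fin n → F) ≃ₗ[F] (Fin n → F)) w ∈ W := by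
        rw [← hmap]; exact ⟨w, hw, rfl⟩
      rw [eich_add ha hab hwa, pc, hbw, one_smul] at h1
      exact (W.add_mem_iff_right hw).1 h1
  · intro h
    rw [h, finrank_bot] at hspan
    exact zero_ne_one hspan
  · intro h
    rw [h, finrank_top, finrank_fin_fun] at hspan
    omega

/-- totally singular subspaces of dimension `n/2 - 1` in plus type -/
theorem ts_le {Q : QuadraticForm F (ι → F)} (hQ : (polarBilin Q).Nondegenerate) (hN : 5 ≤ Fintype.card ι)
    (hp : IsPlus Q) {W : Submodule F (ι → F)} (hW : TS Q W) (hd : 2 * (finrank F W + 1) = Fintype.card ι) :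
    ∃ U, W ≤ U ∧ TS Q U ∧ finrank F U = finrank F W + 1 ∧
      subspaceStabilizer W ⊓ omegaGL ⇑Q ≤ subspaceStabilizer U := by
  have hR : RGrp Q = ⊤ := RGrp_top_of_card hQ (Or.inr (by rw [finrank_fintype_fun_eq_card]; omega))
  obtain ⟨U, h1, h2, h3, h4⟩ := exists_max_of_stab hQ hR (m := finrank F W + 1)
    (by rw [finrank_fintype_fun_eq_card, hd]) hp hW rfl
  refine ⟨U, h1, h2, h3, (inf_omegaGL_le_iff Q _ _).2 fun h hh hM => ?_⟩
  rw [toGL_mem_subspaceStabilizer] at hM ⊢
  exact h4 h hh hM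

/-- **row S5686** -/
theorem row5686 {n : ℕ} (hn : 13 ≤ n) (Q : QuadraticForm F (Fin n → F)) (hQ : (polarBilin Q).Nondegenerate)
    (hp : IsPlus Q) (W : Submodule F (Fin n → F)) (hW : TS Q W) (hd : 2 * (finrank F W + 1) = n) :
    ∃ K : Subgroup (Matrix.GeneralLinearGroup (Fin n) F),
      subspaceStabilizer W ⊓ omegaGL ⇑Q < K ∧ K < omegaGL ⇑Q := by
  obtain ⟨U, hWU, hU, hUd, hle⟩ := ts_le hQ (by rw [Fintype.card_fin]; omega) hp hW (by rw [Fintype.card_fin, hd])
  have hN : 7 ≤ finrank F (Fin n → F) := by rw [finrank_fin_fun]; omega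
  refine exists_between hle ?_ (not_omegaGL_le_subspaceStabilizer hQ (by rw [Fintype.card_fin]; omega) ?_ ?_)
  · obtain ⟨a, haU, haW⟩ : ∃ a ∈ U, a ∉ W := by
      by_contra hcon
      push Not at hcon
      have : finrank F U ≤ finrank F W := Submodule.finrank_mono hcon
      omega
    obtain ⟨w, hw, hw0⟩ : ∃ w ∈ W, w ≠ 0 := by
      apply (Submodule.ne_bot_iff _).1
      intro h
      rw [h, finrank_bot] at hd
      omega
    have hwa : w ∉ Submodule.span F {a} := by
      intro h
      obtain ⟨c, hc⟩ := Submodule.mem_span_singleton.1 h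
      have hc0 : c ≠ 0 := by
        rintro rfl
        rw [zero_smul] at hc
        exact hw0 hc.symm
      exact haW ((W.smul_mem_iff hc0).1 (by rw [hc]; exact hw))
    obtain ⟨b, hb, hbw⟩ := exists_ortho_not hQ _ hwa
    have ha : Q a = 0 := hU a haU
    have hab : polar Q a b = 0 := by rw [pc]; exact hb a (Submodule.mem_span_singleton_self a)
    refine ⟨eich Q a b ha hab, GeoMax.Ort.eich_mem_commutator hQ hN ha hab, ?_, ?_⟩
    · rw [toGL_mem_subspaceStabilizer]
      refine Submodule.eq_of_le_of_finrank_eq ?_ (finrank_map_OGrp _ U)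
      rintro _ ⟨x, hx, rfl⟩
      change (eich Q a b ha hab : (Fin n → F) ≃ₗ[F] (Fin n → F)) x ∈ U
      rw [eich_add ha hab (hU.polar hx haU)]
      exact U.add_mem hx (U.smul_mem _ haU)
    · rw [toGL_mem_subspaceStabilizer]
      intro hmap
      apply haW
      have h1 : (eich Q a b ha hab : (Fin n → F) ≃ₗ[F] (Fin n → F)) w ∈ W := by
        rw [← hmap]; exact ⟨w, hw, rfl⟩
      rw [eich_add ha hab (hU.polar (hWU hw) haU), pc, hbw, one_smul] at h1
      exact (W.add_mem_iff_right hw).1 h1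
  · intro h
    rw [h, finrank_bot] at hUd
    omega
  · intro h
    rw [h, finrank_top, finrank_fin_fun] at hUd
    omega

/-- pairs of maximal totally singular subspaces, odd Witt index -/
theorem ts_pair_le {Q : QuadraticForm F (ι → F)} (hQ : (polarBilin Q).Nondegenerate) (hN : 5 ≤ Fintype.card ι)
    {k : ℕ} (hk : 2 * k = Fintype.card ι) (hko : Odd k) {D : Fin 2 → Submodule F (ι → F)}
    (hD : IsMDecomposition k D) (hts : ∀ i, TS Q (D i)) :
    decompositionStabilizer D ⊓ omegaGL ⇑Q ≤ subspaceStabilizer (D 0) := by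
  have hR : RGrp Q = ⊤ := RGrp_top_of_card hQ (Or.inr (by rw [finrank_fintype_fun_eq_card]; omega))
  refine (inf_omegaGL_le_iff Q _ _).2 fun h hh hM => ?_
  rw [toGL_mem_subspaceStabilizer]
  obtain ⟨σ, hσ⟩ := toGL_mem_decompositionStabilizer.1 hM
  have h0 := hσ 0
  have hdisj : D 0 ⊓ D 1 = ⊥ := by
    have := hD.indep.pairwiseDisjoint (show (0 : Fin 2) ≠ 1 by decide)
    exact this.eq_bot
  have hs : σ 0 = 0 := by
    by_contra hne
    have h1 : σ 0 = 1 := by omega
    rw [h1] at h0
    exact map_ne_of_odd hQ hR (m := k) (by rw [finrank_fintype_fun_eq_card, hk]) hko (hts 0)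
      (hD.finrank_eq 0) hdisj hh h0
  rw [hs] at h0
  exact h0

/-- **row S5698** -/
theorem row5698 {n : ℕ} (hn : 13 ≤ n) (Q : QuadraticForm F (Fin n → F)) (hQ : (polarBilin Q).Nondegenerate)
    (k : ℕ) (hk : 2 * k = n) (hko : Odd k) (D : Fin 2 → Submodule F (Fin n → F))
    (hD : IsMDecomposition k D) (hts : ∀ i, TS Q (D i)) :
    ∃ K : Subgroup (Matrix.GeneralLinearGroup (Fin n) F),
      decompositionStabilizer D ⊓ omegaGL ⇑Q < K ∧ K < omegaGL ⇑Q := by
  have hle := ts_pair_le hQ (by rw [Fintype.card_fin]; omega) (by rw [Fintype.card_fin, hk]) hko hD hts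
  have hN : 7 ≤ finrank F (Fin n → F) := by rw [finrank_fin_fun]; omega
  have hd0 := hD.finrank_eq 0
  have hd1 := hD.finrank_eq 1
  have hdisj : D 0 ⊓ D 1 = ⊥ := by
    have := hD.indep.pairwiseDisjoint (show (0 : Fin 2) ≠ 1 by decide)
    exact this.eq_bot
  refine exists_between hle ?_ (not_omegaGL_le_subspaceStabilizer hQ (by rw [Fintype.card_fin]; omega) ?_ ?_)
  · obtain ⟨a, haU, ha0⟩ : ∃ a ∈ D 0, a ≠ 0 := by
      apply (Submodule.ne_bot_iff _).1
      intro h
      rw [h, finrank_bot] at hd0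
      omega
    have ha : Q a = 0 := hts 0 a haU
    -- `x ∈ D 1` orthogonal to `a`
    obtain ⟨x, hx, hx0, hxa⟩ : ∃ x ∈ D 1, x ≠ 0 ∧ polar Q x a = 0 := by
      have h1 := finrank_inf_perp hQ (Submodule.span F {a}) (D 1)
      rw [hd1, finrank_span_singleton ha0] at h1
      have h2 : finrank F ↥(perp Q (Submodule.span F {a}) ⊓ D 1) ≠ 0 := by
        have := Submodule.finrank_mono (inf_le_left : Submodule.span F {a} ⊓ perp Q (D 1) ≤ Submodule.span F {a})
        rw [finrank_span_singleton ha0] at this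
        omega
      have h3 : perp Q (Submodule.span F {a}) ⊓ D 1 ≠ ⊥ := fun h => h2 (by rw [h, finrank_bot])
      obtain ⟨x, hx, hx0⟩ := (Submodule.ne_bot_iff _).1 h3
      exact ⟨x, hx.2, hx0, by rw [pc]; exact hx.1 a (Submodule.mem_span_singleton_self a)⟩
    have hxa' : x ∉ Submodule.span F {a} := by
      intro h
      apply hx0
      have : x ∈ D 0 ⊓ D 1 := ⟨(Submodule.span_singleton_le_iff_mem _ _).2 haU h, hx⟩
      rw [hdisj] at this
      exact (Submodule.mem_bot F).1 this
    obtain ⟨b, hb, hbx⟩ := exists_ortho_not hQ _ hxa'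
    have hab : polar Q a b = 0 := by rw [pc]; exact hb a (Submodule.mem_span_singleton_self a)
    have hmap0 : (D 0).map ((eich Q a b ha hab : (Fin n → F) ≃ₗ[F] (Fin n → F)) : (Fin n → F) →ₗ[F] (Fin n → F))
        = D 0 := by
      refine Submodule.eq_of_le_of_finrank_eq ?_ (finrank_map_OGrp _ _)
      rintro _ ⟨x, hx, rfl⟩
      change (eich Q a b ha hab : (Fin n → F) ≃ₗ[F] (Fin n → F)) x ∈ D 0
      rw [eich_add ha hab ((hts 0).polar hx haU)]
      exact (D 0).add_mem hx ((D 0).smul_mem _ haU)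
    refine ⟨eich Q a b ha hab, GeoMax.Ort.eich_mem_commutator hQ hN ha hab, ?_, ?_⟩
    · rw [toGL_mem_subspaceStabilizer]; exact hmap0
    · rw [toGL_mem_decompositionStabilizer]
      rintro ⟨σ, hσ⟩
      have h0 := hσ 0
      rw [hmap0] at h0
      have hs0 : σ 0 = 0 := by
        by_contra hne
        have h1 : σ 0 = 1 := by omega
        rw [h1] at h0
        rw [h0, inf_idem] at hdisj
        rw [hdisj, finrank_bot] at hd1
        omega
      have hs1 : σ 1 = 1 := by
        by_contra hne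
        have h1 : σ 1 = 0 := by omega
        have := σ.injective (hs0.trans h1.symm)
        exact absurd this (by decide)
      have h1 := hσ 1
      rw [hs1] at h1
      have h2 : (eich Q a b ha hab : (Fin n → F) ≃ₗ[F] (Fin n → F)) x ∈ D 1 := by
        rw [← h1]; exact ⟨x, hx, rfl⟩
      rw [eich_add ha hab hxa, pc, hbx, one_smul] at h2
      have h3 : a ∈ D 1 := ((D 1).add_mem_iff_right hx).1 h2
      apply ha0
      have : a ∈ D 0 ⊓ D 1 := ⟨haU, h3⟩
      rw [hdisj] at this
      exact (Submodule.mem_bot F).1 this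
  · intro h
    rw [h, finrank_bot] at hd0
    omega
  · intro h
    rw [h, finrank_top, finrank_fin_fun] at hd0
    omega

end conv

end Cfsg.Agent.OCase
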