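import Cfsg.Agent.OCase.PlusTwo
import Cfsg.Agent.AschCases.TvSubfield
import Cfsg.Agent.Asch.FormOrth
import Cfsg.Agent.Asch.FormOfGram

/-!
Subfield subgroups and `Ω`.
-/

set_option autoImplicit false
set_option linter.unusedSectionVars false

namespace Cfsg.Agent.OCase

open QuadraticMap Module Cfsg.Agent.Orth Cfsg.Geo
open scoped Matrix

variable {ι : Type} [Fintype ι] [DecidableEq ι] {F : Type*} [Field F] [Fintype F]

/-- a unipotent `1 + N`, `N² = 0`, in the subfield subgroup has rational `N` -/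
theorem unip_rational (F₀ : Subfield F) {g : Matrix.GeneralLinearGroup ι F} {N : Matrix ι ι F}
    (hg : (g : Matrix ι ι F) = 1 + N) (hN : N * N = 0) {u : ι → F} (hu0 : u ≠ 0) (hu : N *ᵥ u = 0)
    (hmem : g ∈ (Matrix.GeneralLinearGroup.map (F₀.subtype : F₀ →+* F)).range ⊔ scalars ι F) :
    ∀ i j, N i j ∈ F₀ := by
  obtain ⟨g', hg', s, hs, hgs⟩ := Subgroup.mem_sup_of_normal_right.mp hmem
  obtain ⟨g₀, rfl⟩ := hg'
  obtain ⟨c, hc⟩ := (Cfsg.Geo.mem_scalars_iff s).mp hs
  have hent : ∀ x y : ι, (1 + N) x y = (g₀ x y : F) * c := by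
    intro x y
    rw [← hg, ← hgs, Units.val_mul, hc, Matrix.mul_smul, Matrix.mul_one, Matrix.smul_apply, smul_eq_mul, mul_comm]
    rfl
  obtain ⟨τ, hτ, hτ0⟩ := AschCases.exists_powHom F₀
  have hTu : (1 + N) *ᵥ u = u := by rw [Matrix.add_mulVec, hu, add_zero, Matrix.one_mulVec]
  have hτc : τ (c : F) ≠ 0 := (map_ne_zero τ).mpr c.ne_zero
  have hTτ : (1 + N) *ᵥ (fun i => τ (u i)) = ((c : F) * (τ c)⁻¹) • (fun i => τ (u i)) := by
    funext x
    have h1 := congrFun hTu x
    rw [Matrix.mulVec, dotProduct] at h1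
    simp only [hent] at h1
    have h2 := congrArg τ h1
    rw [map_sum] at h2
    simp only [_root_.map_mul, hτ0 _ (g₀ _ _).2] at h2
    rw [Matrix.mulVec, dotProduct, Pi.smul_apply, smul_eq_mul, ← h2]
    simp only [hent]
    rw [Finset.mul_sum]
    refine Finset.sum_congr rfl fun y _ => ?_
    field_simp
  have hτu0 : (fun i => τ (u i)) ≠ 0 := by
    intro h0
    apply hu0
    funext i
    have := congrFun h0 i
    rw [Pi.zero_apply] at this
    exact (map_eq_zero τ).mp this
  have hlam : (c : F) * (τ c)⁻¹ = 1 := by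
    set w : ι → F := fun i => τ (u i) with hw
    set l : F := (c : F) * (τ c)⁻¹ with hl
    have h1 : N *ᵥ w = (l - 1) • w := by
      rw [Matrix.add_mulVec, Matrix.one_mulVec] at hTτ
      rw [sub_smul, one_smul, ← hTτ]; abel
    have h2 : (l - 1) • (l - 1) • w = 0 := by
      rw [← h1, ← Matrix.mulVec_smul, ← h1, Matrix.mulVec_mulVec, hN, Matrix.zero_mulVec]
    rcases smul_eq_zero.1 h2 with h3 | h3
    · exact sub_eq_zero.1 h3
    · rcases smul_eq_zero.1 h3 with h4 | h4
      · exact sub_eq_zero.1 h4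
      · exact absurd h4 hτu0
  have hcF : (c : F) ∈ F₀ := by
    apply AschCases.mem_subfield_of_pow_card
    rw [← hτ]
    field_simp at hlam
    exact hlam.symm
  intro i j
  have h1 := hent i j
  rw [Matrix.add_apply, Matrix.one_apply] at h1
  have h2 : N i j = (g₀ i j : F) * c - (if i = j then 1 else 0) := by rw [← h1]; ring
  rw [h2]
  refine F₀.sub_mem (F₀.mul_mem (g₀ i j).2 hcF) ?_
  split_ifs
  · exact F₀.one_mem
  · exact F₀.zero_mem

theorem exists_sing_triple {V : Type*} [AddCommGroup V] [Module F V] [FiniteDimensional F V]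
    {Q : QuadraticForm F V} (hQ : (polarBilin Q).Nondegenerate) (hN : 5 ≤ finrank F V) :
    ∃ a b c : V, Q a = 0 ∧ Q b = 0 ∧ polar Q a b = 0 ∧ polar Q a c = 1 ∧ polar Q b c = 0 ∧ b ≠ 0 := by
  obtain ⟨a, -, ha0, ha⟩ := GeoMax.Ort.exists_sing_mem Q ⊤ (by rw [finrank_top]; omega)
  obtain ⟨c, hc⟩ : ∃ c, polar Q a c = 1 := by
    obtain ⟨y, hy⟩ : ∃ y, polar Q a y ≠ 0 := by
      by_contra hcon
      push Not at hcon
      exact ha0 (hQ.1 a hcon)
    exact ⟨(polar Q a y)⁻¹ • y, by rw [psr, inv_mul_cancel₀ hy]⟩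
  obtain ⟨b, hb, hb0, hbq⟩ := GeoMax.Ort.exists_sing_mem Q (perp Q (Submodule.span F {a, c})) (by
    have h1 := finrank_perp hQ (Submodule.span F {a, c})
    have h2 : finrank F (Submodule.span F {a, c}) ≤ 2 := by
      classical
      have := finrank_span_finset_le_card (R := F) ({a, c} : Finset V)
      rw [Finset.coe_insert, Finset.coe_singleton] at this
      exact this.trans Finset.card_le_two
    omega)
  refine ⟨a, b, c, ha, hbq, hb _ (Submodule.subset_span (by simp)), hc, ?_, hb0⟩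
  rw [pc]
  exact hb _ (Submodule.subset_span (by simp))

/-- `Ω` is not realisable over a proper subfield -/
theorem not_omegaGL_le_subfieldSubgroup {Q : QuadraticForm F (ι → F)} (hQ : (polarBilin Q).Nondegenerate)
    (hN : 7 ≤ Fintype.card ι) {F₀ : Subfield F} (hF₀ : F₀ ≠ ⊤) (P : Matrix.GeneralLinearGroup ι F) :
    ¬ omegaGL ⇑Q ≤ subfieldSubgroup F₀ P := by
  intro hle
  have hN' : 7 ≤ finrank F (ι → F) := by rwa [finrank_fintype_fun_eq_card]
  obtain ⟨a, b, c, ha, hb, hab, hac, hbc, hb0⟩ := exists_sing_triple hQ (by omega)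
  have haa : polar Q a a = 0 := by rw [pself, ha, mul_zero]
  have hbb : polar Q b b = 0 := by rw [pself, hb, mul_zero]
  have hab' : ∀ r : F, polar Q a (r • b) = 0 := fun r => by rw [psr, hab, mul_zero]
  -- the nilpotent part
  obtain ⟨L, hL⟩ : ∃ L : (ι → F) →ₗ[F] (ι → F), ∀ x, L x = polar Q x b • a - polar Q x a • b := by
    refine ⟨((polarBilin Q).flip b).smulRight a - ((polarBilin Q).flip a).smulRight b, fun x => ?_⟩
    simp
  have hLL : ∀ x, L (L x) = 0 := by
    intro x
    rw [hL (L x), hL x, pdl, pdl, psl, psl, psl, psl, haa, hab, hbb, pc Q b a, hab]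
    simp
  set N : Matrix ι ι F := LinearMap.toMatrix' L with hNdef
  have hNv : ∀ x, N *ᵥ x = L x := fun x => by rw [hNdef, LinearMap.toMatrix'_mulVec]
  have key : ∀ r : F, ∀ i j, r * (((P⁻¹ : Matrix.GeneralLinearGroup ι F) : Matrix ι ι F) * N * (P : Matrix ι ι F)) i j ∈ F₀ := by
    intro r
    have hmem := hle (toGL_mem_omegaGL (GeoMax.Ort.eich_mem_commutator hQ hN' ha (hab' r)))
    obtain ⟨g, hg, hgP⟩ := hmem
    have hg' : g = P⁻¹ * toGL (eich Q a (r • b) ha (hab' r)) * P := by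
      rw [← hgP]
      change g = P⁻¹ * (P * g * P⁻¹) * P
      group
    have hT : (toGL (eich Q a (r • b) ha (hab' r)) : Matrix ι ι F) = 1 + r • N := by
      apply matrix_eq_of_mulVec
      intro x
      rw [toGL_mulVec, eich_apply, Matrix.add_mulVec, Matrix.one_mulVec, Matrix.smul_mulVec, hNv, hL, qsmul, hb,
        psr]
      module
    set N' := ((P⁻¹ : Matrix.GeneralLinearGroup ι F) : Matrix ι ι F) * (r • N) * (P : Matrix ι ι F) with hN'
    have hPP : ((P⁻¹ : Matrix.GeneralLinearGroup ι F) : Matrix ι ι F) * (P : Matrix ι ι F) = 1 := by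
      rw [← Units.val_mul, inv_mul_cancel, Units.val_one]
    have hPP' : (P : Matrix ι ι F) * ((P⁻¹ : Matrix.GeneralLinearGroup ι F) : Matrix ι ι F) = 1 := by
      rw [← Units.val_mul, mul_inv_cancel, Units.val_one]
    have hg1 : (g : Matrix ι ι F) = 1 + N' := by
      rw [hg', Units.val_mul, Units.val_mul, hT, hN', Matrix.mul_add, Matrix.mul_one, Matrix.add_mul, hPP]
    have hNN : N * N = 0 := by
      apply matrix_eq_of_mulVec
      intro x
      rw [← Matrix.mulVec_mulVec, hNv, hNv, hLL, Matrix.zero_mulVec]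
    have hNN' : N' * N' = 0 := by
      rw [hN']
      have : ((P⁻¹ : Matrix.GeneralLinearGroup ι F) : Matrix ι ι F) * (r • N) * (P : Matrix ι ι F) *
          (((P⁻¹ : Matrix.GeneralLinearGroup ι F) : Matrix ι ι F) * (r • N) * (P : Matrix ι ι F)) =
          ((P⁻¹ : Matrix.GeneralLinearGroup ι F) : Matrix ι ι F) * ((r • N) * (((P : Matrix ι ι F) *
          ((P⁻¹ : Matrix.GeneralLinearGroup ι F) : Matrix ι ι F)) * (r • N))) * (P : Matrix ι ι F) := by
        simp only [Matrix.mul_assoc]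
      rw [this, hPP', Matrix.one_mul, Matrix.smul_mul, Matrix.mul_smul N, hNN]
      simp
    have hfix : N' *ᵥ (((P⁻¹ : Matrix.GeneralLinearGroup ι F) : Matrix ι ι F) *ᵥ b) = 0 := by
      rw [hN', Matrix.mulVec_mulVec, Matrix.mul_assoc, hPP', Matrix.mul_one, ← Matrix.mulVec_mulVec,
        Matrix.smul_mulVec, hNv, hL, hbb, pc Q b a, hab]
      simp
    have hne : ((P⁻¹ : Matrix.GeneralLinearGroup ι F) : Matrix ι ι F) *ᵥ b ≠ 0 := by
      intro h0
      apply hb0
      have := congrArg (fun x => (P : Matrix ι ι F) *ᵥ x) h0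
      simp only [Matrix.mulVec_mulVec, hPP', Matrix.one_mulVec, Matrix.mulVec_zero] at this
      exact this
    intro i j
    have := unip_rational F₀ hg1 hNN' hne hfix hg i j
    rw [hN', Matrix.mul_smul, Matrix.smul_mul, Matrix.smul_apply, smul_eq_mul] at this
    exact this
  -- some entry is non-zero
  obtain ⟨i, j, hij⟩ : ∃ i j, (((P⁻¹ : Matrix.GeneralLinearGroup ι F) : Matrix ι ι F) * N * (P : Matrix ι ι F)) i j ≠ 0 := by
    by_contra hcon
    push Not at hcon
    have h0 : ((P⁻¹ : Matrix.GeneralLinearGroup ι F) : Matrix ι ι F) * N * (P : Matrix ι ι F) = 0 := by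
      ext i j; exact hcon i j
    have h1 : N = (P : Matrix ι ι F) * (((P⁻¹ : Matrix.GeneralLinearGroup ι F) : Matrix ι ι F) * N *
        (P : Matrix ι ι F)) * ((P⁻¹ : Matrix.GeneralLinearGroup ι F) : Matrix ι ι F) := by
      have hPP' : (P : Matrix ι ι F) * ((P⁻¹ : Matrix.GeneralLinearGroup ι F) : Matrix ι ι F) = 1 := by
        rw [← Units.val_mul, mul_inv_cancel, Units.val_one]
      rw [Matrix.mul_assoc, Matrix.mul_assoc, Matrix.mul_assoc, hPP', Matrix.mul_one, ← Matrix.mul_assoc, hPP',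
        Matrix.one_mul]
    rw [h0, Matrix.mul_zero, Matrix.zero_mul] at h1
    have h2 := hNv c
    rw [h1, Matrix.zero_mulVec, hL, pc Q c a, hac, pc Q c b, hbc] at h2
    apply hb0
    rw [one_smul, zero_smul, zero_sub] at h2
    exact neg_eq_zero.1 h2.symm
  apply hF₀
  rw [eq_top_iff]
  intro x _
  have h1 := key 1 i j
  have h2 := key x i j
  rw [one_mul] at h1
  have h3 := F₀.mul_mem h2 (F₀.inv_mem h1)
  rwa [mul_assoc, mul_inv_cancel₀ hij, mul_one] at h3

end Cfsg.Agent.OCase
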