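import Cfsg.Agent.OCase.Plane

/-!
Additivity of the type; orthogonal decompositions.
-/

set_option autoImplicit false
set_option linter.unusedSectionVars false

namespace Cfsg.Agent.OCase

open QuadraticMap Module Cfsg.Agent.Orth

variable {F V V₁ V₂ : Type*} [Field F] [AddCommGroup V] [Module F V] [AddCommGroup V₁] [Module F V₁]
  [AddCommGroup V₂] [Module F V₂]

theorem nondeg_of_isom {Q₁ : QuadraticForm F V₁} {Q₂ : QuadraticForm F V₂} (e : V₁ ≃ₗ[F] V₂)
    (h : ∀ v, Q₂ (e v) = Q₁ v) (hQ : (polarBilin Q₁).Nondegenerate) : (polarBilin Q₂).Nondegenerate := by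
  have hp : ∀ x y, polar Q₂ (e x) (e y) = polar Q₁ x y := by
    intro x y
    rw [polar, polar, ← map_add, h, h, h]
  have key : ∀ x : V₂, (∀ y, polar Q₂ x y = 0) → x = 0 := by
    intro x hx
    have h1 : e.symm x = 0 := by
      refine hQ.1 _ fun y => ?_
      rw [pbil, ← hp, LinearEquiv.apply_symm_apply]
      exact hx _
    simpa using h1
  refine ⟨fun x hx => key x hx, fun x hx => key x fun y => ?_⟩
  rw [pc]; exact hx y

variable [FiniteDimensional F V] [FiniteDimensional F V₁] [FiniteDimensional F V₂]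

/-- similitudes of every multiplier exist in even dimension -/
theorem exists_similitude [Finite F] {Q : QuadraticForm F V} (hQ : (polarBilin Q).Nondegenerate)
    (he : Even (finrank F V)) {c : F} (hc : c ≠ 0) : ∃ g : V ≃ₗ[F] V, ∀ v, Q (g v) = c * Q v := by
  cases nonempty_fintype F
  by_cases h0 : finrank F V = 0
  · have hs : Subsingleton V := Module.finrank_zero_iff.1 h0
    exact ⟨LinearEquiv.refl F V, fun v => by
      rw [Subsingleton.elim (LinearEquiv.refl F V v) 0, Subsingleton.elim v 0, QuadraticMap.map_zero, mul_zero]⟩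
  · set e : V ≃ₗ[F] (Fin (finrank F V) → F) := (finBasis F V).equivFun
    set Q' : QuadraticForm F (Fin (finrank F V) → F) := Q.comp (e.symm : (Fin (finrank F V) → F) →ₗ[F] V) with hQ'
    have hQQ' : ∀ v, Q' (e v) = Q v := fun v => by
      rw [hQ', QuadraticMap.comp_apply]
      simp
    have hn := nondeg_of_isom e hQQ' hQ
    obtain ⟨g, hg⟩ := similitude_fin (by
      obtain ⟨k, hk⟩ := he
      omega) he Q' hn c hc
    refine ⟨(e.trans g).trans e.symm, fun v => ?_⟩
    rw [← hQQ', LinearEquiv.trans_apply, LinearEquiv.apply_symm_apply, LinearEquiv.trans_apply, hg, hQQ']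

theorem isPlus_prod_self [Finite F] {Q : QuadraticForm F V} (hQ : (polarBilin Q).Nondegenerate)
    (he : Even (finrank F V)) : IsPlus (Q.prod Q) := by
  obtain ⟨g, hg⟩ := exists_similitude hQ he (c := -1) (by simp)
  refine ⟨LinearMap.range ((LinearMap.id : V →ₗ[F] V).prod (g : V →ₗ[F] V)), ?_, ?_⟩
  · rintro _ ⟨v, rfl⟩
    rw [QuadraticMap.prod_apply]
    change Q v + Q (g v) = 0
    rw [hg]; ring
  · rw [LinearMap.finrank_range_of_inj, Module.finrank_prod]
    · ring
    · intro x y hxy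
      exact (Prod.ext_iff.1 hxy).1

theorem isPlus_prod_of_not [Finite F] {Q₁ : QuadraticForm F V₁} {Q₂ : QuadraticForm F V₂}
    (hQ₁ : (polarBilin Q₁).Nondegenerate) (hQ₂ : (polarBilin Q₂).Nondegenerate)
    (he₁ : Even (finrank F V₁)) (he₂ : Even (finrank F V₂)) (n₁ : ¬ IsPlus Q₁) (n₂ : ¬ IsPlus Q₂)
    (hle : finrank F V₁ ≤ finrank F V₂) : IsPlus (Q₁.prod Q₂) := by
  obtain ⟨a, ha⟩ := he₁
  obtain ⟨b, hb⟩ := he₂
  have hHn := qfPlus_nondegenerate (b - a) F
  have hn3 := prod_nondeg hHn hQ₁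
  have hm : ¬ IsPlus ((qfPlus (b - a) F).prod Q₁) := fun h =>
    n₁ (h.of_prod hHn hQ₁ (isPlus_qfPlus (b - a)))
  obtain ⟨g, hg⟩ := exists_isom_of_type hQ₂ hn3 ⟨b, hb⟩ (by
    rw [Module.finrank_prod, finrank_V]; omega) (by simp [n₂, hm])
  have hs := isPlus_prod_self hQ₁ ⟨a, ha⟩
  have ht : IsPlus ((qfPlus (b - a) F).prod (Q₁.prod Q₁)) := (isPlus_qfPlus (b - a)).prod hs
  -- rearrange
  set e : (V₁ × V₂) ≃ₗ[F] ((Fin (b - a) ⊕ Fin (b - a) → F) × (V₁ × V₁)) :=
    { toFun := fun x => ((g x.2).1, (x.1, (g x.2).2))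
      map_add' := fun x y => by
        simp only [Prod.fst_add, Prod.snd_add, map_add, Prod.mk_add_mk]
      map_smul' := fun c x => by
        simp only [Prod.smul_fst, Prod.smul_snd, map_smul, RingHom.id_apply, Prod.smul_mk]
      invFun := fun y => (y.2.1, g.symm (y.1, y.2.2))
      left_inv := fun x => by simp
      right_inv := fun y => by simp } with he
  refine (isPlus_congr e ?_).2 ht
  intro x
  rw [QuadraticMap.prod_apply, QuadraticMap.prod_apply, QuadraticMap.prod_apply, ← hg,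
    QuadraticMap.prod_apply]
  change qfPlus (b - a) F (g x.2).1 + (Q₁ x.1 + Q₁ (g x.2).2) = _
  ring

theorem isPlus_prod_comm {Q₁ : QuadraticForm F V₁} {Q₂ : QuadraticForm F V₂} :
    IsPlus (Q₁.prod Q₂) ↔ IsPlus (Q₂.prod Q₁) :=
  isPlus_congr (LinearEquiv.prodComm F V₁ V₂) (fun v => by
    rw [QuadraticMap.prod_apply, QuadraticMap.prod_apply]; exact add_comm _ _)

/-- **additivity of the type** -/
theorem isPlus_prod_iff [Finite F] {Q₁ : QuadraticForm F V₁} {Q₂ : QuadraticForm F V₂}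
    (hQ₁ : (polarBilin Q₁).Nondegenerate) (hQ₂ : (polarBilin Q₂).Nondegenerate)
    (he₁ : Even (finrank F V₁)) (he₂ : Even (finrank F V₂)) :
    IsPlus (Q₁.prod Q₂) ↔ (IsPlus Q₁ ↔ IsPlus Q₂) := by
  by_cases h1 : IsPlus Q₁
  · rw [isPlus_prod_iff_of_left hQ₁ hQ₂ h1]; simp [h1]
  by_cases h2 : IsPlus Q₂
  · rw [isPlus_prod_comm, isPlus_prod_iff_of_left hQ₂ hQ₁ h2]
    simp [h1, h2]
  simp only [h1, h2, iff_true]
  rcases le_total (finrank F V₁) (finrank F V₂) with h | h
  · exact isPlus_prod_of_not hQ₁ hQ₂ he₁ he₂ h1 h2 h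
  · exact isPlus_prod_comm.2 (isPlus_prod_of_not hQ₂ hQ₁ he₂ he₁ h2 h1 h)

/-! ### Subspaces -/

theorem isPlus_restrict_iff {Q : QuadraticForm F V} {W : Submodule F V} :
    IsPlus (Q.restrict W) ↔ ∃ U : Submodule F V, U ≤ W ∧ TS Q U ∧ 2 * finrank F U = finrank F W := by
  constructor
  · rintro ⟨U, hU, hd⟩
    refine ⟨U.map W.subtype, ?_, ?_, ?_⟩
    · rintro _ ⟨x, -, rfl⟩; exact x.2
    · rintro _ ⟨x, hx, rfl⟩; exact hU x hx
    · rw [Submodule.finrank_map_subtype_eq]
      exact hd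
  · rintro ⟨U, hUW, hU, hd⟩
    refine ⟨U.comap W.subtype, fun x hx => hU _ hx, ?_⟩
    rw [(Submodule.comapSubtypeEquivOfLe hUW).finrank_eq]
    exact hd

/-- a non-degenerate subspace splits off -/
noncomputable def splitEquiv (Q : QuadraticForm F V) (hQ : (polarBilin Q).Nondegenerate) (W : Submodule F V)
    (hW : W ⊓ perp Q W = ⊥) : (W × perp Q W) ≃ₗ[F] V :=
  Submodule.prodEquivOfIsCompl W (perp Q W) ⟨disjoint_iff.2 hW, codisjoint_iff.2 (sup_perp_eq_top hQ hW)⟩

theorem splitEquiv_q (Q : QuadraticForm F V) (hQ : (polarBilin Q).Nondegenerate) (W : Submodule F V)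
    (hW : W ⊓ perp Q W = ⊥) (x : W × perp Q W) :
    Q (splitEquiv Q hQ W hW x) = ((Q.restrict W).prod (Q.restrict (perp Q W))) x := by
  rw [QuadraticMap.prod_apply, splitEquiv, Submodule.coe_prodEquivOfIsCompl', qadd]
  have : polar Q (x.1 : V) (x.2 : V) = 0 := x.2.2 _ x.1.2
  rw [this, add_zero]
  rfl

theorem isPlus_iff_of_split [Finite F] {Q : QuadraticForm F V} (hQ : (polarBilin Q).Nondegenerate)
    {W : Submodule F V} (hW : W ⊓ perp Q W = ⊥) (he : Even (finrank F W)) (heV : Even (finrank F V)) :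
    IsPlus Q ↔ (IsPlus (Q.restrict W) ↔ IsPlus (Q.restrict (perp Q W))) := by
  rw [← isPlus_prod_iff (nondegenerate_restrict hW) (nondegenerate_restrict (perp_inf_eq_bot hQ hW)) he]
  · exact (isPlus_congr (splitEquiv Q hQ W hW) (splitEquiv_q Q hQ W hW)).symm
  · have h1 := finrank_perp hQ W
    obtain ⟨a, ha⟩ := he
    obtain ⟨b, hb⟩ := heV
    exact ⟨b - a, by omega⟩

/-- in even characteristic a non-degenerate space has even dimension -/
theorem even_finrank_of_two_eq_zero [Finite F] {Q : QuadraticForm F V} (hQ : (polarBilin Q).Nondegenerate)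
    (h2 : (2 : F) = 0) : Even (finrank F V) := by
  by_contra hodd
  rw [Nat.not_even_iff_odd] at hodd
  obtain ⟨k, hk⟩ := hodd
  obtain ⟨e, f, h⟩ := exists_isHyp hQ k (by omega)
  have hd := finrank_perp hQ (hypSpan F e f)
  rw [h.finrank, Fintype.card_fin, hk] at hd
  have hn := nondegenerate_restrict (perp_inf_eq_bot hQ h.inf_perp)
  have hd1 : finrank F (perp Q (hypSpan F e f)) = 1 := by omega
  obtain ⟨v, hv0, hv⟩ := finrank_eq_one_iff'.1 hd1
  apply hv0
  refine hn.1 v fun y => ?_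
  obtain ⟨c, rfl⟩ := hv y
  rw [pbil, psr, pself, h2, zero_mul, mul_zero]

end Cfsg.Agent.OCase
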