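import Cfsg.Agent.OCase.Basic
import Cfsg.Agent.OCase.Std

/-!
Plus and minus type of even-dimensional quadratic spaces over finite fields.
-/

set_option autoImplicit false
set_option linter.unusedSectionVars false

namespace Cfsg.Agent.OCase

open QuadraticMap Module Cfsg.Agent.Orth

variable {F V V₁ V₂ : Type*} [Field F] [AddCommGroup V] [Module F V] [AddCommGroup V₁] [Module F V₁]
  [AddCommGroup V₂] [Module F V₂]

/-- plus type: there is a totally singular subspace of half the dimension -/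
def IsPlus (Q : QuadraticForm F V) : Prop := ∃ U : Submodule F V, TS Q U ∧ 2 * finrank F U = finrank F V

theorem IsPlus.congr {Q : QuadraticForm F V₁} {Q' : QuadraticForm F V₂} (e : V₁ ≃ₗ[F] V₂)
    (h : ∀ v, Q' (e v) = Q v) (hp : IsPlus Q) : IsPlus Q' := by
  obtain ⟨U, hU, hUd⟩ := hp
  refine ⟨U.map (e : V₁ →ₗ[F] V₂), ?_, ?_⟩
  · rintro _ ⟨x, hx, rfl⟩
    exact (h x).trans (hU x hx)
  · rw [LinearEquiv.finrank_map_eq e U, hUd]
    exact LinearEquiv.finrank_eq e

theorem isPlus_congr {Q : QuadraticForm F V₁} {Q' : QuadraticForm F V₂} (e : V₁ ≃ₗ[F] V₂)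
    (h : ∀ v, Q' (e v) = Q v) : IsPlus Q ↔ IsPlus Q' :=
  ⟨IsPlus.congr e h, IsPlus.congr e.symm fun v => by rw [← h, LinearEquiv.apply_symm_apply]⟩

theorem isPlus_smul_iff {Q : QuadraticForm F V} {c : F} (hc : c ≠ 0) : IsPlus (c • Q) ↔ IsPlus Q := by
  constructor
  · rintro ⟨U, hU, hd⟩
    refine ⟨U, fun u hu => ?_, hd⟩
    have := hU u hu
    rw [_root_.smul_apply, smul_eq_mul] at this
    exact (mul_eq_zero.1 this).resolve_left hc
  · rintro ⟨U, hU, hd⟩
    exact ⟨U, fun u hu => by rw [_root_.smul_apply, hU u hu, smul_zero], hd⟩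

theorem exists_sub_finrank [FiniteDimensional F V] (U : Submodule F V) {k : ℕ} (hk : k ≤ finrank F U) :
    ∃ U' ≤ U, finrank F U' = k := by
  set b := finBasis F U
  refine ⟨Submodule.span F (Set.range fun i : Fin k => ((b (Fin.castLE hk i) : U) : V)), ?_, ?_⟩
  · rw [Submodule.span_le]
    rintro _ ⟨i, rfl⟩
    exact (b (Fin.castLE hk i)).2
  · have hli : LinearIndependent F fun i : Fin k => ((b (Fin.castLE hk i) : U) : V) := by
      have h1 := b.linearIndependent.comp (Fin.castLE hk) (Fin.castLE_injective hk)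
      exact h1.map' U.subtype (Submodule.ker_subtype U)
    rw [finrank_span_eq_card hli, Fintype.card_fin]

theorem TS_finrank_le [FiniteDimensional F V] {Q : QuadraticForm F V} (hQ : (polarBilin Q).Nondegenerate)
    {U : Submodule F V} (hU : TS Q U) : 2 * finrank F U ≤ finrank F V := by
  have h1 := Submodule.finrank_mono hU.le_perp
  have h2 := finrank_perp hQ U
  omega

/-- in a space of plus type every totally singular subspace is contained in one of half the dimension -/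
theorem TS_extend [FiniteDimensional F V] {Q : QuadraticForm F V} (hQ : (polarBilin Q).Nondegenerate)
    (hp : IsPlus Q) {U₁ : Submodule F V} (h1 : TS Q U₁) :
    ∃ U, U₁ ≤ U ∧ TS Q U ∧ 2 * finrank F U = finrank F V := by
  obtain ⟨U₀, h0, h0d⟩ := hp
  have h2 := TS_finrank_le hQ h1
  obtain ⟨U', hU', hd⟩ := exists_sub_finrank U₀ (k := finrank F U₁) (by omega)
  obtain ⟨g, hg⟩ := exists_isom_map_TS hQ (h0.mono hU') h1 hd rfl
  refine ⟨U₀.map ((g : V ≃ₗ[F] V) : V →ₗ[F] V), ?_, h0.map g, ?_⟩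
  · rw [← hg]; exact Submodule.map_mono hU'
  · rw [finrank_map_OGrp, h0d]

theorem prod_nondeg {Q₁ : QuadraticForm F V₁} {Q₂ : QuadraticForm F V₂} (h1 : (polarBilin Q₁).Nondegenerate)
    (h2 : (polarBilin Q₂).Nondegenerate) : (polarBilin (Q₁.prod Q₂)).Nondegenerate := by
  have key : ∀ x : V₁ × V₂, (∀ y, polar (Q₁.prod Q₂) x y = 0) → x = 0 := by
    intro x hx
    apply Prod.ext
    · refine h1.1 _ fun y => ?_
      have := hx (y, 0)
      rw [polar_prod] at this
      simpa using this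
    · refine h2.1 _ fun y => ?_
      have := hx (0, y)
      rw [polar_prod] at this
      simpa using this
  refine ⟨fun x hx => key x hx, fun x hx => key x fun y => ?_⟩
  rw [pc]; exact hx y

/-- the product of two submodules as a product of types -/
def prodEquivT (U₁ : Submodule F V₁) (U₂ : Submodule F V₂) : ↥(U₁.prod U₂) ≃ₗ[F] ↥U₁ × ↥U₂ where
  toFun x := (⟨x.1.1, x.2.1⟩, ⟨x.1.2, x.2.2⟩)
  map_add' _ _ := rfl
  map_smul' _ _ := rfl
  invFun x := ⟨(x.1.1, x.2.1), ⟨x.1.2, x.2.2⟩⟩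
  left_inv _ := rfl
  right_inv _ := rfl

theorem finrank_prodT [FiniteDimensional F V₁] [FiniteDimensional F V₂] (U₁ : Submodule F V₁)
    (U₂ : Submodule F V₂) : finrank F ↥(U₁.prod U₂) = finrank F U₁ + finrank F U₂ := by
  rw [(prodEquivT U₁ U₂).finrank_eq, Module.finrank_prod]

theorem IsPlus.prod {Q₁ : QuadraticForm F V₁} {Q₂ : QuadraticForm F V₂} [FiniteDimensional F V₁]
    [FiniteDimensional F V₂] (h1 : IsPlus Q₁)
    (h2 : IsPlus Q₂) : IsPlus (Q₁.prod Q₂) := by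
  obtain ⟨U₁, hU₁, hd₁⟩ := h1
  obtain ⟨U₂, hU₂, hd₂⟩ := h2
  refine ⟨U₁.prod U₂, ?_, ?_⟩
  · rintro ⟨x, y⟩ ⟨hx, hy⟩
    rw [QuadraticMap.prod_apply, hU₁ x hx, hU₂ y hy, add_zero]
  · rw [finrank_prodT, Module.finrank_prod]
    omega

/-- cancellation -/
theorem IsPlus.of_prod {Q₁ : QuadraticForm F V₁} {Q₂ : QuadraticForm F V₂} [FiniteDimensional F V₁]
    [FiniteDimensional F V₂] (hQ₁ : (polarBilin Q₁).Nondegenerate) (hQ₂ : (polarBilin Q₂).Nondegenerate)
    (h : IsPlus (Q₁.prod Q₂)) (h1 : IsPlus Q₁) : IsPlus Q₂ := by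
  obtain ⟨U₁, hU₁, hd₁⟩ := h1
  have hT : TS (Q₁.prod Q₂) (U₁.prod ⊥) := by
    rintro ⟨x, y⟩ ⟨hx, hy⟩
    rw [SetLike.mem_coe, Submodule.mem_bot] at hy
    change y = 0 at hy
    rw [QuadraticMap.prod_apply, hU₁ x hx, hy, QuadraticMap.map_zero, add_zero]
  obtain ⟨U, hle, hU, hd⟩ := TS_extend (prod_nondeg hQ₁ hQ₂) h hT
  have hU₁U : ∀ x ∈ U₁, ((x, 0) : V₁ × V₂) ∈ U := fun x hx => hle ⟨hx, Submodule.zero_mem _⟩
  have hperp : perp Q₁ U₁ = U₁ :=
    hU₁.perp_eq hQ₁ (m := finrank F U₁) hd₁.symm rfl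
  have hfst : ∀ p ∈ U, p.1 ∈ U₁ := by
    intro p hp
    rw [← hperp]
    intro u hu
    have := hU.polar (hU₁U u hu) hp
    rw [polar_prod] at this
    change polar Q₁ u p.1 = 0
    simpa using this
  have heq : U = U₁.prod (U.comap (LinearMap.inr F V₁ V₂)) := by
    ext p
    obtain ⟨x, y⟩ := p
    constructor
    · intro hp
      have hx := hfst _ hp
      refine ⟨hx, ?_⟩
      have := U.sub_mem hp (hU₁U x hx)
      rw [Prod.mk_sub_mk, sub_self, sub_zero] at this
      exact this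
    · rintro ⟨hx, hy⟩
      have := U.add_mem (hU₁U x hx) (show ((0 : V₁), y) ∈ U from hy)
      rwa [Prod.mk_add_mk, add_zero, zero_add] at this
  refine ⟨U.comap (LinearMap.inr F V₁ V₂), ?_, ?_⟩
  · intro y hy
    have := hU _ (show ((0 : V₁), y) ∈ U from hy)
    rwa [QuadraticMap.prod_apply, QuadraticMap.map_zero, zero_add] at this
  · have h3 : finrank F U = finrank F U₁ + finrank F ↥(U.comap (LinearMap.inr F V₁ V₂)) := by
      conv_lhs => rw [heq]
      exact finrank_prodT _ _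
    rw [Module.finrank_prod] at hd
    omega

theorem isPlus_prod_iff_of_left {Q₁ : QuadraticForm F V₁} {Q₂ : QuadraticForm F V₂} [FiniteDimensional F V₁]
    [FiniteDimensional F V₂] (hQ₁ : (polarBilin Q₁).Nondegenerate) (hQ₂ : (polarBilin Q₂).Nondegenerate)
    (h1 : IsPlus Q₁) : IsPlus (Q₁.prod Q₂) ↔ IsPlus Q₂ :=
  ⟨fun h => h.of_prod hQ₁ hQ₂ h1, fun h => h1.prod h⟩

end Cfsg.Agent.OCase
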